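import Cfsg.Agent.Lib.RankInt.Cyclic
import Cfsg.Agent.Lib.AfterFT.FixInvolutions
import Cfsg.Agent.Lib.BinaryCoset.FromBender
import Cfsg.Agent.Lib.Bender.GoodAll
import Cfsg.Agent.Lib.Bender.Q.Main
import Cfsg.Agent.Lib.CentralInt.Engine

/-!
A quasisimple group with non-trivial centre, Sylow 2-subgroups of rank at least two and the intersection property
has TI Sylow 2-subgroups modulo the centre.

Blueprint: `blueprint/bender/S3310.md`.
-/

set_option autoImplicit false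
set_option linter.unusedSectionVars false
set_option linter.style.haveILetI false

namespace CfsgLib.RankInt

open Subgroup
open scoped commutatorElement
open CfsgLib.CyclicInt (Inv2)

universe u

variable {L : Type u} [Group L] [Finite L]

/-- In a perfect group a central element of 2-power order of a Sylow 2-subgroup lies in its commutator subgroup. -/
theorem mem_commutator_of_center (hP : commutator L = ⊤) (T : Sylow 2 L) {u : L} (hu : u ∈ center L)
    (huT : u ∈ (T : Subgroup L)) : (⟨u, huT⟩ : ↥(T : Subgroup L)) ∈ commutator ↥(T : Subgroup L) := by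
  haveI : Fact (Nat.Prime 2) := ⟨Nat.prime_two⟩
  let φ : ↥(T : Subgroup L) →* Abelianization ↥(T : Subgroup L) := Abelianization.of
  have h1 : MonoidHom.transfer φ = 1 :=
    MonoidHom.ext fun x => by
      have hle : commutator L ≤ (MonoidHom.transfer φ).ker := Abelianization.commutator_subset_ker _
      exact hle (hP ▸ mem_top x)
  have key : ∀ (k : ℕ) (g₀ : L), g₀⁻¹ * u ^ k * g₀ ∈ (T : Subgroup L) → g₀⁻¹ * u ^ k * g₀ = u ^ k := fun k g₀ _ => by
    rw [mul_assoc, ← mem_center_iff.mp (pow_mem hu k) g₀, inv_mul_cancel_left]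
  have h2 := MonoidHom.transfer_eq_pow φ u key
  rw [h1, MonoidHom.one_apply, show (⟨u ^ (T : Subgroup L).index, MonoidHom.transfer_eq_pow_aux u key⟩ :
    ↥(T : Subgroup L)) = (⟨u, huT⟩ : ↥(T : Subgroup L)) ^ (T : Subgroup L).index from Subtype.ext rfl, map_pow] at h2
  rw [← Abelianization.ker_of ↥(T : Subgroup L), MonoidHom.mem_ker]
  show φ ⟨u, huT⟩ = 1
  obtain ⟨k, hk⟩ := T.2 ⟨u, huT⟩
  refine orderOf_eq_one_iff.mp (Nat.eq_one_of_dvd_coprimes ?_ (orderOf_dvd_of_pow_eq_one (by rw [← map_pow, hk, map_one] :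
    φ ⟨u, huT⟩ ^ 2 ^ k = 1)) (orderOf_dvd_of_pow_eq_one h2.symm))
  exact Nat.Coprime.pow_left k (Nat.coprime_two_left.mpr
    (Nat.not_even_iff_odd.mp fun h => T.not_dvd_index h.two_dvd))

/-- The elements near to a given one. -/
def nearTo {G : Type u} [Group G] {z : G} (hz2 : z * z = 1) (hzc : ∀ g, g * z = z * g) (b : G) : Subgroup G where
  carrier := {a | In2 z (a * b * a⁻¹ * b⁻¹)}
  one_mem' := Or.inl (by group)
  mul_mem' := fun {a a'} ha ha' => by
    show In2 z (a * a' * b * (a * a')⁻¹ * b⁻¹)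
    rw [show a * a' * b * (a * a')⁻¹ * b⁻¹ = a * (a' * b * a'⁻¹ * b⁻¹) * a⁻¹ * (a * b * a⁻¹ * b⁻¹) by group]
    rcases ha' with e | e <;> rcases ha with e' | e' <;> rw [e, e']
    · exact Or.inl (by group)
    · exact Or.inr (by group)
    · exact Or.inr (by rw [mul_one, hzc a, mul_inv_cancel_right])
    · exact Or.inl (by rw [hzc a, mul_inv_cancel_right, hz2])
  inv_mem' := fun {a} ha => by
    show In2 z (a⁻¹ * b * a⁻¹⁻¹ * b⁻¹)
    rw [show a⁻¹ * b * a⁻¹⁻¹ * b⁻¹ = a⁻¹ * (a * b * a⁻¹ * b⁻¹)⁻¹ * a by group]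
    rcases ha with e | e <;> rw [e]
    · exact Or.inl (by group)
    · exact Or.inr (by rw [inv_eq_of_mul_eq_one_right hz2, hzc a⁻¹, mul_assoc, inv_mul_cancel, mul_one])

theorem In2.inv {G : Type u} [Group G] {z v : G} (hz2 : z * z = 1) (h : In2 z v) : In2 z v⁻¹ := by
  rcases h with rfl | rfl
  exacts [Or.inl inv_one, Or.inr (inv_eq_of_mul_eq_one_right hz2)]

/-- A normalised set of elements near to each other absorbs the action of the group. -/
theorem exists_absorb {T P : Subgroup L} {z : L} (hz1 : z ≠ 1) (hz2 : z * z = 1) (hzc : ∀ g, g * z = z * g)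
    (hzP : z ∈ P) (hPT : P ≤ T) (hnear : ∀ p ∈ P, ∀ t ∈ T, In2 z (t * p * t⁻¹ * p⁻¹))
    (hsq : ∀ p ∈ P, In2 z (p * p)) (hcen : ∀ p ∈ P, (∀ q ∈ P, p * q = q * p) → In2 z p) {t : L} (ht : t ∈ T) :
    ∃ p ∈ P, ∀ q ∈ P, p⁻¹ * t * q = q * (p⁻¹ * t) := by
  classical
  haveI : Fact (Nat.Prime 2) := ⟨Nat.prime_two⟩
  let Z : Subgroup L := zpowers z
  have hIn : ∀ {v : L}, In2 z v → v ∈ Z := fun {v} h => by
    rcases h with rfl | rfl
    exacts [one_mem _, mem_zpowers _]
  haveI hZn : Z.Normal := ⟨fun v hv g => by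
    obtain ⟨i, rfl⟩ := mem_zpowers_iff.mp hv
    rw [((show Commute g z from hzc g).zpow_right i).eq, mul_inv_cancel_right]
    exact zpow_mem (mem_zpowers z) i⟩
  let Zs : Subgroup P := Z.subgroupOf P
  haveI : Zs.Normal := hZn.subgroupOf P
  have hQc : ∀ a b : P ⧸ Zs, a * b = b * a := by
    intro a b
    induction a using QuotientGroup.induction_on with | _ a =>
    induction b using QuotientGroup.induction_on with | _ b =>
    refine (QuotientGroup.eq_iff_div_mem.mpr ?_).symm.symm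
    show (((a * b) / (b * a) : P) : L) ∈ Z
    rw [div_eq_mul_inv, mul_inv_rev]
    simp only [Subgroup.coe_mul, Subgroup.coe_inv]
    rw [← mul_assoc]
    exact hIn (hnear b b.2 a (hPT a.2))
  letI : CommGroup (P ⧸ Zs) := { (inferInstance : Group (P ⧸ Zs)) with mul_comm := hQc }
  have hQ2 : ∀ v : Additive (P ⧸ Zs), v + v = 0 := fun v => by
    refine Additive.toMul.injective ?_
    show Additive.toMul v * Additive.toMul v = 1
    induction Additive.toMul v using QuotientGroup.induction_on with | _ a =>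
    exact (QuotientGroup.eq_one_iff _).mpr (mem_subgroupOf.mpr (hIn (hsq a a.2)))
  let e : Z ≃* Multiplicative (ZMod 2) := mulEquivOfPrimeCardEq (p := 2)
    (by rw [Nat.card_zpowers]; exact orderOf_eq_prime (by rw [pow_two, hz2]) hz1) (by simp)
  -- the character of an element
  let c : ∀ s ∈ T, P →* Z := fun s hs =>
    { toFun := fun p => ⟨s * p * s⁻¹ * (p : L)⁻¹, hIn (hnear p p.2 s hs)⟩
      map_one' := Subtype.ext (by simp)
      map_mul' := fun p q => Subtype.ext (by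
        simp only [Subgroup.coe_mul]
        have hq := hnear q q.2 s hs
        have hcq : (p : L) * (s * q * s⁻¹ * (q : L)⁻¹) = s * q * s⁻¹ * (q : L)⁻¹ * p := by
          rcases hq with h | h <;> rw [h]
          · rw [mul_one, one_mul]
          · exact hzc p
        calc s * (↑p * ↑q) * s⁻¹ * ((p : L) * q)⁻¹
            = s * p * s⁻¹ * ((s * q * s⁻¹ * (q : L)⁻¹) * (p : L)⁻¹) := by group
          _ = s * p * s⁻¹ * ((p : L)⁻¹ * ((p : L) * (s * q * s⁻¹ * (q : L)⁻¹)) * (p : L)⁻¹) := by group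
          _ = s * p * s⁻¹ * (p : L)⁻¹ * (s * q * s⁻¹ * (q : L)⁻¹) := by rw [hcq]; group) }
  have hc : ∀ s (hs : s ∈ T), Zs ≤ (e.toMonoidHom.comp (c s hs)).ker := fun s hs p hp => by
    show e (c s hs p) = 1
    rw [show c s hs p = 1 from Subtype.ext ?_, map_one]
    show s * p * s⁻¹ * (p : L)⁻¹ = 1
    obtain ⟨i, hi⟩ := mem_zpowers_iff.mp (mem_subgroupOf.mp hp)
    rw [← hi, ((show Commute s z from hzc s).zpow_right i).eq, mul_inv_cancel_right, mul_inv_cancel]
  let χ : ∀ s ∈ T, Additive (P ⧸ Zs) →+ ZMod 2 := fun s hs =>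
    MonoidHom.toAdditiveLeft (QuotientGroup.lift Zs (e.toMonoidHom.comp (c s hs)) (hc s hs))
  have hχ : ∀ a (ha : a ∈ T) b (hb : b ∈ T), χ a ha = χ b hb → ∀ q ∈ P, b⁻¹ * a * q = q * (b⁻¹ * a) := by
    intro a ha b hb h q hq
    have h1 : c a ha ⟨q, hq⟩ = c b hb ⟨q, hq⟩ :=
      e.injective (DFunLike.congr_fun h (Additive.ofMul (QuotientGroup.mk (⟨q, hq⟩ : P) : P ⧸ Zs)))
    have h2 : a * q * a⁻¹ = b * q * b⁻¹ := mul_right_cancel (congrArg Subtype.val h1)
    calc b⁻¹ * a * q = b⁻¹ * (a * q * a⁻¹) * a := by group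
      _ = q * (b⁻¹ * a) := by rw [h2]; group
  let f : Additive (P ⧸ Zs) → (Additive (P ⧸ Zs) →+ ZMod 2) := fun v =>
    χ (Quotient.out (Additive.toMul v) : P) (hPT (Quotient.out (Additive.toMul v) : P).2)
  have hf : Function.Injective f := fun v w h => by
    refine Additive.toMul.injective ?_
    rw [← QuotientGroup.out_eq' (Additive.toMul v), ← QuotientGroup.out_eq' (Additive.toMul w)]
    refine (QuotientGroup.eq.mpr (mem_subgroupOf.mpr (hIn (hcen _ (SetLike.coe_mem _) fun q hq => ?_)))).symm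
    simp only [Subgroup.coe_mul, Subgroup.coe_inv]
    exact hχ _ (hPT (SetLike.coe_mem _)) _ (hPT (SetLike.coe_mem _)) h q hq
  haveI : Finite (Additive (P ⧸ Zs) →+ ZMod 2) := Finite.of_injective _ DFunLike.coe_injective
  obtain ⟨v, hv⟩ := ((Nat.bijective_iff_injective_and_card f).mpr
    ⟨hf, (CfsgLib.AfterFT.FixInvolutions.card_dual hQ2).symm⟩).2 (χ t ht)
  exact ⟨_, SetLike.coe_mem _, hχ t ht _ (hPT (SetLike.coe_mem _)) hv.symm⟩

section Setup

variable (hL : commutator L = ⊤) (h : RI L) {z : L} (hz : Inv2 z) (hzc : z ∈ center L)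
  (huniq : ∀ v ∈ center L, v * v = 1 → In2 z v) (T : Sylow 2 L)

include h hz hzc

theorem mem_sylow : z ∈ (T : Subgroup L) :=
  hz.two.mem_of_normalizer T (mem_normalizer_iff.mpr fun v => by
    rw [← mem_center_iff.mp hzc v, mul_inv_cancel_right])

theorem fusion {x g : L} (hx : x * x = 1) (hx' : ¬ In2 z x) (hxT : x ∈ (T : Subgroup L))
    (hg : g * x * g⁻¹ ∈ (T : Subgroup L)) : g ∈ normalizer ((T : Subgroup L) : Set L) := by
  refine h.normalizes ⟨fun e => hx' (Or.inl e), hx⟩ hz (fun e => hx' (Or.inr e)) (mem_center_iff.mp hzc x)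
    hxT (mem_sylow h hz hzc T) hg ?_
  rw [mem_center_iff.mp hzc g, mul_inv_cancel_right]
  exact mem_sylow h hz hzc T

/-- An invariant subgroup of index two contains every involution. -/
theorem false_of_index_two (hL : commutator L = ⊤) {A : Subgroup L} (hA : A ≤ (T : Subgroup L))
    (h2 : A.relIndex (T : Subgroup L) = 2) (hzA : z ∈ A)
    (hinv : ∀ n ∈ normalizer ((T : Subgroup L) : Set L), ∀ a ∈ A, n * a * n⁻¹ ∈ A) {x : L} (hx : x * x = 1)
    (hxT : x ∈ (T : Subgroup L)) (hxA : x ∉ A) : False := by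
  have hx' : ¬ In2 z x := by
    rintro (rfl | rfl)
    exacts [hxA (one_mem _), hxA hzA]
  obtain ⟨g, hg⟩ := exists_conj_of_perfect hL T hA h2 hx
  have hn := fusion h hz hzc T hx hx' hxT (hA hg)
  have := hinv g⁻¹ (inv_mem hn) _ hg
  rw [inv_inv, show g⁻¹ * (g * x * g⁻¹) * g = x by group] at this
  exact hxA this

theorem exists_good (hL : commutator L = ⊤) (huniq : ∀ v ∈ center L, v * v = 1 → In2 z v)
    [IsSimpleGroup (L ⧸ center L)] (hna : ¬ IsMulCommutative (L ⧸ center L)) {x0 : L} (hx0 : x0 * x0 = 1)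
    (hx0' : ¬ In2 z x0) (hx0T : x0 ∈ (T : Subgroup L)) :
    ∃ A : Subgroup L, A ≤ (T : Subgroup L) ∧ (∀ n ∈ normalizer ((T : Subgroup L) : Set L), ∀ a ∈ A, n * a * n⁻¹ ∈ A) ∧
      (∀ a ∈ A, a * a = 1) ∧ ∃ a ∈ A, ¬ In2 z a := by
  classical
  haveI : Fact (Nat.Prime 2) := ⟨Nat.prime_two⟩
  have hz2 := hz.2
  have hzi : z⁻¹ = z := inv_eq_of_mul_eq_one_right hz2
  have hc : ∀ g : L, g * z = z * g := fun g => mem_center_iff.mp hzc g
  have hzT := mem_sylow h hz hzc T
  set N := normalizer ((T : Subgroup L) : Set L) with hN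
  have hNT : ∀ n ∈ N, ∀ t ∈ (T : Subgroup L), n * t * n⁻¹ ∈ (T : Subgroup L) := fun n hn t ht =>
    (mem_normalizer_iff.mp hn t).mp ht
  have hconjIn : ∀ {n v : L}, In2 z v → In2 z (n * v * n⁻¹) := fun {n v} hv => by
    rcases hv with rfl | rfl
    · exact Or.inl (by group)
    · exact Or.inr (by rw [hc n, mul_inv_cancel_right])
  -- the involutions central modulo `z`
  let Y : Set L := {x | x ∈ (T : Subgroup L) ∧ x * x = 1 ∧ ∀ t ∈ (T : Subgroup L), In2 z (t * x * t⁻¹ * x⁻¹)}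
  have hYinv : ∀ n ∈ N, ∀ x ∈ Y, n * x * n⁻¹ ∈ Y := fun n hn x hx => by
    refine ⟨hNT n hn x hx.1, by rw [conj_mul, hx.2.1, mul_one, mul_inv_cancel], fun t ht => ?_⟩
    have ht' := hNT n⁻¹ (inv_mem hn) t ht
    rw [inv_inv] at ht'
    have := hconjIn (n := n) (hx.2.2 _ ht')
    rwa [show n * (n⁻¹ * t * n * x * (n⁻¹ * t * n)⁻¹ * x⁻¹) * n⁻¹ =
      t * (n * x * n⁻¹) * t⁻¹ * (n * x * n⁻¹)⁻¹ by group] at this
  set P0 := closure Y with hP0
  have hzY : z ∈ Y := ⟨hzT, hz2, fun t _ => Or.inl (by rw [hc t, mul_inv_cancel_right, mul_inv_cancel])⟩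
  have hP0T : P0 ≤ (T : Subgroup L) := (closure_le _).mpr fun x hx => hx.1
  have hP0inv : ∀ n ∈ N, ∀ p ∈ P0, n * p * n⁻¹ ∈ P0 := fun n hn p hp => by
    have : P0 ≤ P0.comap (MulAut.conj n).toMonoidHom :=
      (closure_le _).mpr fun x hx => subset_closure (hYinv n hn x hx)
    exact this hp
  have hP0near : ∀ p ∈ P0, (∀ t ∈ (T : Subgroup L), In2 z (t * p * t⁻¹ * p⁻¹)) ∧ In2 z (p * p) := by
    intro p hp
    induction hp using closure_induction with
    | mem x hx => exact ⟨hx.2.2, Or.inl hx.2.1⟩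
    | one => exact ⟨fun t _ => Or.inl (by group), Or.inl (one_mul 1)⟩
    | mul p q hp hq ihp ihq =>
      constructor
      · intro t ht
        rw [show t * (p * q) * t⁻¹ * (p * q)⁻¹ = t * p * t⁻¹ * p⁻¹ * (p * (t * q * t⁻¹ * q⁻¹) * p⁻¹) by group]
        rcases ihp.1 t ht with e | e <;> rw [e] <;>
          rcases hconjIn (n := p) (ihq.1 t ht) with e' | e' <;> rw [e']
        exacts [Or.inl (one_mul 1), Or.inr (one_mul z), Or.inr (mul_one z), Or.inl hz2]
      · have hqT : q ∈ (T : Subgroup L) := hP0T hq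
        rw [show p * q * (p * q) = p * (q * p * q⁻¹ * p⁻¹) * (p * (q * q)) by group]
        rcases ihp.1 q hqT with e | e <;> rw [e] <;> rcases ihq.2 with e' | e' <;> rw [e'] <;>
          rcases ihp.2 with e'' | e''
        all_goals
          simp only [In2, mul_one, one_mul, mul_assoc, hc p, e'', hz2,
            show ∀ g w : L, g * (z * w) = z * (g * w) from fun g w => by rw [← mul_assoc, hc g, mul_assoc], true_or,
            or_true]
    | inv p hp ihp =>
      constructor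
      · intro t ht
        rw [show t * p⁻¹ * t⁻¹ * p⁻¹⁻¹ = p⁻¹ * (t * p * t⁻¹ * p⁻¹)⁻¹ * p⁻¹⁻¹ by group]
        exact hconjIn ((ihp.1 t ht).inv hz2)
      · rw [← mul_inv_rev]
        exact ihp.2.inv hz2
  by_cases hex : ∃ p ∈ P0, p * p = 1 ∧ (∀ q ∈ P0, p * q = q * p) ∧ ¬ In2 z p
  · obtain ⟨p, hp, hp2, hpc, hp'⟩ := hex
    let A : Subgroup L :=
      { carrier := {p | p ∈ P0 ∧ p * p = 1 ∧ ∀ q ∈ P0, p * q = q * p}
        one_mem' := ⟨one_mem _, one_mul 1, fun q _ => by rw [one_mul, mul_one]⟩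
        mul_mem' := fun {a b} ha hb => ⟨mul_mem ha.1 hb.1, by
          rw [mul_assoc, ← mul_assoc b, ← ha.2.2 b hb.1, mul_assoc a b, hb.2.1, mul_one, ha.2.1],
          fun q hq => by rw [mul_assoc, hb.2.2 q hq, ← mul_assoc, ha.2.2 q hq, mul_assoc]⟩
        inv_mem' := fun {a} ha => by
          rw [show a⁻¹ = a from inv_eq_of_mul_eq_one_right ha.2.1]; exact ha }
    refine ⟨A, fun a ha => hP0T ha.1, fun n hn a ha => ⟨hP0inv n hn a ha.1,
      by rw [conj_mul, ha.2.1, mul_one, mul_inv_cancel], fun q hq => ?_⟩, fun a ha => ha.2.1, p, ⟨hp, hp2, hpc⟩, hp'⟩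
    have hq' := hP0inv n⁻¹ (inv_mem hn) q hq
    rw [inv_inv] at hq'
    calc n * a * n⁻¹ * q = n * (a * (n⁻¹ * q * n)) * n⁻¹ := by group
      _ = q * (n * a * n⁻¹) := by rw [ha.2.2 _ hq']; group
  exfalso
  push Not at hex
  have hZP : ∀ p ∈ P0, (∀ q ∈ P0, p * q = q * p) → p * p = 1 → In2 z p := fun p hp hpc hp2 => hex p hp hp2 hpc
  -- the invariant part with centre generated by `z`
  obtain ⟨P, hPP0, hzP, hPinv, hPcen, hP0P⟩ : ∃ P : Subgroup L, P ≤ P0 ∧ z ∈ P ∧
      (∀ n ∈ N, ∀ p ∈ P, n * p * n⁻¹ ∈ P) ∧ (∀ p ∈ P, (∀ q ∈ P, p * q = q * p) → In2 z p) ∧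
      ∀ p ∈ P0, ∃ q ∈ P, ∃ w, (∀ r ∈ P0, w * r = r * w) ∧ p = q * w := by
    by_cases hu : ∀ p ∈ P0, (∀ q ∈ P0, p * q = q * p) → In2 z p
    · exact ⟨P0, le_rfl, subset_closure hzY, hP0inv, hu,
        fun p hp => ⟨p, hp, 1, fun r _ => by rw [one_mul, mul_one], (mul_one p).symm⟩⟩
    push Not at hu
    obtain ⟨u, huP, huc, hu'⟩ := hu
    have hu2 : u * u = z := (hP0near u huP).2.resolve_left fun e => hu' (hZP u huP huc e)
    have hcentre : ∀ w ∈ P0, (∀ q ∈ P0, w * q = q * w) → In2 z w ∨ w = u ∨ w = u * z := by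
      intro w hw hwc
      rcases (hP0near w hw).2 with e | e
      · exact Or.inl (hZP w hw hwc e)
      · right
        have hwu : In2 z (u⁻¹ * w) := hZP _ (mul_mem (inv_mem huP) hw) (fun q hq =>
            ((show Commute u q from huc q hq).inv_left.mul_left (show Commute w q from hwc q hq)).eq) (by
          have hcu : Commute u⁻¹ w := (show Commute u w from huc w hw).inv_left
          rw [show u⁻¹ * w * (u⁻¹ * w) = u⁻¹ * (w * u⁻¹) * w by group, ← hcu.eq,
            show u⁻¹ * (u⁻¹ * w) * w = (u * u)⁻¹ * (w * w) by group, hu2, e, inv_mul_cancel])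
        rcases hwu with e' | e'
        · exact Or.inl (inv_mul_eq_one.mp e').symm
        · exact Or.inr (by rw [← e', mul_inv_cancel_left])
    let Z : Subgroup L := zpowers z
    haveI hZn : Z.Normal := ⟨fun v hv g => by
      obtain ⟨i, rfl⟩ := mem_zpowers_iff.mp hv
      rw [((show Commute g z from hc g).zpow_right i).eq, mul_inv_cancel_right]
      exact zpow_mem (mem_zpowers z) i⟩
    obtain ⟨μ, hμ⟩ := CfsgLib.CyclicInt.exists_functional (A := P0.map (QuotientGroup.mk' Z)) (fun a ha => by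
        obtain ⟨p, hp, rfl⟩ := ha
        rw [← map_mul]
        refine (QuotientGroup.eq_one_iff _).mpr ?_
        rcases (hP0near p hp).2 with e | e <;> rw [e]
        exacts [one_mem _, mem_zpowers _])
      (mem_map_of_mem _ huP) (fun e => hu' (by
        have hle : ∀ v ∈ Z, In2 z v := fun v hv => by
          obtain ⟨i, rfl⟩ := mem_zpowers_iff.mp hv
          rcases Int.even_or_odd' i with ⟨k, rfl | rfl⟩
          · left; rw [zpow_mul, zpow_two, hz2, one_zpow]
          · right; rw [zpow_add, zpow_mul, zpow_two, hz2, one_zpow, one_mul, zpow_one]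
        exact hle u ((QuotientGroup.eq_one_iff u).mp e)))
    let f : P0 →* Multiplicative (ZMod 2) := μ.comp ((QuotientGroup.mk' Z).subgroupMap P0)
    have hfu : f ⟨u, huP⟩ ≠ 1 := hμ
    have hfz : f ⟨z, subset_closure hzY⟩ = 1 := by
      show μ _ = 1
      rw [show ((QuotientGroup.mk' Z).subgroupMap P0) ⟨z, subset_closure hzY⟩ = 1 from
        Subtype.ext ((QuotientGroup.eq_one_iff z).mpr (mem_zpowers z)), map_one]
    -- averaging over the cosets of `T`
    let Ts : Subgroup N := (T : Subgroup L).subgroupOf N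
    haveI : Ts.Normal := normal_in_normalizer
    haveI : Fintype (N ⧸ Ts) := Fintype.ofFinite _
    let cn : N → (P0 →* P0) := fun n =>
      { toFun := fun p => ⟨n * p * (n : L)⁻¹, hP0inv n n.2 p p.2⟩
        map_one' := Subtype.ext (by simp)
        map_mul' := fun p q => Subtype.ext (by simp [mul_assoc]) }
    have hcoset : ∀ a b : N, (QuotientGroup.mk a : N ⧸ Ts) = QuotientGroup.mk b → ∀ p, f (cn a p) = f (cn b p) := by
      intro a b hab p
      obtain ⟨t, ht, rfl⟩ : ∃ t ∈ Ts, b = a * t := ⟨a⁻¹ * b, QuotientGroup.eq.mp hab, by group⟩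
      rcases (hP0near p p.2).1 t ht with e | e
      · congr 1
        refine Subtype.ext ?_
        show (a : L) * p * (a : L)⁻¹ = (a : L) * t * p * ((a : L) * t)⁻¹
        rw [show (a : L) * t * p * ((a : L) * t)⁻¹ = a * (t * p * (t : L)⁻¹ * (p : L)⁻¹ * p) * (a : L)⁻¹ by group, e,
          one_mul]
      · have : cn (a * t) p = ⟨z, subset_closure hzY⟩ * cn a p := Subtype.ext (by
          show (a : L) * t * p * ((a : L) * t)⁻¹ = z * ((a : L) * p * (a : L)⁻¹)
          rw [show (a : L) * t * p * ((a : L) * t)⁻¹ = a * (t * p * (t : L)⁻¹ * (p : L)⁻¹ * p) * (a : L)⁻¹ by group, e,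
            ← mul_assoc, hc a, mul_assoc z, mul_assoc z])
        rw [this, map_mul, hfz, one_mul]
    let F : P0 →* Multiplicative (ZMod 2) := ∏ q : N ⧸ Ts, f.comp (cn q.out)
    have hFapp : ∀ p, F p = ∏ q : N ⧸ Ts, f (cn q.out p) := fun p => by
      simp [F, MonoidHom.finsetProd_apply]
    have hFinv : ∀ (m : N) (p : P0), F (cn m p) = F p := fun m p => by
      rw [hFapp, hFapp, ← Equiv.prod_comp (Equiv.mulRight (QuotientGroup.mk m : N ⧸ Ts))
        (fun q => f (cn q.out p))]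
      refine Finset.prod_congr rfl fun q _ => ?_
      rw [show cn q.out (cn m p) = cn (q.out * m) p from Subtype.ext (by simp [cn, mul_assoc])]
      refine hcoset _ _ ?_ p
      rw [QuotientGroup.mk_mul, QuotientGroup.out_eq', QuotientGroup.out_eq']
      rfl
    have hFu : F ⟨u, huP⟩ ≠ 1 := by
      rw [hFapp]
      rw [Finset.prod_congr rfl fun q _ => show f (cn q.out ⟨u, huP⟩) = f ⟨u, huP⟩ from ?_, Finset.prod_const]
      swap
      · have hw := hP0inv _ (q.out : N).2 u huP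
        rcases hcentre _ hw (fun r hr => by
          have hr' := hP0inv _ (inv_mem (q.out : N).2) r hr
          rw [inv_inv] at hr'
          calc (q.out : L) * u * (q.out : L)⁻¹ * r
              = (q.out : L) * (u * ((q.out : L)⁻¹ * r * q.out)) * (q.out : L)⁻¹ := by group
            _ = r * ((q.out : L) * u * (q.out : L)⁻¹) := by rw [huc _ hr']; group) with e | e | e
        · exfalso
          have := hconjIn (n := (q.out : L)⁻¹) e
          rw [show (q.out : L)⁻¹ * ((q.out : L) * u * (q.out : L)⁻¹) * (q.out : L)⁻¹⁻¹ = u by group] at this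
          exact hu' this
        · exact congrArg f (Subtype.ext e)
        · rw [show cn q.out ⟨u, huP⟩ = ⟨u, huP⟩ * ⟨z, subset_closure hzY⟩ from Subtype.ext e, map_mul, hfz, mul_one]
      intro e
      have hodd : Odd (Fintype.card (N ⧸ Ts)) := by
        rw [← Nat.card_eq_fintype_card, ← index_eq_card]
        exact Nat.not_even_iff_odd.mp fun hev => T.not_dvd_index (hev.two_dvd.trans
          (relIndex_dvd_index_of_le (K := N) le_normalizer))
      obtain ⟨k, hk⟩ := hodd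
      rw [Finset.card_univ, hk, pow_succ, pow_mul, CfsgLib.CyclicInt.zmod_two_ne_one _ hfu,
        CfsgLib.CyclicInt.zmod_two_facts.1, one_pow, one_mul] at e
      exact CfsgLib.CyclicInt.zmod_two_facts.2 e.symm
    refine ⟨F.ker.map P0.subtype, map_subtype_le _, ⟨⟨z, subset_closure hzY⟩, ?_, rfl⟩, ?_, ?_, ?_⟩
    · show F _ = 1
      rw [show (⟨z, subset_closure hzY⟩ : P0) = ⟨u, huP⟩ * ⟨u, huP⟩ from Subtype.ext hu2.symm, map_mul]
      rw [CfsgLib.CyclicInt.zmod_two_ne_one _ hFu, ← pow_two, CfsgLib.CyclicInt.zmod_two_facts.1]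
    · rintro n hn _ ⟨p, hp, rfl⟩
      exact ⟨cn ⟨n, hn⟩ p, (hFinv ⟨n, hn⟩ p).trans hp, rfl⟩
    · rintro _ ⟨p, hp, rfl⟩ hpc
      have hall : ∀ r ∈ P0, (p : L) * r = r * p := fun r hr => by
        by_cases hr1 : F ⟨r, hr⟩ = 1
        · exact hpc r ⟨⟨r, hr⟩, hr1, rfl⟩
        · have h1 := hpc (r * u⁻¹) ⟨⟨r, hr⟩ * ⟨u, huP⟩⁻¹, by
            show F _ = 1
            rw [map_mul, map_inv, CfsgLib.CyclicInt.zmod_two_ne_one _ hr1,
              CfsgLib.CyclicInt.zmod_two_ne_one _ hFu, mul_inv_cancel], rfl⟩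
          have hpu : Commute (p : L) u := (huc p p.2).symm
          have h2 := (show Commute (p : L) (r * u⁻¹) from h1).mul_right hpu
          rwa [inv_mul_cancel_right] at h2
      rcases hcentre p p.2 hall with e | e | e
      · exact e
      · exact absurd hp (by rw [show p = ⟨u, huP⟩ from Subtype.ext e]; exact hFu)
      · refine absurd hp ?_
        rw [show p = ⟨u, huP⟩ * (⟨u, huP⟩ * ⟨u, huP⟩) from Subtype.ext (e.trans (by rw [← hu2]; rfl))]
        show F _ ≠ 1
        rw [map_mul, map_mul, CfsgLib.CyclicInt.zmod_two_ne_one _ hFu, ← pow_two,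
          CfsgLib.CyclicInt.zmod_two_facts.1, mul_one]
        exact CfsgLib.CyclicInt.zmod_two_facts.2.symm
    · intro p hp
      by_cases hp1 : F ⟨p, hp⟩ = 1
      · exact ⟨p, ⟨⟨p, hp⟩, hp1, rfl⟩, 1, fun r _ => by rw [one_mul, mul_one], (mul_one p).symm⟩
      · exact ⟨p * u⁻¹, ⟨⟨p, hp⟩ * ⟨u, huP⟩⁻¹, by
          show F _ = 1
          rw [map_mul, map_inv, CfsgLib.CyclicInt.zmod_two_ne_one _ hp1,
            CfsgLib.CyclicInt.zmod_two_ne_one _ hFu, mul_inv_cancel], rfl⟩, u, huc, by group⟩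
  -- the complement
  have hPT : P ≤ (T : Subgroup L) := hPP0.trans hP0T
  have habs : ∀ t ∈ (T : Subgroup L), ∃ p ∈ P, ∃ c, c ∈ (T : Subgroup L) ∧ (∀ q ∈ P, c * q = q * c) ∧ t = p * c := by
    intro t ht
    obtain ⟨p, hp, hpc⟩ := exists_absorb hz.1 hz2 hc hzP hPT (fun p hp => (hP0near p (hPP0 hp)).1)
      (fun p hp => (hP0near p (hPP0 hp)).2) hPcen ht
    exact ⟨p, hp, p⁻¹ * t, mul_mem (inv_mem (hPT hp)) ht, hpc, (mul_inv_cancel_left p t).symm⟩
  let C : Subgroup L := (T : Subgroup L) ⊓ centralizer (P : Set L)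
  have hCiff : ∀ {c : L}, c ∈ C ↔ c ∈ (T : Subgroup L) ∧ ∀ q ∈ P, c * q = q * c := fun {c} =>
    ⟨fun hc' => ⟨hc'.1, fun q hq => (hc'.2 q hq).symm⟩, fun hc' => ⟨hc'.1, fun q hq => (hc'.2 q hq).symm⟩⟩
  have hzC : z ∈ C := hCiff.mpr ⟨hzT, fun q _ => (hc q).symm⟩
  have hno : ∀ x : C, x * x = 1 → (∀ g : C, In2 (⟨z, hzC⟩ : C) (g * x * g⁻¹ * x⁻¹)) → In2 (⟨z, hzC⟩ : C) x := by
    intro x hx hgx
    have hxc := (hCiff.mp x.2).2
    have hx2 : (x : L) * x = 1 := congrArg Subtype.val hx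
    have hxY : (x : L) ∈ Y := ⟨x.2.1, hx2, fun t ht => by
      obtain ⟨p, hp, c, hcT, hcP, rfl⟩ := habs t ht
      have e1 : In2 z (c * x * c⁻¹ * (x : L)⁻¹) := by
        rcases hgx ⟨c, hCiff.mpr ⟨hcT, hcP⟩⟩ with e | e
        · exact Or.inl (congrArg Subtype.val e)
        · exact Or.inr (congrArg Subtype.val e)
      rw [show p * c * x * (p * c)⁻¹ * (x : L)⁻¹ = p * (c * x * c⁻¹ * (x : L)⁻¹) * (x * p⁻¹) * (x : L)⁻¹ by group,
        show (x : L) * p⁻¹ = p⁻¹ * x from ((show Commute (x : L) p from hxc p hp).inv_right).eq,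
        ← mul_assoc, mul_inv_cancel_right]
      exact hconjIn e1⟩
    have hxZ : ∀ q ∈ P0, (x : L) * q = q * x := fun q hq => by
      obtain ⟨q', hq', w, hw, rfl⟩ := hP0P q hq
      have h2 : Commute (x : L) w := (hw x (subset_closure hxY)).symm
      exact ((show Commute (x : L) q' from hxc q' hq').mul_right h2).eq
    rcases hZP x (subset_closure hxY) hxZ hx2 with e | e
    · exact Or.inl (Subtype.ext e)
    · exact Or.inr (Subtype.ext e)
  have hCp : IsPGroup 2 C := T.2.to_le inf_le_left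
  rcases shape_of_no_near hCp (z := ⟨z, hzC⟩) (fun e => hz.1 (congrArg Subtype.val e)) (Subtype.ext hz2)
      (fun g => Subtype.ext (hc g)) hno with hab | ⟨m, hm, hmi, hms⟩
  · -- all commutators of `T` are `1` or `z`
    have hT' : ∀ a ∈ (T : Subgroup L), ∀ b ∈ (T : Subgroup L), In2 z (a * b * a⁻¹ * b⁻¹) := by
      have step : ∀ a ∈ P, ∀ b ∈ (T : Subgroup L), In2 z (a * b * a⁻¹ * b⁻¹) := fun a ha b hb => by
        have := ((hP0near a (hPP0 ha)).1 b hb).inv hz2
        rwa [show (b * a * b⁻¹ * a⁻¹)⁻¹ = a * b * a⁻¹ * b⁻¹ by group] at this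
      intro a ha b hb
      obtain ⟨p, hp, c, hcT, hcP, rfl⟩ := habs a ha
      refine (nearTo hz2 hc b).mul_mem (step p hp b hb) ?_
      show In2 z (c * b * c⁻¹ * b⁻¹)
      rw [show c * b * c⁻¹ * b⁻¹ = (b * c * b⁻¹ * c⁻¹)⁻¹ by group]
      refine In2.inv hz2 ?_
      obtain ⟨p', hp', c', hcT', hcP', rfl⟩ := habs b hb
      refine (nearTo hz2 hc c).mul_mem (step p' hp' c hcT) ?_
      rcases hab ⟨c', hCiff.mpr ⟨hcT', hcP'⟩⟩ ⟨c, hCiff.mpr ⟨hcT, hcP⟩⟩ with e | e
      exacts [Or.inl (congrArg Subtype.val e), Or.inr (congrArg Subtype.val e)]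
    have hZ : ∀ v ∈ center L, v ∈ (T : Subgroup L) → In2 z v := by
      intro v hv hvT
      let Z' : Subgroup (T : Subgroup L) :=
        { carrier := {w | In2 z (w : L)}
          one_mem' := Or.inl rfl
          mul_mem' := fun {a b} ha hb => by
            rcases ha with e | e <;> rcases hb with e' | e' <;>
              simp only [Set.mem_setOf_eq, Subgroup.coe_mul, e, e', In2, one_mul, mul_one, hz2, true_or, or_true]
          inv_mem' := fun {a} ha => ha.inv hz2 }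
      have hle : commutator (T : Subgroup L) ≤ Z' := commutator_le.mpr fun a _ b _ => by
        show In2 z ((⁅a, b⁆ : (T : Subgroup L)) : L)
        simp only [commutatorElement_def, Subgroup.coe_mul, Subgroup.coe_inv]
        exact hT' a a.2 b b.2
      exact hle (mem_commutator_of_center hL T hv hvT)
    have hY0 : x0 ∈ Y := ⟨hx0T, hx0, fun t ht => hT' t ht x0 hx0T⟩
    obtain ⟨y, hyY, y', hy'Y, hyy⟩ : ∃ y ∈ Y, ∃ y' ∈ Y, y * y' ≠ y' * y := by
      by_contra hcon
      push Not at hcon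
      haveI := Subgroup.isMulCommutative_closure hcon
      exact hx0' (hZP x0 (subset_closure hY0) (fun q hq => congrArg Subtype.val
        (mul_comm' (⟨x0, subset_closure hY0⟩ : closure Y) ⟨q, hq⟩)) hx0)
    have hy2 : y * y' * (y * y') = z := by
      rcases hyY.2.2 y' hy'Y.1 with e | e <;>
        rw [inv_eq_of_mul_eq_one_right hy'Y.2.1, inv_eq_of_mul_eq_one_right hyY.2.1] at e
      · refine absurd ?_ hyy
        have e' := inv_eq_of_mul_eq_one_right (show y' * y * (y' * y) = 1 by rw [← mul_assoc]; exact e)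
        rw [mul_inv_rev, inv_eq_of_mul_eq_one_right hy'Y.2.1, inv_eq_of_mul_eq_one_right hyY.2.1] at e'
        exact e'
      · rw [← hzi, ← e]
        simp only [mul_inv_rev, inv_eq_of_mul_eq_one_right hy'Y.2.1, inv_eq_of_mul_eq_one_right hyY.2.1, mul_assoc]
    -- one class of involutions modulo the centre
    set π := QuotientGroup.mk' (center L)
    let T' : Sylow 2 (L ⧸ center L) := T.mapSurjective (f := π) (QuotientGroup.mk'_surjective _)
    have hT'c : IsMulCommutative (T' : Subgroup (L ⧸ center L)) := ⟨⟨by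
      rintro ⟨_, a, ha, rfl⟩ ⟨_, b, hb, rfl⟩
      refine Subtype.ext ?_
      show π a * π b = π b * π a
      rw [← mul_inv_eq_iff_eq_mul, ← mul_inv_eq_one, ← map_mul, ← map_inv, ← map_mul, ← map_inv, ← map_mul]
      refine (QuotientGroup.eq_one_iff _).mpr ?_
      rcases hT' a ha b hb with e | e <;> rw [e]
      exacts [one_mem _, hzc]⟩⟩
    obtain ⟨k, -, htr⟩ :=
      ((CfsgLib.CentralInt.listed_of_abelian inferInstance hna T' hT'c).good T').trans
    have hne1 : π y ≠ 1 := fun e => hyy (mem_center_iff.mp ((QuotientGroup.eq_one_iff y).mp e) y').symm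
    have hne2 : π (y * y') ≠ 1 := fun e => by
      have h1 := mem_center_iff.mp ((QuotientGroup.eq_one_iff _).mp e) y
      rw [mul_assoc y y' y] at h1
      exact hyy (mul_left_cancel h1)
    obtain ⟨i, hi⟩ := htr _ ⟨y, hyY.1, rfl⟩ hne1 _ ⟨y * y', mul_mem hyY.1 hy'Y.1, rfl⟩ hne2
    obtain ⟨g, rfl⟩ := QuotientGroup.mk'_surjective (center L) k
    rw [← map_pow, ← map_inv, ← map_mul, ← map_mul] at hi
    obtain ⟨v, hv, hv'⟩ := (QuotientGroup.mk'_eq_mk' _).mp hi
    have hvT : v ∈ (T : Subgroup L) :=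
      CfsgLib.CyclicInt.Two.mem_of_normalizer (X := L) (by
        obtain ⟨j, hj⟩ := T.2 ⟨(y * y'), mul_mem hyY.1 hy'Y.1⟩
        have hj' : (y * y') ^ 2 ^ j = 1 := congrArg Subtype.val hj
        refine ⟨j + 1, ?_⟩
        have hcv : Commute (g ^ i * y * (g ^ i)⁻¹) v := mem_center_iff.mp hv _
        have h2 : (g ^ i * y * (g ^ i)⁻¹) ^ 2 ^ (j + 1) = 1 := by
          rw [pow_succ', pow_mul, pow_two, conj_mul, hyY.2.1, mul_one, mul_inv_cancel, one_pow]
        have h3 := hcv.mul_pow (2 ^ (j + 1))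
        rw [hv', h2, one_mul, pow_succ, pow_mul, hj', one_pow] at h3
        exact h3.symm) T (mem_normalizer_iff.mpr fun w => by
        rw [← mem_center_iff.mp hv w, mul_inv_cancel_right])
    have h4 : g ^ i * y * (g ^ i)⁻¹ * v * (g ^ i * y * (g ^ i)⁻¹ * v) = v * v := by
      rw [show g ^ i * y * (g ^ i)⁻¹ * v = v * (g ^ i * y * (g ^ i)⁻¹) from mem_center_iff.mp hv _]
      nth_rewrite 2 [show v * (g ^ i * y * (g ^ i)⁻¹) = g ^ i * y * (g ^ i)⁻¹ * v from (mem_center_iff.mp hv _).symm]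
      rw [mul_assoc, ← mul_assoc (g ^ i * y * (g ^ i)⁻¹), conj_mul, hyY.2.1, mul_one, mul_inv_cancel, one_mul]
    rw [hv', hy2] at h4
    rcases hZ v hv hvT with e | e <;> rw [e] at h4
    · exact hz.1 (h4.trans (one_mul 1))
    · exact hz.1 (h4.trans hz2)
  · -- an invariant subgroup of index two
    have hCn : ∀ n ∈ N, ∀ c ∈ C, n * c * n⁻¹ ∈ C := fun n hn c hc' => hCiff.mpr ⟨hNT n hn c hc'.1, fun q hq => by
      have hq' := hPinv n⁻¹ (inv_mem hn) q hq
      rw [inv_inv] at hq'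
      calc n * c * n⁻¹ * q = n * (c * (n⁻¹ * q * n)) * n⁻¹ := by group
        _ = q * (n * c * n⁻¹) := by rw [(hCiff.mp hc').2 _ hq']; group⟩
    have hIn : ∀ {v : C}, In2 (⟨z, hzC⟩ : C) v ↔ In2 z (v : L) := fun {v} => by
      constructor <;> rintro (e | e)
      exacts [Or.inl (congrArg Subtype.val e), Or.inr (congrArg Subtype.val e), Or.inl (Subtype.ext e),
        Or.inr (Subtype.ext e)]
    let M : Subgroup L := zpowers (m : L)
    have hMC : M ≤ C := zpowers_le.mpr m.2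
    have hMmem : ∀ {v : L}, v ∈ M ↔ ∃ hv : v ∈ C, (⟨v, hv⟩ : C) ∈ zpowers m := fun {v} => by
      constructor
      · intro hv
        obtain ⟨i, rfl⟩ := mem_zpowers_iff.mp hv
        exact ⟨hMC (zpow_mem (mem_zpowers _) i), mem_zpowers_iff.mpr ⟨i, Subtype.ext (by simp)⟩⟩
      · rintro ⟨hv, h'⟩
        obtain ⟨i, hi⟩ := mem_zpowers_iff.mp h'
        exact mem_zpowers_iff.mpr ⟨i, by simpa using congrArg Subtype.val hi⟩
    have hzM : z ∈ M := by
      obtain ⟨j, hj⟩ := IsPGroup.iff_orderOf.mp hCp m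
      have hj0 : j ≠ 0 := fun e => hm (Or.inl (by rw [orderOf_eq_one_iff.mp (show orderOf m = 1 by rw [hj, e, pow_zero]), mul_one]))
      set v : C := m ^ 2 ^ (j - 1) with hv
      have hv2 : orderOf v = 2 := by
        rw [hv, orderOf_pow' m (pow_ne_zero _ two_ne_zero), hj, Nat.gcd_eq_right (pow_dvd_pow 2 (Nat.sub_le j 1)),
          Nat.pow_div (Nat.sub_le j 1) two_pos, show j - (j - 1) = 1 by omega, pow_one]
      haveI : (zpowers m).Normal := normal_of_index_eq_two hmi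
      have hvv : v * v = 1 := CfsgLib.Involutions.mul_self_eq_one_of_orderOf hv2
      have key : ∀ g : C, g * v * g⁻¹ = v := fun g => by
        have hmem : g * v * g⁻¹ ∈ zpowers m := Subgroup.Normal.conj_mem inferInstance v (pow_mem (mem_zpowers m) _) g
        have ho : orderOf (g * v * g⁻¹) = 2 := by rw [CfsgLib.Involutions.orderOf_conj, hv2]
        obtain ⟨i, hi⟩ := (Submonoid.mem_powers_iff _ _).mp (mem_powers_iff_mem_zpowers.mpr hmem)
        rw [← hi] at ho ⊢
        obtain ⟨l, hl⟩ : 2 ^ (j - 1) ∣ i := by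
          have h1 : m ^ (i * 2) = 1 := by rw [pow_mul, ← ho]; exact pow_orderOf_eq_one _
          have h2 := orderOf_dvd_of_pow_eq_one h1
          rw [hj, show j = j - 1 + 1 by omega, pow_succ] at h2
          exact Nat.dvd_of_mul_dvd_mul_right two_pos h2
        rw [hl, pow_mul, ← hv] at ho ⊢
        rcases Nat.even_or_odd' l with ⟨q, rfl | rfl⟩
        · rw [pow_mul, pow_two, hvv, one_pow, orderOf_one] at ho
          omega
        · rw [pow_succ, pow_mul, pow_two, hvv, one_pow, one_mul]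
      rcases hno v hvv (fun g => Or.inl (by rw [key g, mul_inv_cancel])) with e | e
      · rw [e, orderOf_one] at hv2
        omega
      · exact hMmem.mpr ⟨hzC, e ▸ pow_mem (mem_zpowers m) _⟩
    have hPM : ∀ p ∈ P, p ∈ C → p ∈ M := fun p hp hpC => by
      rcases hPcen p hp (hCiff.mp hpC).2 with e | e <;> rw [e]
      exacts [one_mem _, hzM]
    have hMinv : ∀ n ∈ N, n * m * n⁻¹ ∈ M := fun n hn => by
      refine hMmem.mpr ⟨hCn n hn m m.2, by_contra fun hcon => hm (hIn.mpr ?_)⟩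
      have := hconjIn (n := n⁻¹) (hIn.mp (hms _ hcon))
      rwa [show n⁻¹ * (↑(⟨n * m * n⁻¹, hCn n hn m m.2⟩ * ⟨n * m * n⁻¹, hCn n hn m m.2⟩ : C)) * n⁻¹⁻¹ =
        ((m * m : C) : L) by simp only [Subgroup.coe_mul]; group] at this
    let A : Subgroup L :=
      { carrier := {v | ∃ p ∈ P, ∃ w ∈ M, v = p * w}
        one_mem' := ⟨1, one_mem _, 1, one_mem _, (one_mul 1).symm⟩
        mul_mem' := by
          rintro _ _ ⟨p, hp, w, hw, rfl⟩ ⟨q, hq, w', hw', rfl⟩
          exact ⟨p * q, mul_mem hp hq, w * w', mul_mem hw hw', by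
            rw [mul_assoc p w, ← mul_assoc w q, (hCiff.mp (hMC hw)).2 q hq]; group⟩
        inv_mem' := by
          rintro _ ⟨p, hp, w, hw, rfl⟩
          exact ⟨p⁻¹, inv_mem hp, w⁻¹, inv_mem hw, by
            rw [mul_inv_rev, (hCiff.mp (hMC (inv_mem hw))).2 _ (inv_mem hp)]⟩ }
    have hAC : ∀ v ∈ C, v ∈ A → v ∈ M := by
      rintro _ hv ⟨p, hp, w, hw, rfl⟩
      have hpC : p ∈ C := by simpa using mul_mem hv (inv_mem (hMC hw))
      exact mul_mem (hPM p hp hpC) hw
    obtain ⟨a, ha⟩ := index_eq_two_iff.mp hmi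
    have haM : (a : L) ∉ M := fun h' => by
      obtain ⟨_, h''⟩ := hMmem.mp h'
      have h1 : a * 1 ∈ zpowers m := by rw [mul_one]; exact h''
      rcases ha 1 with ⟨h2, h3⟩ | ⟨h2, h3⟩
      · exact h3 (one_mem _)
      · exact h3 (by rw [mul_one] at h1; rwa [one_mul])
    have hrel : A.relIndex (T : Subgroup L) = 2 := by
      refine index_eq_two_iff.mpr ⟨⟨a, (a.2).1⟩, fun b => ?_⟩
      simp only [mem_subgroupOf, Subgroup.coe_mul]
      obtain ⟨p, hp, c, hcT, hcP, hb⟩ := habs b b.2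
      rw [hb]
      have hcC : c ∈ C := hCiff.mpr ⟨hcT, hcP⟩
      have hsh : ∀ w : L, w ∈ C → (p * w ∈ A ↔ w ∈ M) := fun w hw =>
        ⟨fun h' => hAC w hw (by simpa using mul_mem (show p⁻¹ ∈ A from ⟨p⁻¹, inv_mem hp, 1, one_mem _, (mul_one _).symm⟩) h'),
          fun h' => ⟨p, hp, w, h', rfl⟩⟩
      have h1 : c * a ∈ M ↔ (⟨c, hcC⟩ : C) * a ∈ zpowers m :=
        ⟨fun h' => (hMmem.mp h').2, fun h' => hMmem.mpr ⟨_, h'⟩⟩
      have h2 : c ∈ M ↔ (⟨c, hcC⟩ : C) ∈ zpowers m := ⟨fun h' => (hMmem.mp h').2, fun h' => hMmem.mpr ⟨_, h'⟩⟩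
      rw [mul_assoc p c, hsh _ (mul_mem hcC a.2), hsh c hcC, h1, h2]
      exact ha ⟨c, hcC⟩
    have hAinv : ∀ n ∈ N, ∀ v ∈ A, n * v * n⁻¹ ∈ A := by
      rintro n hn _ ⟨p, hp, w, hw, rfl⟩
      obtain ⟨i, rfl⟩ := mem_zpowers_iff.mp hw
      exact ⟨_, hPinv n hn p hp, _, zpow_mem (hMinv n hn) i, by rw [conj_zpow]; group⟩
    have hAT : A ≤ (T : Subgroup L) := by
      rintro _ ⟨p, hp, w, hw, rfl⟩
      exact mul_mem (hPT hp) (hMC hw).1
    have hzA : z ∈ A := ⟨1, one_mem _, z, hzM, (one_mul z).symm⟩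
    have hfin : ∀ x ∈ (T : Subgroup L), x * x = 1 → x ∈ A := fun x hx hx2 => by_contra fun hxA =>
      false_of_index_two h hz hzc T hL hAT hrel hzA hAinv hx2 hx hxA
    have ha2 := hIn.mp (hms a fun h' => haM (hMmem.mpr ⟨a.2, h'⟩))
    rw [Subgroup.coe_mul] at ha2
    rcases ha2 with e | e
    · exact haM (hAC a a.2 (hfin a a.2.1 e))
    by_cases hPsmall : ∀ p ∈ P, In2 z p
    · obtain ⟨p, hp, w, hw, rfl⟩ := hfin x0 hx0T hx0
      have hwM : p * w ∈ M := mul_mem (hPM p hp (hCiff.mpr ⟨hPT hp, fun q _ => by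
        rcases hPsmall p hp with e' | e' <;> rw [e']
        exacts [by rw [one_mul, mul_one], (hc q).symm]⟩)) hw
      obtain ⟨i, hi⟩ := mem_zpowers_iff.mp hwM
      obtain ⟨j, hj⟩ := mem_zpowers_iff.mp hzM
      obtain ⟨o, ho⟩ := IsPGroup.iff_orderOf.mp hCp m
      rw [← Subgroup.orderOf_coe] at ho
      have hd : ∀ l : ℤ, (m : L) ^ l = 1 ↔ (2 : ℤ) ^ o ∣ l := fun l => by
        rw [← orderOf_dvd_iff_zpow_eq_one, ho]; push_cast; rfl
      have ho1 : o ≠ 0 := fun e' => hz.1 (by rw [← hj, hd, e', pow_zero]; exact one_dvd _)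
      obtain ⟨o', rfl⟩ : ∃ o', o = o' + 1 := ⟨o - 1, by omega⟩
      rw [← hi] at hx0 hx0'
      rw [← zpow_add, hd, ← two_mul, pow_succ', mul_dvd_mul_iff_left two_ne_zero] at hx0
      have hj2 : (2 : ℤ) ^ o' ∣ j := by
        have h2 : (m : L) ^ (2 * j) = 1 := by rw [two_mul, zpow_add, hj, hz2]
        rwa [hd, pow_succ', mul_dvd_mul_iff_left two_ne_zero] at h2
      obtain ⟨i', rfl⟩ := hx0
      obtain ⟨j', rfl⟩ := hj2
      rcases Int.even_or_odd' i' with ⟨q, rfl | rfl⟩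
      · exact hx0' (Or.inl (by rw [hd, pow_succ]; exact ⟨q, by ring⟩))
      · refine hx0' (Or.inr ?_)
        rw [← hj]
        refine mul_inv_eq_one.mp ?_
        rw [← zpow_neg, ← zpow_add, hd]
        rcases Int.even_or_odd' j' with ⟨q', rfl | rfl⟩
        · exact absurd (by rw [← hj, hd, pow_succ]; exact ⟨q', by ring⟩) hz.1
        · exact ⟨q - q', by rw [pow_succ]; ring⟩
    · push Not at hPsmall
      obtain ⟨p₁, hp₁, hp₁'⟩ := hPsmall
      obtain ⟨p₂, hp₂, hp12⟩ : ∃ p₂ ∈ P, p₁ * p₂ ≠ p₂ * p₁ := by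
        by_contra hcon
        push Not at hcon
        exact hp₁' (hPcen p₁ hp₁ hcon)
      obtain ⟨p, hp, hp2⟩ : ∃ p ∈ P, p * p = z := by
        rcases (hP0near p₁ (hPP0 hp₁)).2 with e₁ | e₁
        swap; · exact ⟨p₁, hp₁, e₁⟩
        rcases (hP0near p₂ (hPP0 hp₂)).2 with e₂ | e₂
        swap; · exact ⟨p₂, hp₂, e₂⟩
        refine ⟨p₁ * p₂, mul_mem hp₁ hp₂, (hP0near _ (hPP0 (mul_mem hp₁ hp₂))).2.resolve_left fun e' => hp12 ?_⟩
        rw [← inv_eq_of_mul_eq_one_right e', mul_inv_rev, inv_eq_of_mul_eq_one_right e₁,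
          inv_eq_of_mul_eq_one_right e₂]
      have hpa : (a : L) * p = p * a := (hCiff.mp a.2).2 p hp
      have hx : p * a ∈ A := hfin _ (mul_mem (hPT hp) a.2.1) (by
        rw [mul_assoc, ← mul_assoc (a : L), hpa, mul_assoc p (a : L), e, ← mul_assoc, hp2, hz2])
      exact haM (hAC a a.2 (by simpa using mul_mem (show p⁻¹ ∈ A from
        ⟨p⁻¹, inv_mem hp, 1, one_mem _, (mul_one _).symm⟩) hx))

end Setup

/-- The quotient by the centre has TI Sylow 2-subgroups. -/
theorem quot_ti (hL : commutator L = ⊤) [IsSimpleGroup (L ⧸ center L)] (hna : ¬ IsMulCommutative (L ⧸ center L))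
    (h : RI L) (hZ : IsPGroup 2 (center L)) (hZ1 : center L ≠ ⊥) (T : Sylow 2 L) (hrank : ¬ One (T : Subgroup L)) :
    CfsgLib.CyclicInt.TI (L ⧸ center L) := by
  classical
  haveI : Fact (Nat.Prime 2) := ⟨Nat.prime_two⟩
  obtain ⟨z, hzc, hz, -⟩ := exists_central_inv hZ hZ1
  set π := QuotientGroup.mk' (center L)
  have hπ : Function.Surjective π := QuotientGroup.mk'_surjective _
  have hZT : center L ≤ (T : Subgroup L) := fun v hv =>
    CfsgLib.CyclicInt.Two.mem_of_normalizer (X := L) (by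
      obtain ⟨k, hk⟩ := hZ ⟨v, hv⟩
      exact ⟨k, congrArg Subtype.val hk⟩) T (mem_normalizer_iff.mpr fun w => by
      rw [← mem_center_iff.mp hv w, mul_inv_cancel_right])
  have hzT : z ∈ (T : Subgroup L) := hZT hzc
  let T' : Sylow 2 (L ⧸ center L) := T.mapSurjective (f := π) hπ
  have hmem : ∀ {g : L}, π g ∈ (T' : Subgroup (L ⧸ center L)) ↔ g ∈ (T : Subgroup L) := fun {g} => by
    refine ⟨fun hg => ?_, fun hg => ⟨g, hg, rfl⟩⟩
    obtain ⟨t, ht, e⟩ := hg
    obtain ⟨v, hv, rfl⟩ := (QuotientGroup.mk'_eq_mk' _).mp e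
    exact mul_mem ht (hZT hv)
  have hTn : ¬ (T : Subgroup L).Normal := fun hn =>
    CfsgLib.CyclicInt.not_normal_sylow hna T' (hn.map π hπ)
  have huniq : ∀ v ∈ center L, v * v = 1 → In2 z v := by
    intro v hv hv2
    by_contra hcon
    refine hTn ⟨fun t ht g => ?_⟩
    have hg : g ∈ normalizer ((T : Subgroup L) : Set L) :=
      h.normalizes_of_comm ⟨fun e => hcon (Or.inl e), hv2⟩ hz (fun e => hcon (Or.inr e))
        (mem_center_iff.mp hzc v) (hZT hv) hzT (mem_center_iff.mp hv g) (mem_center_iff.mp hzc g)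
    exact (mem_normalizer_iff.mp hg t).mp ht
  obtain ⟨x0, hx0T, hx0, hx0'⟩ : ∃ x ∈ (T : Subgroup L), x * x = 1 ∧ ¬ In2 z x := by
    by_contra hcon
    push Not at hcon
    refine hrank fun a ha b hb hai hbi => ?_
    rw [(hcon a ha hai.2).resolve_left hai.1, (hcon b hb hbi.2).resolve_left hbi.1]
  obtain ⟨A, hAT, hAinv, hA2, a, haA, ha'⟩ := exists_good h hz hzc T hL huniq hna hx0 hx0' hx0T
  have hAc : ∀ v ∈ A, v ∈ center L → In2 z v := fun v hv hvc => huniq v hvc (hA2 v hv)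
  have hne : A.map π ≠ ⊥ := fun e => ha' (hAc a haA ((QuotientGroup.eq_one_iff a).mp
    (mem_bot.mp (e ▸ mem_map_of_mem π haA))))
  have hnorm : ∀ x ∈ A, π x ≠ 1 → ∀ g : L, π g * π x * (π g)⁻¹ ∈ (T' : Subgroup (L ⧸ center L)) →
      g ∈ normalizer ((T : Subgroup L) : Set L) := fun x hx hx1 g hg => by
    rw [← map_inv, ← map_mul, ← map_mul, hmem] at hg
    refine fusion h hz hzc T (hA2 x hx) (fun hcon => hx1 ((QuotientGroup.eq_one_iff x).mpr ?_)) (hAT hx) hg
    rcases hcon with e | e <;> rw [e]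
    exacts [one_mem _, hzc]
  have hcl : Cfsg.IsStronglyClosed (A.map π) (T' : Subgroup (L ⧸ center L)) := by
    refine ⟨map_mono hAT, ?_⟩
    rintro _ ⟨x, hx, rfl⟩ g hg
    obtain ⟨g, rfl⟩ := hπ g
    by_cases hx1 : π x = 1
    · rw [hx1, mul_one, mul_inv_cancel]; exact one_mem _
    · exact ⟨g * x * g⁻¹, hAinv g (hnorm x hx hx1 g hg) x hx, by rw [map_mul, map_mul, map_inv]⟩
  have hprop : (⨆ t : {t : L ⧸ center L // t ∈ A.map π ∧ orderOf t = 2},
      centralizer ({(t : L ⧸ center L)} : Set (L ⧸ center L))) ≠ ⊤ := by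
    intro e
    have hle : (⨆ t : {t : L ⧸ center L // t ∈ A.map π ∧ orderOf t = 2},
        centralizer ({(t : L ⧸ center L)} : Set (L ⧸ center L))) ≤
          (normalizer ((T : Subgroup L) : Set L)).map π := by
      refine iSup_le fun t c hc => ?_
      obtain ⟨x, hx, hxt⟩ := t.2.1
      obtain ⟨c, rfl⟩ := hπ c
      have hx1 : π x ≠ 1 := fun e1 => by
        have := t.2.2
        rw [← hxt, e1, orderOf_one] at this
        omega
      refine mem_map_of_mem π (hnorm x hx hx1 c ?_)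
      rw [hxt, mem_centralizer_singleton_iff.mp hc, mul_inv_cancel_right, ← hxt]
      exact hmem.mpr (hAT hx)
    rw [e, top_le_iff] at hle
    refine hTn (normalizer_eq_top_iff.mp (top_le_iff.mp fun g _ => ?_))
    obtain ⟨n, hn, hng⟩ : π g ∈ (normalizer ((T : Subgroup L) : Set L)).map π := hle ▸ mem_top _
    obtain ⟨v, hv, rfl⟩ := (QuotientGroup.mk'_eq_mk' _).mp hng
    exact mul_mem hn (le_normalizer (hZT hv))
  obtain ⟨H, hH⟩ := CfsgLib.Bender.Q.strongly_closed_simple CfsgLib.Bender.Q.theoremQ T' (A.map π) hne hcl hprop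
  exact CfsgLib.BinaryCoset.partA_of_goodAll CfsgLib.Bender.Assembly.goodAll (L ⧸ center L) hna H hH

end CfsgLib.RankInt
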