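import Cfsg.Agent.Lib.RankInt.Defs
import Cfsg.Agent.Lib.UniqueSubgroup
import Cfsg.Agent.Lib.Elementary

/-!
A 2-group with one involution central modulo a central involution.

Blueprint: `blueprint/bender/S3310.md`.
-/

set_option autoImplicit false
set_option linter.unusedSectionVars false
set_option linter.style.haveILetI false

namespace CfsgLib.RankInt

open Subgroup

universe u

/-- Membership in `{1, z}`. -/
def In2 {G : Type u} [Group G] (z v : G) : Prop := v = 1 ∨ v = z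

variable {P : Type u} [Group P] [Finite P]

/-- Commutators are `1` or `z`, or there is a cyclic maximal subgroup outside which the squares are `1` or `z`. -/
theorem shape_of_no_near (hP : IsPGroup 2 P) {z : P} (hz1 : z ≠ 1) (hz2 : z * z = 1) (hzc : ∀ g : P, g * z = z * g)
    (hno : ∀ x : P, x * x = 1 → (∀ g : P, In2 z (g * x * g⁻¹ * x⁻¹)) → In2 z x) :
    (∀ a b : P, In2 z (a * b * a⁻¹ * b⁻¹)) ∨
      ∃ m : P, ¬ In2 z (m * m) ∧ (zpowers m).index = 2 ∧ ∀ g : P, g ∉ zpowers m → In2 z (g * g) := by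
  haveI : Fact (Nat.Prime 2) := ⟨Nat.prime_two⟩
  haveI := hP.isNilpotent
  obtain ⟨M, hMn, hMc, hCM⟩ := CfsgLib.UniqueSubgroup.exists_self_centralizing P
  haveI := hMn
  have hzM : z ∈ M := hCM fun u _ => hzc u
  have hzi : z⁻¹ = z := inv_eq_of_mul_eq_one_right hz2
  have hIn : ∀ {v : P}, In2 z v ↔ v ∈ zpowers z := fun {v} => by
    refine ⟨fun h => ?_, fun h => ?_⟩
    · rcases h with rfl | rfl
      exacts [one_mem _, mem_zpowers _]
    · obtain ⟨i, rfl⟩ := mem_zpowers_iff.mp h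
      rcases Int.even_or_odd' i with ⟨k, rfl | rfl⟩
      · left; rw [zpow_mul, zpow_two, hz2, one_zpow]
      · right; rw [zpow_add, zpow_mul, zpow_two, hz2, one_zpow, one_mul, zpow_one]
  haveI hZn : (zpowers z).Normal := ⟨fun v hv g => by
    obtain ⟨i, rfl⟩ := mem_zpowers_iff.mp hv
    rw [((show Commute g z from hzc g).zpow_right i).eq, mul_inv_cancel_right]
    exact zpow_mem (mem_zpowers z) i⟩
  -- the involutions of `M`
  have hM2 : ∀ x ∈ M, x * x = 1 → In2 z x := by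
    let W : Subgroup P :=
      { carrier := {x | x ∈ M ∧ x * x = 1}
        one_mem' := ⟨one_mem _, one_mul 1⟩
        mul_mem' := fun {a b} ha hb => ⟨mul_mem ha.1 hb.1, by
          rw [mul_assoc, ← mul_assoc b, ← hMc a ha.1 b hb.1, mul_assoc a b, hb.2, mul_one, ha.2]⟩
        inv_mem' := fun {a} ha => ⟨inv_mem ha.1, by rw [← mul_inv_rev, ha.2, inv_one]⟩ }
    haveI hWn : W.Normal := ⟨fun x hx g => ⟨hMn.conj_mem x hx.1 g, by
      rw [show g * x * g⁻¹ * (g * x * g⁻¹) = g * (x * x) * g⁻¹ by group, hx.2, mul_one, mul_inv_cancel]⟩⟩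
    intro x hx hx2
    by_contra hc
    set π := QuotientGroup.mk' (zpowers z)
    haveI : (W.map π).Normal := hWn.map π (QuotientGroup.mk'_surjective _)
    haveI : Group.IsNilpotent (P ⧸ zpowers z) := (hP.to_quotient _).isNilpotent
    have hne : W.map π ≠ ⊥ := fun e => hc (hIn.mpr ((QuotientGroup.eq_one_iff x).mp
      (mem_bot.mp (e ▸ mem_map_of_mem π (⟨hx, hx2⟩ : x ∈ W)))))
    obtain ⟨v, hv, hv1⟩ := (Subgroup.bot_or_exists_ne_one _).resolve_left
      (CfsgLib.inf_center_ne_bot_of_nilpotent hne)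
    obtain ⟨⟨w, hw, rfl⟩, hvc⟩ := mem_inf.mp hv
    refine hv1 ((QuotientGroup.eq_one_iff w).mpr (hIn.mp (hno w hw.2 fun g => hIn.mpr
      ((QuotientGroup.eq_one_iff _).mp ?_))))
    show π (g * w * g⁻¹ * w⁻¹) = 1
    rw [map_mul, map_mul, map_mul, map_inv, map_inv, mem_center_iff.mp hvc (π g), mul_inv_cancel_right,
      mul_inv_cancel]
  -- so `M` is cyclic
  obtain ⟨m', -, hm'⟩ := CfsgLib.UniqueSubgroup.exists_generator (hP.to_subgroup M) (z := (⟨z, hzM⟩ : M))
    (orderOf_eq_prime (Subtype.ext (by rw [coe_pow, pow_two]; exact hz2)) fun e => hz1 (congrArg Subtype.val e))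
    (fun x hx => by
      rcases hM2 x x.2 (by rw [← pow_two]; exact congrArg Subtype.val hx) with e | e
      · rw [show x = 1 from Subtype.ext e]; exact one_mem _
      · rw [show x = ⟨z, hzM⟩ from Subtype.ext e]; exact mem_zpowers _)
    ⊤ (fun x _ y _ => Subtype.ext (hMc x x.2 y y.2))
  set m : P := (m' : P)
  have hmM : m ∈ M := m'.2
  have hMz : ∀ x ∈ M, ∃ i : ℤ, m ^ i = x := fun x hx => by
    obtain ⟨i, hi⟩ := mem_zpowers_iff.mp (hm' ▸ mem_top (⟨x, hx⟩ : M))
    exact ⟨i, by simpa using congrArg Subtype.val hi⟩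
  have hMeq : M = zpowers m := le_antisymm (fun x hx => mem_zpowers_iff.mpr (hMz x hx)) (zpowers_le.mpr hmM)
  have hcomm : ∀ g : P, g * m * g⁻¹ = m → g ∈ M := fun g hg => hCM fun x hx => by
    obtain ⟨i, rfl⟩ := hMz x hx
    exact ((show Commute g m from mul_inv_eq_iff_eq_mul.mp hg).zpow_right i).eq.symm
  have hconj : ∀ g : P, ∃ r : ℤ, g * m * g⁻¹ = m ^ r := fun g =>
    (hMz _ (hMn.conj_mem m hmM g)).imp fun r hr => hr.symm
  by_cases hsmall : In2 z (m * m)
  · left
    have hact : ∀ g, g ∉ M → g * m * g⁻¹ = m * z := by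
      intro g hg
      obtain ⟨r, hr⟩ := hconj g
      have hm2 : ∀ k : ℤ, In2 z (m ^ (2 * k)) := fun k => by
        rw [zpow_mul, zpow_two]
        exact hIn.mpr (zpow_mem (hIn.mp hsmall) k)
      rcases Int.even_or_odd' r with ⟨k, rfl | rfl⟩
      · exfalso
        rcases hm2 k with e | e <;> rw [e] at hr
        · refine hg (hcomm g ?_)
          rw [conj_eq_one_iff.mp hr, mul_one, mul_inv_cancel]
        · refine hg (hcomm g ?_)
          have e1 : m = g⁻¹ * z * g := by rw [← hr]; group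
          rw [mul_assoc g⁻¹, ← hzc g, inv_mul_cancel_left] at e1
          rw [e1, hzc g, mul_inv_cancel_right]
      · rcases hm2 k with e | e <;> rw [zpow_add, zpow_one, e] at hr
        · exact absurd (hcomm g (by rw [hr, one_mul])) hg
        · rw [hr, hzc m]
    have hMcase : ∀ a b : P, a ∈ M → In2 z (a * b * a⁻¹ * b⁻¹) := by
      intro a b ha
      obtain ⟨i, rfl⟩ := hMz a ha
      by_cases hb : b ∈ M
      · left
        rw [hMc _ ha b hb, mul_inv_cancel_right, mul_inv_cancel]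
      rw [show m ^ i * b * (m ^ i)⁻¹ * b⁻¹ = m ^ i * (b * m * b⁻¹) ^ (-i) by rw [conj_zpow]; group, hact b hb,
        (show Commute m z from hzc m).mul_zpow, ← mul_assoc, ← zpow_add, add_neg_cancel, zpow_zero, one_mul]
      exact hIn.mpr (zpow_mem (mem_zpowers z) _)
    intro a b
    by_cases ha : a ∈ M
    · exact hMcase a b ha
    by_cases hb : b ∈ M
    · rw [show a * b * a⁻¹ * b⁻¹ = (b * a * b⁻¹ * a⁻¹)⁻¹ by group]
      exact hIn.mpr (inv_mem (hIn.mp (hMcase b a hb)))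
    obtain ⟨d, hd, rfl⟩ : ∃ d ∈ M, b = a * d := ⟨a⁻¹ * b, hcomm _ (by
      have e1 : a⁻¹ * m * a = m * z := by
        have h' := hact a⁻¹ fun h => ha (by simpa using inv_mem h)
        rwa [inv_inv] at h'
      rw [show a⁻¹ * b * m * (a⁻¹ * b)⁻¹ = a⁻¹ * (b * m * b⁻¹) * a by group, hact b hb,
        show a⁻¹ * (m * z) * a = (a⁻¹ * m * a) * (a⁻¹ * (z * a)) by group, e1, ← hzc a, inv_mul_cancel_left,
        mul_assoc, hz2, mul_one]), by rw [mul_inv_cancel_left]⟩
    rw [show a * (a * d) * a⁻¹ * (a * d)⁻¹ = a * (a * d * a⁻¹ * d⁻¹) * a⁻¹ by group]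
    have h1 : In2 z (a * d * a⁻¹ * d⁻¹) := by
      rw [show a * d * a⁻¹ * d⁻¹ = (d * a * d⁻¹ * a⁻¹)⁻¹ by group]
      exact hIn.mpr (inv_mem (hIn.mp (hMcase d a hd)))
    exact hIn.mpr (hZn.conj_mem _ (hIn.mp h1) a)
  by_cases hfull : ∀ a : P, a ∈ M
  · left
    intro a b
    left
    rw [hMc a (hfull a) b (hfull b), mul_inv_cancel_right, mul_inv_cancel]
  right
  obtain ⟨e, he⟩ := IsPGroup.iff_orderOf.mp hP m
  have he3 : 3 ≤ e := by
    by_contra h
    refine hsmall (hM2 _ (mul_mem hmM hmM) ?_)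
    rw [show m * m * (m * m) = m ^ 2 ^ 2 by simp [pow_succ, mul_assoc], ← orderOf_dvd_iff_pow_eq_one, he]
    exact pow_dvd_pow 2 (by omega)
  have hdvd : ∀ i : ℤ, m ^ i = 1 ↔ (2 : ℤ) ^ e ∣ i := fun i => by
    rw [← orderOf_dvd_iff_zpow_eq_one, he]
    push_cast
    rfl
  have hodd4 : ∀ i : ℤ, Odd i → ¬ In2 z (m ^ (2 * i)) := by
    intro i hi h
    have h4 : m ^ (2 * i * 2) = 1 := by
      rw [zpow_mul]
      rcases h with h | h <;> rw [h]
      · exact one_zpow _
      · rw [zpow_two, hz2]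
    rw [hdvd] at h4
    obtain ⟨k, hk⟩ := (pow_dvd_pow (2 : ℤ) he3).trans h4
    obtain ⟨l, hl⟩ := hi
    omega
  obtain ⟨q, hq2, hqz⟩ : ∃ q : ℤ, m ^ (2 * q) = z ∧ z ^ q = 1 := by
    refine ⟨2 ^ (e - 2), (hM2 _ (zpow_mem hmM _) ?_).resolve_left ?_, ?_⟩
    · rw [← zpow_add, hdvd, show (2 : ℤ) * 2 ^ (e - 2) + 2 * 2 ^ (e - 2) = 2 ^ (e - 2 + 2) by ring,
        show e - 2 + 2 = e by omega]
    · rw [hdvd, show (2 : ℤ) * 2 ^ (e - 2) = 2 ^ (e - 1) by rw [← pow_succ']; congr 1; omega]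
      intro h
      have := Int.le_of_dvd (by positivity) h
      have h2 : (2 : ℤ) ^ (e - 1) < 2 ^ e := pow_lt_pow_right₀ (by norm_num) (by omega)
      omega
    · rw [show (2 : ℤ) ^ (e - 2) = 2 * 2 ^ (e - 3) by rw [← pow_succ']; congr 1; omega, zpow_mul, zpow_two, hz2,
        one_zpow]
  have hzmul : ∀ k : ℤ, (m * z) ^ k = m ^ k * z ^ k := fun k => (show Commute m z from hzc m).mul_zpow k
  -- no element multiplies `m` by `z`
  have hA : ∀ g, g * m * g⁻¹ ≠ m * z := by
    intro g hg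
    have hgM : g ∉ M := fun h => hz1 (by
      rw [hMc g h m hmM, mul_inv_cancel_right] at hg
      exact mul_eq_left.mp hg.symm)
    have hgz : g * z * g⁻¹ = z := by rw [hzc g, mul_inv_cancel_right]
    obtain ⟨i, hi⟩ := hMz (g * g) (hcomm _ (by
      rw [show g * g * m * (g * g)⁻¹ = g * (g * m * g⁻¹) * g⁻¹ by group, hg,
        show g * (m * z) * g⁻¹ = (g * m * g⁻¹) * (g * z * g⁻¹) by group, hg, hgz, mul_assoc, hz2, mul_one]))
    have hz' : z ^ i = 1 := by
      have h1 : g * m ^ i * g⁻¹ = m ^ i := by rw [hi]; group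
      rw [← conj_zpow, hg, hzmul] at h1
      exact mul_eq_left.mp h1
    obtain ⟨k, rfl⟩ : ∃ k, i = 2 * k := by
      rcases Int.even_or_odd' i with ⟨k, h | h⟩
      · exact ⟨k, h⟩
      · exfalso; rw [h, zpow_add, zpow_mul, zpow_two, hz2, one_zpow, one_mul, zpow_one] at hz'; exact hz1 hz'
    have hsq : ∀ j : ℤ, g * m ^ j * (g * m ^ j) = m ^ (2 * k + 2 * j) * z ^ j := fun j => by
      rw [show g * m ^ j * (g * m ^ j) = g * m ^ j * g⁻¹ * (g * g) * m ^ j by group, ← hi, ← conj_zpow, hg, hzmul,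
        ((show Commute m z from hzc m).zpow_zpow j j).eq, mul_assoc (z ^ j), mul_assoc, ← zpow_add, ← zpow_add,
        ← ((show Commute m z from hzc m).zpow_zpow _ j).eq]
      ring_nf
    obtain ⟨j, hj⟩ : ∃ j : ℤ, g * m ^ j * (g * m ^ j) = 1 := by
      rcases (hIn.mpr (zpow_mem (mem_zpowers z) (-k)) : In2 z (z ^ (-k))) with h | h
      · exact ⟨-k, by rw [hsq, show 2 * k + 2 * -k = 0 by ring, zpow_zero, one_mul, h]⟩
      · exact ⟨-k + q, by
          rw [hsq, show 2 * k + 2 * (-k + q) = 2 * q by ring, hq2, zpow_add, hqz, mul_one, h, hz2]⟩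
    set x := g * m ^ j
    have hxm : x * m * x⁻¹ = m * z := by
      rw [show g * m ^ j * m * (g * m ^ j)⁻¹ = g * m * g⁻¹ by group, hg]
    have hxM : x ∉ M := fun h => hgM (by simpa [x] using mul_mem h (inv_mem (zpow_mem hmM j)))
    have hnear : ∀ c : P, In2 z (c * x * c⁻¹ * x⁻¹) := by
      intro c
      -- the commutator with `x` lies in `M`
      obtain ⟨r, hr⟩ := hconj c
      have hr' : c⁻¹ * m ^ r * c = m := by rw [← hr]; group
      obtain ⟨a, ha⟩ := hMz (c * x * c⁻¹ * x⁻¹) (hcomm _ (by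
        have hxi : x⁻¹ * m * x = m * z := by
          rw [inv_eq_of_mul_eq_one_right hj]
          nth_rewrite 2 [← inv_eq_of_mul_eq_one_right hj]
          exact hxm
        have hcz : c * z * c⁻¹ = z := by rw [hzc c, mul_inv_cancel_right]
        calc c * x * c⁻¹ * x⁻¹ * m * (c * x * c⁻¹ * x⁻¹)⁻¹
            = c * x * c⁻¹ * (x⁻¹ * m * x) * c * x⁻¹ * c⁻¹ := by group
          _ = c * x * (c⁻¹ * m * c) * (c⁻¹ * (z * c)) * x⁻¹ * c⁻¹ := by rw [hxi]; group
          _ = c * (x * (c⁻¹ * m * c) * x⁻¹) * (x * (z * x⁻¹)) * c⁻¹ := by rw [← hzc c, inv_mul_cancel_left]; group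
          _ = m := by
            obtain ⟨s, hs⟩ := hconj c⁻¹
            rw [inv_inv] at hs
            rw [hs, ← conj_zpow, hxm, hzmul, ← hzc x⁻¹, mul_inv_cancel_left,
              show c * (m ^ s * z ^ s) * z * c⁻¹ = c * m ^ s * c⁻¹ * (c * (z ^ s * z) * c⁻¹) by group]
            have e2 : c * m ^ s * c⁻¹ = m := by rw [← hs]; group
            rw [e2]
            have hs1 : z ^ s * z = 1 := by
              rcases Int.even_or_odd' s with ⟨l, rfl | rfl⟩
              · exfalso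
                obtain ⟨l', hl'⟩ : ∃ l' : ℤ, m ^ (l' * (2 * l)) = m := ⟨r, by
                  rw [zpow_mul, ← hr, conj_zpow, e2]⟩
                have h1 : m ^ (l' * (2 * l) - 1) = 1 := by rw [zpow_sub, hl', zpow_one, mul_inv_cancel]
                rw [hdvd] at h1
                obtain ⟨w, hw⟩ := (dvd_pow_self (2 : ℤ) (by omega : e ≠ 0)).trans h1
                have : l' * (2 * l) = 2 * (l' * l) := by ring
                omega
              · rw [zpow_add, zpow_mul, zpow_two, hz2, one_zpow, one_mul, zpow_one, hz2]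
            rw [hs1, mul_one, mul_inv_cancel, mul_one]))
      rw [← ha]
      have hcx : c * x * c⁻¹ = m ^ a * x := by rw [ha]; group
      have h2 : m ^ (2 * a) * z ^ a = 1 := by
        have h3 : c * x * c⁻¹ * (c * x * c⁻¹) = 1 := by
          rw [show c * x * c⁻¹ * (c * x * c⁻¹) = c * (x * x) * c⁻¹ by group, hj, mul_one, mul_inv_cancel]
        rw [hcx, show m ^ a * x * (m ^ a * x) = m ^ a * (x * m ^ a * x⁻¹) * (x * x) by group, hj, mul_one,
          ← conj_zpow, hxm, hzmul, ← mul_assoc, ← zpow_add, ← two_mul] at h3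
        exact h3
      rcases Int.even_or_odd' a with ⟨l, rfl | rfl⟩
      · rw [show z ^ (2 * l) = 1 by rw [zpow_mul, zpow_two, hz2, one_zpow], mul_one] at h2
        refine hM2 _ (zpow_mem hmM _) ?_
        rw [← zpow_add, ← two_mul, h2]
      · refine absurd ?_ (hodd4 _ ⟨l, rfl⟩)
        rw [mul_eq_one_iff_eq_inv.mp h2]
        exact hIn.mpr (inv_mem (zpow_mem (mem_zpowers z) _))
    rcases hno x hj hnear with h | h
    · exact hxM (by rw [h]; exact one_mem _)
    · exact hxM (by rw [h]; exact hzM)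
  -- the possible actions on `m`
  have hB : ∀ g, g ∉ M → g * m * g⁻¹ = m⁻¹ ∨ g * m * g⁻¹ = m⁻¹ * z := by
    have step : ∀ g, g * g ∈ M → g ∉ M → g * m * g⁻¹ = m⁻¹ ∨ g * m * g⁻¹ = m⁻¹ * z := by
      intro g hg2 hg
      obtain ⟨r, hr⟩ := hconj g
      have h2 : m ^ (r ^ 2 - 1) = 1 := by
        have e1 : g * (g * m * g⁻¹) * g⁻¹ = m := by
          rw [show g * (g * m * g⁻¹) * g⁻¹ = g * g * m * (g * g)⁻¹ by group, hMc _ hg2 m hmM, mul_inv_cancel_right]
        rw [hr, ← conj_zpow, hr, ← zpow_mul] at e1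
        rw [zpow_sub, zpow_one, pow_two, e1, mul_inv_cancel]
      rcases CfsgLib.Connectivity.exponent_cases ((hdvd _).mp h2) with h | h
      · exfalso
        have := (hM2 _ (zpow_mem hmM (r - 1)) (by rw [← zpow_add, hdvd]; convert h using 1; ring))
        rcases this with e1 | e1 <;> rw [zpow_sub, zpow_one, mul_inv_eq_iff_eq_mul] at e1
        · exact hg (hcomm g (by rw [hr, e1, one_mul]))
        · exact hA g (by rw [hr, e1, hzc m])
      · rcases (hM2 _ (zpow_mem hmM (r + 1)) (by rw [← zpow_add, hdvd]; convert h using 1; ring)) with e1 | e1 <;>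
          rw [zpow_add, zpow_one] at e1
        · exact Or.inl (hr.trans (mul_eq_one_iff_eq_inv.mp e1))
        · right
          rw [hr, eq_mul_inv_iff_mul_eq.mpr e1, ← hzc]
    intro g
    obtain ⟨n, hn⟩ := hP g
    induction n generalizing g with
    | zero => intro hg; rw [pow_zero, pow_one] at hn; exact absurd (hn ▸ one_mem M) hg
    | succ n ih =>
      intro hg
      by_cases hg2 : g * g ∈ M
      · exact step g hg2 hg
      exfalso
      have hn' : (g * g) ^ 2 ^ n = 1 := by rw [← pow_two, ← pow_mul, ← pow_succ', hn]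
      obtain ⟨t, ht⟩ := hconj g
      have e1 : g * g * m * (g * g)⁻¹ = m ^ (t * t) := by
        rw [show g * g * m * (g * g)⁻¹ = g * (g * m * g⁻¹) * g⁻¹ by group, ht, ← conj_zpow, ht, ← zpow_mul]
      have h4 : In2 z (m ^ (t * t + 1)) := by
        rw [zpow_add, zpow_one, ← e1]
        rcases ih (g * g) hn' hg2 with h | h <;> rw [h]
        · exact Or.inl (inv_mul_cancel m)
        · exact Or.inr (by rw [mul_assoc, ← hzc m, inv_mul_cancel_left])
      rcases Int.even_or_odd' t with ⟨l, rfl | rfl⟩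
      · have h5 : m ^ (2 * (2 * (2 * l * l) + 1)) = 1 := by
          rw [mul_comm, zpow_mul, show 2 * (2 * l * l) + 1 = 2 * l * (2 * l) + 1 by ring]
          rcases h4 with h | h <;> rw [h]
          · exact one_zpow _
          · rw [zpow_two, hz2]
        exact hodd4 _ ⟨2 * l * l, rfl⟩ (Or.inl h5)
      · refine hodd4 (2 * l * l + 2 * l + 1) ⟨l * l + l, by ring⟩ ?_
        rwa [show 2 * (2 * l * l + 2 * l + 1) = (2 * l + 1) * (2 * l + 1) + 1 by ring]
  refine ⟨m, hsmall, ?_, ?_⟩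
  · rw [← hMeq, index_eq_two_iff]
    obtain ⟨a, ha⟩ : ∃ a, a ∉ M := not_forall.mp hfull
    refine ⟨a, fun b => ?_⟩
    by_cases hb : b ∈ M
    · refine Or.inr ⟨hb, fun h => ha ?_⟩
      simpa using mul_mem (inv_mem hb) h
    refine Or.inl ⟨?_, hb⟩
    have key : ∀ {u v : P}, u * m * u⁻¹ = m⁻¹ → v * m * v⁻¹ = m⁻¹ * z → False := fun {u v} hu hv => hA (u * v) (by
      rw [show u * v * m * (u * v)⁻¹ = u * (v * m * v⁻¹) * u⁻¹ by group, hv,
        show u * (m⁻¹ * z) * u⁻¹ = (u * m * u⁻¹)⁻¹ * (u * z * u⁻¹) by group, hu, inv_inv, hzc u, mul_inv_cancel_right])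
    refine hcomm _ ?_
    rw [show b * a * m * (b * a)⁻¹ = b * (a * m * a⁻¹) * b⁻¹ by group]
    rcases hB a ha with h | h <;> rcases hB b hb with h' | h'
    · rw [h, ← conj_inv, h', inv_inv]
    · exact (key h h').elim
    · exact (key h' h).elim
    · rw [h, show b * (m⁻¹ * z) * b⁻¹ = (b * m * b⁻¹)⁻¹ * (b * z * b⁻¹) by group, h', hzc b, mul_inv_cancel_right,
        mul_inv_rev, hzi, inv_inv, mul_assoc, hzc m, ← mul_assoc, hz2, one_mul]
  · intro g hg
    rw [← hMeq] at hg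
    have hgm : g * g * m * (g * g)⁻¹ = m := by
      rcases hB g hg with h | h <;> rw [show g * g * m * (g * g)⁻¹ = g * (g * m * g⁻¹) * g⁻¹ by group, h]
      · rw [← conj_inv, h, inv_inv]
      · rw [show g * (m⁻¹ * z) * g⁻¹ = (g * m * g⁻¹)⁻¹ * (g * z * g⁻¹) by group, h, hzc g, mul_inv_cancel_right,
          mul_inv_rev, hzi, inv_inv, mul_assoc, hzc m, ← mul_assoc, hz2, one_mul]
    obtain ⟨i, hi⟩ := hMz (g * g) (hcomm _ hgm)
    have h1 : g * m ^ i * g⁻¹ = m ^ i := by rw [hi]; group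
    rw [← hi]
    rcases hB g hg with h | h
    · refine hM2 _ (zpow_mem hmM _) ?_
      rw [← conj_zpow, h, inv_zpow] at h1
      nth_rewrite 1 [← h1]
      rw [inv_mul_cancel]
    · rw [← conj_zpow, h, (show Commute m⁻¹ z from (show Commute m z from hzc m).inv_left).mul_zpow, inv_zpow,
        inv_mul_eq_iff_eq_mul, ← zpow_add, ← two_mul] at h1
      rcases Int.even_or_odd' i with ⟨l, rfl | rfl⟩
      · refine hM2 _ (zpow_mem hmM _) ?_
        rw [← zpow_add, ← two_mul, ← h1, zpow_mul, zpow_two, hz2, one_zpow]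
      · exact absurd (h1 ▸ hIn.mpr (zpow_mem (mem_zpowers z) _)) (hodd4 _ ⟨l, rfl⟩)

end CfsgLib.RankInt
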