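import Cfsg.Agent.Lib.CyclicInt.Component
import Cfsg.Agent.Lib.TransferExtremal
import Cfsg.Prelude.Def_CaseTheorems

/-!
Sylow 2-subgroups meeting in groups of rank at most one: basic consequences.

Blueprint: `blueprint/bender/S3310.md`.
-/

set_option autoImplicit false
set_option linter.unusedSectionVars false
set_option linter.style.haveILetI false

namespace CfsgLib.RankInt

open Subgroup
open CfsgLib.CyclicInt (Inv2 Two mem_smul_sylow conj_mem_smul_sylow smul_eq_iff_normalizer)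
open scoped Pointwise

universe u v

/-- Distinct Sylow 2-subgroups have no two commuting involutions in common. -/
def RI (G : Type u) [Group G] : Prop :=
  ∀ S T : Sylow 2 G, ∀ x y : G, Inv2 x → Inv2 y → x ≠ y → x * y = y * x →
    x ∈ (S : Subgroup G) → y ∈ (S : Subgroup G) → x ∈ (T : Subgroup G) → y ∈ (T : Subgroup G) → S = T

/-- At most one involution. -/
def One {G : Type u} [Group G] (P : Subgroup G) : Prop :=
  ∀ x ∈ P, ∀ y ∈ P, Inv2 x → Inv2 y → x = y

variable {G : Type u} [Group G]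

theorem One.mono {P Q : Subgroup G} (h : One Q) (hPQ : P ≤ Q) : One P :=
  fun x hx y hy => h x (hPQ hx) y (hPQ hy)

variable [Finite G]

/-- The hypothesis in the form of the statement. -/
theorem ri_of_rank
    (hI : ∀ S T : Sylow 2 G, S ≠ T → Cfsg.PRankLE 2 1 ↥((S : Subgroup G) ⊓ (T : Subgroup G))) : RI G := by
  intro S T x y hx hy hne hc hxS hyS hxT hyT
  by_contra hST
  obtain ⟨hcom, hcyc, -⟩ := CfsgLib.CyclicInt.four_group hx hy hne hc
  have hle : Subgroup.closure ({x, y} : Set G) ≤ (S : Subgroup G) ⊓ (T : Subgroup G) := by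
    refine (closure_le _).mpr ?_
    rintro v (rfl | rfl)
    exacts [⟨hxS, hxT⟩, ⟨hyS, hyT⟩]
  set D := (S : Subgroup G) ⊓ (T : Subgroup G)
  set V := (Subgroup.closure ({x, y} : Set G)).subgroupOf D
  have h2 : ∀ v ∈ V, v ^ 2 = 1 := fun v hv => Subtype.ext (by
    rcases CfsgLib.CyclicInt.mem_four_list hx hy hc
      (show ((v : D) : G) ∈ Subgroup.closure ({x, y} : Set G) from hv) with e | e | e | e <;>
      rw [Subgroup.coe_pow, Subgroup.coe_one, e, pow_two]
    exacts [one_mul 1, hx.2, hy.2, (hx.mul hy hne hc).2])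
  have := hI S T hST V ⟨⟨fun a b => Subtype.ext (Subtype.ext (congrArg Subtype.val
    (hcom.is_comm.comm (⟨_, a.2⟩ : Subgroup.closure ({x, y} : Set G)) ⟨_, b.2⟩) :))⟩⟩ h2
  let f : Fin 3 → V := ![1, ⟨⟨x, hxS, hxT⟩, subset_closure (Or.inl rfl)⟩, ⟨⟨y, hyS, hyT⟩, subset_closure (Or.inr rfl)⟩]
  have hf : Function.Injective f := by
    intro i j e
    fin_cases i <;> fin_cases j <;> simp [f, Subtype.ext_iff, hne, hne.symm, hx.1, hy.1, Ne.symm hx.1, Ne.symm hy.1] at e ⊢
  have h3 := Nat.card_le_card_of_injective f hf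
  have := (Nat.card_fin 3 ▸ h3).trans this
  norm_num at this

/-- An element carrying two commuting involutions of `S` into `S` normalises `S`. -/
theorem RI.normalizes (h : RI G) {S : Sylow 2 G} {g x y : G} (hx : Inv2 x) (hy : Inv2 y) (hne : x ≠ y)
    (hc : x * y = y * x) (hxS : x ∈ (S : Subgroup G)) (hyS : y ∈ (S : Subgroup G))
    (hx' : g * x * g⁻¹ ∈ (S : Subgroup G)) (hy' : g * y * g⁻¹ ∈ (S : Subgroup G)) :
    g ∈ normalizer ((S : Subgroup G) : Set G) :=
  smul_eq_iff_normalizer.mp (h (g • S) S _ _ (hx.conj g) (hy.conj g)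
    (fun e => hne (mul_left_cancel (mul_right_cancel e))) (by
      calc g * x * g⁻¹ * (g * y * g⁻¹) = g * (x * y) * g⁻¹ := by group
        _ = g * (y * x) * g⁻¹ := by rw [hc]
        _ = _ := by group) (conj_mem_smul_sylow hxS) (conj_mem_smul_sylow hyS) hx' hy')

/-- An element commuting with two commuting involutions of `S` normalises `S`. -/
theorem RI.normalizes_of_comm (h : RI G) {S : Sylow 2 G} {g x y : G} (hx : Inv2 x) (hy : Inv2 y) (hne : x ≠ y)
    (hc : x * y = y * x) (hxS : x ∈ (S : Subgroup G)) (hyS : y ∈ (S : Subgroup G))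
    (hgx : g * x = x * g) (hgy : g * y = y * g) : g ∈ normalizer ((S : Subgroup G) : Set G) :=
  h.normalizes hx hy hne hc hxS hyS (by rw [hgx, mul_inv_cancel_right]; exact hxS)
    (by rw [hgy, mul_inv_cancel_right]; exact hyS)

theorem RI.subgroup (h : RI G) (H : Subgroup G) : RI H := by
  haveI : Fact (Nat.Prime 2) := ⟨Nat.prime_two⟩
  intro P R x y hx hy hne hc hxP hyP hxR hyR
  obtain ⟨P₁, hP₁⟩ := P.exists_comap_subtype_eq
  obtain ⟨R₁, hR₁⟩ := R.exists_comap_subtype_eq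
  have hm : ∀ {U : Sylow 2 H} {U₁ : Sylow 2 G}, (U₁ : Subgroup G).comap H.subtype = U → ∀ {w : H},
      w ∈ (U : Subgroup H) → (w : G) ∈ (U₁ : Subgroup G) := fun {U U₁} e {w} hw => by
    rw [← e] at hw; exact hw
  have e := h P₁ R₁ x y ⟨fun e => hx.1 (Subtype.ext e), congrArg Subtype.val hx.2⟩
    ⟨fun e => hy.1 (Subtype.ext e), congrArg Subtype.val hy.2⟩ (fun e => hne (Subtype.ext e))
    (congrArg Subtype.val hc) (hm hP₁ hxP) (hm hP₁ hyP) (hm hR₁ hxR) (hm hR₁ hyR)
  exact Sylow.ext (by rw [← hP₁, ← hR₁, e])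

/-- The property passes to the quotient by a normal subgroup of odd order. -/
theorem RI.quot_odd (h : RI G) (O : Subgroup G) [O.Normal] (hO : Odd (Nat.card O)) : RI (G ⧸ O) := by
  classical
  haveI : Fact (Nat.Prime 2) := ⟨Nat.prime_two⟩
  set π := QuotientGroup.mk' O
  have hπ : Function.Surjective π := QuotientGroup.mk'_surjective O
  -- a 2-subgroup maps injectively
  have hinj : ∀ (P : Subgroup G), IsPGroup 2 P → ∀ a ∈ P, π a = 1 → a = 1 := fun P hP a ha e => by
    obtain ⟨k, hk⟩ := hP ⟨a, ha⟩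
    exact orderOf_eq_one_iff.mp (Nat.eq_one_of_dvd_coprimes ((Nat.coprime_two_left.mpr hO).pow_left k)
      (orderOf_dvd_of_pow_eq_one (congrArg Subtype.val hk)) (orderOf_dvd_natCard O ((QuotientGroup.eq_one_iff a).mp e)))
  have hinj' : ∀ (P : Subgroup G), IsPGroup 2 P → ∀ a ∈ P, ∀ b ∈ P, π a = π b → a = b := fun P hP a ha b hb e =>
    inv_mul_eq_one.mp (hinj P hP _ (mul_mem (inv_mem ha) hb) (by rw [map_mul, map_inv, e, inv_mul_cancel]))
  intro S T x y hx hy hne hc hxS hyS hxT hyT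
  obtain ⟨S₀, rfl⟩ := Sylow.mapSurjective_surjective hπ 2 S
  obtain ⟨T₀, rfl⟩ := Sylow.mapSurjective_surjective hπ 2 T
  obtain ⟨a, ha, rfl⟩ := hxS
  obtain ⟨b, hb, rfl⟩ := hyS
  obtain ⟨a', ha', eA⟩ := hxT
  obtain ⟨b', hb', eB⟩ := hyT
  set M := (Subgroup.closure ({π a, π b} : Set (G ⧸ O))).comap π
  have haM : a ∈ M := subset_closure (Or.inl rfl)
  have hbM : b ∈ M := subset_closure (Or.inr rfl)
  have ha'M : a' ∈ M := by rw [mem_comap, eA]; exact subset_closure (Or.inl rfl)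
  have hb'M : b' ∈ M := by rw [mem_comap, eB]; exact subset_closure (Or.inr rfl)
  obtain ⟨P, hP⟩ := ((S₀.2.to_le (closure_le _ |>.mpr (by
    rintro v (rfl | rfl) <;> assumption) : Subgroup.closure ({a, b} : Set G) ≤ (S₀ : Subgroup G))).comap_subtype
    (K := M)).exists_le_sylow
  obtain ⟨R, hR⟩ := ((T₀.2.to_le (closure_le _ |>.mpr (by
    rintro v (rfl | rfl) <;> assumption) : Subgroup.closure ({a', b'} : Set G) ≤ (T₀ : Subgroup G))).comap_subtype
    (K := M)).exists_le_sylow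
  obtain ⟨m, hm⟩ := MulAction.exists_smul_eq M P R
  have hcl : ∀ {v : G}, v ∈ M → ∀ {w : G}, w ∈ M → π (v * w * v⁻¹) = π w := fun {v} hv {w} hw => by
    haveI := (CfsgLib.CyclicInt.four_group hx hy hne hc).1
    have e : π v * π w = π w * π v := congrArg Subtype.val
      (mul_comm' (⟨_, hv⟩ : Subgroup.closure ({π a, π b} : Set (G ⧸ O))) ⟨_, hw⟩)
    rw [map_mul, map_mul, map_inv, e, mul_inv_cancel_right]
  have hRG : IsPGroup 2 ((R : Subgroup M).map M.subtype) := R.2.map _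
  have hconj : ∀ {p q : G} (hp : p ∈ M), (⟨p, hp⟩ : M) ∈ (P : Subgroup M) → ∀ (hq : q ∈ M),
      (⟨q, hq⟩ : M) ∈ (R : Subgroup M) → π q = π p → (m : G) * p * (m : G)⁻¹ = q := by
    intro p q hp hpP hq hqR e
    refine hinj' _ hRG ((m * ⟨p, hp⟩ * m⁻¹ : M) : G) ⟨m * ⟨p, hp⟩ * m⁻¹, ?_, rfl⟩ q ⟨⟨q, hq⟩, hqR, rfl⟩
      ((hcl m.2 hp).trans e.symm)
    rw [← hm]
    exact ⟨_, hpP, rfl⟩
  have ea := hconj haM (hP (show a ∈ _ from subset_closure (Or.inl rfl))) ha'M
    (hR (show a' ∈ _ from subset_closure (Or.inl rfl))) eA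
  have eb := hconj hbM (hP (show b ∈ _ from subset_closure (Or.inr rfl))) hb'M
    (hR (show b' ∈ _ from subset_closure (Or.inr rfl))) eB
  have hI2 : ∀ {P : Subgroup G}, IsPGroup 2 P → ∀ {v : G}, v ∈ P → Inv2 (π v) → Inv2 v := fun {P} hP {v} hv hi =>
    ⟨fun e => hi.1 (by rw [e, map_one]), hinj P hP _ (mul_mem hv hv) (by rw [map_mul, hi.2])⟩
  have hia := hI2 T₀.2 ha' (eA ▸ hx)
  have hib := hI2 T₀.2 hb' (eB ▸ hy)
  have hcc : a' * b' = b' * a' := hinj' _ T₀.2 _ (mul_mem ha' hb') _ (mul_mem hb' ha')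
    (by rw [map_mul, map_mul, eA, eB, hc])
  have hST : (m : G) • S₀ = T₀ := h _ _ a' b' hia hib (fun e => hne (by rw [← eA, ← eB, e])) hcc
    (ea ▸ conj_mem_smul_sylow ha) (eb ▸ conj_mem_smul_sylow hb) ha' hb'
  have hmS : π (m : G) ∈ ((S₀.mapSurjective hπ : Sylow 2 (G ⧸ O)) : Subgroup (G ⧸ O)) :=
    (closure_le _).mpr (by
      rintro v (rfl | rfl)
      exacts [⟨a, ha, rfl⟩, ⟨b, hb, rfl⟩]) m.2
  rw [← hST]
  refine Sylow.ext ((((m : G) • S₀).mapSurjective hπ).is_maximal' (S₀.mapSurjective hπ).2 ?_)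
  rintro _ ⟨_, ⟨u, hu, rfl⟩, rfl⟩
  show π ((m : G) * u * (m : G)⁻¹) ∈ _
  rw [map_mul, map_mul, map_inv]
  exact mul_mem (mul_mem hmS ⟨u, hu, rfl⟩) (inv_mem hmS)

/-- A non-trivial 2-subgroup has a central involution. -/
theorem exists_central_inv {P : Subgroup G} (hP : IsPGroup 2 P) (h1 : P ≠ ⊥) :
    ∃ z ∈ P, Inv2 z ∧ ∀ s ∈ P, s * z = z * s := by
  haveI : Fact (Nat.Prime 2) := ⟨Nat.prime_two⟩
  haveI : Nontrivial P := (nontrivial_iff_ne_bot P).mpr h1
  haveI := hP.center_nontrivial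
  obtain ⟨k, hk, hc⟩ := (hP.to_subgroup (center P)).nontrivial_iff_card.mp inferInstance
  obtain ⟨z, hz⟩ := exists_prime_orderOf_dvd_card' (G := center P) 2 (hc ▸ dvd_pow_self 2 (by omega))
  refine ⟨((z : P) : G), (z : P).2, CfsgLib.CyclicInt.inv2_iff.mpr ?_, fun s hs =>
    congrArg Subtype.val (mem_center_iff.mp z.2 ⟨s, hs⟩)⟩
  rw [orderOf_coe, orderOf_coe, hz]

/-- The intersection of distinct Sylow subgroups has one involution. -/
theorem RI.one_inf (h : RI G) {S T : Sylow 2 G} (hne : S ≠ T) : One ((S : Subgroup G) ⊓ (T : Subgroup G)) := by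
  intro x hx y hy hxi hyi
  have hD : IsPGroup 2 ↥((S : Subgroup G) ⊓ (T : Subgroup G)) := S.2.to_le inf_le_left
  obtain ⟨z, hz, hzi, hzc⟩ := exists_central_inv hD (fun e => hxi.1 (mem_bot.mp (e ▸ hx)))
  have key : ∀ v ∈ (S : Subgroup G) ⊓ (T : Subgroup G), Inv2 v → v = z := fun v hv hvi =>
    by_contra fun e => hne (h S T v z hvi hzi e (hzc v hv) hv.1 hz.1 hv.2 hz.2)
  exact (key x hx hxi).trans (key y hy hyi).symm

/-- A 2-subgroup of `H` lies in a Sylow 2-subgroup meeting `H` in a given Sylow subgroup, up to conjugation. -/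
theorem exists_conj_mem {H : Subgroup G} (P : Sylow 2 H) {x : G} (hxH : x ∈ H) (hx : Two x) :
    ∃ g ∈ H, ∃ v : H, v ∈ (P : Subgroup H) ∧ g * x * g⁻¹ = v := by
  haveI : Fact (Nat.Prime 2) := ⟨Nat.prime_two⟩
  have h2 : Two (⟨x, hxH⟩ : H) := hx.imp fun k hk => Subtype.ext hk
  obtain ⟨Q, hQ⟩ := h2.exists_sylow
  obtain ⟨g, hg⟩ := MulAction.exists_smul_eq H Q P
  refine ⟨g, g.2, g * ⟨x, hxH⟩ * g⁻¹, ?_, rfl⟩
  rw [← hg]
  exact conj_mem_smul_sylow hQ

/-- A perfect group has no subgroup of index two. -/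
theorem no_index_two (hP : commutator G = ⊤) (M : Subgroup G) (hM : M.Normal) : M.index ≠ 2 := fun e => by
  haveI := hM
  haveI : Fact (Nat.Prime 2) := ⟨Nat.prime_two⟩
  haveI : IsCyclic (G ⧸ M) := isCyclic_of_prime_card (p := 2) (by rw [← index_eq_card, e])
  letI := IsCyclic.commGroup (α := G ⧸ M)
  have hle : commutator G ≤ M := by
    rw [← QuotientGroup.ker_mk' M]
    exact Abelianization.commutator_subset_ker _
  rw [hP, top_le_iff] at hle
  rw [hle, index_top] at e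
  omega

/-- Thompson's transfer in a perfect group. -/
theorem exists_conj_of_perfect (hP : commutator G = ⊤) (T : Sylow 2 G) {A : Subgroup G}
    (hA : A ≤ (T : Subgroup G)) (h2 : A.relIndex (T : Subgroup G) = 2) {u : G} (hu : u * u = 1) :
    ∃ g : G, g * u * g⁻¹ ∈ A :=
  (CfsgLib.TransferExtremal.exists_conj (fun M hM => no_index_two hP M hM) T A hA h2 u
    (by rw [pow_two, hu])).imp fun _ h => h.1

/-- Three commuting involutions centralise a normal subgroup of odd order with the whole Sylow subgroup. -/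
theorem RI.commute_of_eight (h : RI G) {S : Sylow 2 G} (O : Subgroup G) [O.Normal] (hO : Odd (Nat.card O))
    {x y z : G} (hx : Inv2 x) (hy : Inv2 y) (hz : Inv2 z) (hxy : x ≠ y) (hxz : x ≠ z) (hyz : y ≠ z)
    (hzxy : z ≠ x * y) (hxS : x ∈ (S : Subgroup G)) (hyS : y ∈ (S : Subgroup G)) (hzS : z ∈ (S : Subgroup G))
    (cxy : x * y = y * x) (cxz : x * z = z * x) (cyz : y * z = z * y) {w p : G} (hw : w ∈ O)
    (hp : p ∈ (S : Subgroup G)) : w * p = p * w := by
  have top : ∀ g : G, g ∈ normalizer (O : Set G) := fun g => by rw [normalizer_eq_top]; exact mem_top g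
  set V := Subgroup.closure ({x, y} : Set G)
  have hV : V ≤ (S : Subgroup G) := by
    refine (closure_le _).mpr ?_
    rintro v (rfl | rfl) <;> assumption
  obtain ⟨hcom, -, -⟩ := CfsgLib.CyclicInt.four_group hx hy hxy cxy
  suffices hw' : w ∈ centralizer ((S : Subgroup G) : Set G) from (hw' p hp).symm
  refine CfsgLib.CyclicInt.mem_of_four hx hy hxy cxy hO (top x) (top y) (fun e v he heV hv hve => ?_) hw
  have hez : e * z = z * e := by
    rcases CfsgLib.CyclicInt.mem_four_list hx hy cxy heV with e1 | e1 | e1 | e1 <;> subst e1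
    exacts [absurd rfl he.1, cxz, cyz, (Commute.mul_left cxz cyz : Commute (x * y) z)]
  have hzV : z ∉ V := fun hzc => by
    rcases CfsgLib.CyclicInt.mem_four_list hx hy cxy hzc with e1 | e1 | e1 | e1
    exacts [hz.1 e1, hxz e1.symm, hyz e1.symm, hzxy e1]
  set O' : Subgroup G := O ⊓ centralizer {e}
  have hn : ∀ a : G, a * e = e * a → a ∈ normalizer (O' : Set G) := fun a hae => by
    rw [mem_normalizer_iff]
    intro b
    simp only [O', mem_inf, mem_centralizer_singleton_iff]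
    refine and_congr (mem_normalizer_iff.mp (top a) b) ⟨fun hb => ?_, fun hb => ?_⟩
    · exact (Commute.mul_left (Commute.mul_left hae hb) (Commute.inv_left hae) : Commute (a * b * a⁻¹) e)
    · have h' : Commute (a⁻¹ * (a * b * a⁻¹) * a) e :=
        Commute.mul_left (Commute.mul_left (Commute.inv_left hae) hb) hae
      rwa [show a⁻¹ * (a * b * a⁻¹) * a = b by group] at h'
  obtain ⟨f, hf, hef, hfV, hfz⟩ : ∃ f, Inv2 f ∧ e ≠ f ∧ f ∈ V ∧ f * z = z * f := by
    by_cases hex : e = x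
    · exact ⟨y, hy, hex ▸ hxy, subset_closure (Or.inr rfl), cyz⟩
    · exact ⟨x, hx, hex, subset_closure (Or.inl rfl), cxz⟩
  have hfe : f * e = e * f := congrArg Subtype.val (hcom.is_comm.comm (⟨f, hfV⟩ : V) ⟨e, heV⟩)
  refine CfsgLib.CyclicInt.mem_of_four (D := centralizer ((S : Subgroup G) : Set G)) hz hf (fun e1 => hzV (e1 ▸ hfV)) hfz.symm
    (hO.of_dvd_nat (card_dvd_of_le inf_le_left)) (hn z hez.symm) (hn f hfe)
    (fun g v' hg hgF hv' hvg q hq => ?_) (⟨hv, mem_centralizer_singleton_iff.mpr hve⟩ : v ∈ O')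
  have hgS : g ∈ (S : Subgroup G) := (closure_le _).mpr (by
    rintro w (rfl | rfl)
    exacts [hzS, hV hfV]) hgF
  have hgl := CfsgLib.CyclicInt.mem_four_list hz hf hfz.symm hgF
  have heg : e ≠ g := fun e1 => by
    subst e1
    rcases hgl with e1 | e1 | e1 | e1
    · exact he.1 e1
    · exact hzV (e1 ▸ heV)
    · exact hef e1
    · refine hzV ?_
      have := mul_mem (e1 ▸ heV) (inv_mem hfV)
      rwa [mul_inv_cancel_right] at this
  have hceg : e * g = g * e := by
    rcases hgl with e1 | e1 | e1 | e1 <;> subst e1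
    exacts [absurd rfl hg.1, hez, hfe.symm, (Commute.mul_right hez hfe.symm : Commute e (z * f))]
  have hvS := h.normalizes_of_comm he hg heg hceg (hV heV) hgS
    (mem_centralizer_singleton_iff.mp hv'.2) hvg
  have h1 : q⁻¹ * (v' * q * v'⁻¹) ∈ (S : Subgroup G) :=
    mul_mem (inv_mem hq) ((mem_normalizer_iff.mp hvS q).mp hq)
  have h2 : q⁻¹ * (v' * q * v'⁻¹) ∈ O := by
    rw [show q⁻¹ * (v' * q * v'⁻¹) = q⁻¹ * v' * q⁻¹⁻¹ * v'⁻¹ by group]
    exact mul_mem (Normal.conj_mem inferInstance _ hv'.1 _) (inv_mem hv'.1)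
  have h3 := CfsgLib.CyclicInt.eq_one_of_two_group_odd hO h2 h1
  rw [inv_mul_eq_one] at h3
  calc q * v' = v' * q * v'⁻¹ * v' := by rw [← h3]
    _ = v' * q := by group

end CfsgLib.RankInt
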