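import Cfsg.Agent.Lib.RankInt.Cyclic
import Cfsg.Agent.Lib.UniqueSubgroup
import Mathlib.GroupTheory.SpecificGroups.Quaternion

/-!
2-groups with one involution that are not cyclic.

Blueprint: `blueprint/bender/S3310.md`.
-/

set_option autoImplicit false
set_option linter.unusedSectionVars false
set_option linter.style.haveILetI false

namespace CfsgLib.RankInt

open Subgroup QuaternionGroup
open CfsgLib.CyclicInt (Inv2)

universe u

variable {G : Type u} [Group G] [Finite G] {P : Subgroup G}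

/-- Such a group is a quaternion group. -/
theorem quat_equiv (hP : IsPGroup 2 P) (h1 : One P) (hnc : ¬ IsCyclic P) :
    ∃ k : ℕ, Nonempty (↥P ≃* QuaternionGroup (2 ^ (k + 1))) := by
  haveI : Fact (Nat.Prime 2) := ⟨Nat.prime_two⟩
  have hne : P ≠ ⊥ := fun e => hnc (by rw [e]; infer_instance)
  obtain ⟨z, hz, hzi, -⟩ := exists_central_inv hP hne
  rcases CfsgLib.UniqueSubgroup.cyclic_or_quaternion hP (z := (⟨z, hz⟩ : P))
      (by rw [← orderOf_coe]; exact CfsgLib.CyclicInt.inv2_iff.mp hzi) (fun x hx => by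
        by_cases hx1 : x = 1
        · rw [hx1]; exact one_mem _
        · rw [show x = ⟨z, hz⟩ from Subtype.ext (h1 x x.2 z hz ⟨fun e => hx1 (Subtype.ext e), by
            rw [← pow_two]; exact congrArg Subtype.val hx⟩ hzi)]
          exact mem_zpowers _) with h | ⟨-, n, hn, e⟩
  · exact absurd h hnc
  · obtain ⟨k, rfl⟩ : ∃ k, n = k + 1 := ⟨n - 1, by omega⟩
    exact ⟨k, e⟩

section Facts

variable (hP : IsPGroup 2 P) (h1 : One P) (hnc : ¬ IsCyclic P) {z : G} (hzP : z ∈ P) (hz : Inv2 z)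
include hP h1 hnc hzP hz

theorem quat_model :
    ∃ (n h : ℕ), n = 2 * h ∧ 0 < h ∧ ∃ e : ↥P ≃* QuaternionGroup n, e ⟨z, hzP⟩ = a (n : ZMod (2 * n)) := by
  obtain ⟨k, ⟨e⟩⟩ := quat_equiv hP h1 hnc
  obtain ⟨n, hn⟩ : ∃ n : ℕ, 2 ^ (k + 1) = n := ⟨_, rfl⟩
  rw [hn] at e
  refine ⟨n, 2 ^ k, by rw [← hn, pow_succ'], Nat.two_pow_pos k, e, ?_⟩
  have hnpos : 0 < n := hn ▸ Nat.two_pow_pos _
  have hn : ((n : ℕ) : ZMod (2 * n)) + n = 0 := by
    rw [← Nat.cast_add, ← two_mul, ZMod.natCast_self]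
  have hn0 : ((n : ℕ) : ZMod (2 * n)) ≠ 0 := fun e' => by
    have hpos : 0 < n := hnpos
    have h2 := Nat.le_of_dvd hpos ((ZMod.natCast_eq_zero_iff n (2 * n)).mp e')
    omega
  set v : P := e.symm (a (n : ZMod (2 * n)))
  have hv : Inv2 (v : G) := by
    refine ⟨fun e' => hn0 ?_, ?_⟩
    · have h2 : e v = 1 := by rw [show v = 1 from Subtype.ext e', map_one]
      rw [MulEquiv.apply_symm_apply, one_def] at h2
      exact a.inj h2
    · rw [← Subgroup.coe_mul, ← map_mul, a_mul_a, hn, ← one_def, map_one, coe_one]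
  rw [show (⟨z, hzP⟩ : P) = v from Subtype.ext (h1 z hzP v v.2 hz hv), MulEquiv.apply_symm_apply]

theorem one_in2 {w : G} (hw : w ∈ P) (h2 : w * w = 1) : In2 z w :=
  (em (w = 1)).imp id fun hw1 => h1 w hw z hzP ⟨hw1, h2⟩ hz

/-- The centre has order two. -/
theorem quat_center {u : G} (hu : u ∈ P) (hc : ∀ v ∈ P, u * v = v * u) : In2 z u := by
  obtain ⟨n, l, hnl, hl, e, hez⟩ := quat_model hP h1 hnc hzP hz
  haveI : NeZero n := ⟨by omega⟩
  have hcomm : ∀ q : QuaternionGroup n, e ⟨u, hu⟩ * q = q * e ⟨u, hu⟩ := fun q => by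
    obtain ⟨v, rfl⟩ := e.surjective q
    rw [← map_mul, ← map_mul]
    exact congrArg e (Subtype.ext (hc v v.2))
  rcases he : e ⟨u, hu⟩ with i | i
  · refine one_in2 hP h1 hnc hzP hz hu ?_
    have h2 := hcomm (xa 0)
    rw [he, a_mul_xa, xa_mul_a, zero_add, zero_sub] at h2
    have h3 : (⟨u, hu⟩ : P) * ⟨u, hu⟩ = 1 := e.injective (by
      rw [map_mul, map_one, he, a_mul_a]
      exact congrArg a (by rw [← sub_neg_eq_add, xa.inj h2, sub_self]))
    exact congrArg Subtype.val h3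
  · exfalso
    have h2 := hcomm (a 1)
    rw [he, a_mul_xa, xa_mul_a] at h2
    have h3 : ((2 : ℕ) : ZMod (2 * n)) = 0 := by
      push_cast
      linear_combination xa.inj h2
    have h4 := Nat.le_of_dvd two_pos ((ZMod.natCast_eq_zero_iff 2 (2 * n)).mp h3)
    omega

/-- Two anticommuting elements of order four. -/
theorem quat_pair : ∃ i ∈ P, ∃ j ∈ P, i * i = z ∧ j * j = z ∧ j * i = i * j * z := by
  obtain ⟨n, l, hnl, hl, e, hez⟩ := quat_model hP h1 hnc hzP hz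
  set i : P := e.symm (a ((l : ℕ) : ZMod (2 * n)))
  set j : P := e.symm (xa 0)
  have hh : ((l : ℕ) : ZMod (2 * n)) + (l : ℕ) = (n : ℕ) := by
    rw [← Nat.cast_add]; congr 1; omega
  have key : ∀ p q : P, e p = e q → (p : G) = q := fun p q h' => congrArg Subtype.val (e.injective h')
  refine ⟨i, i.2, j, j.2, ?_, ?_, ?_⟩
  · exact key (i * i) ⟨z, hzP⟩ (by rw [map_mul, MulEquiv.apply_symm_apply, a_mul_a, hh, hez])
  · exact key (j * j) ⟨z, hzP⟩ (by rw [map_mul, MulEquiv.apply_symm_apply, xa_mul_xa, add_zero, sub_zero, hez])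
  · exact key (j * i) (i * j * ⟨z, hzP⟩) (by
      rw [map_mul, map_mul, map_mul, hez, MulEquiv.apply_symm_apply, MulEquiv.apply_symm_apply, xa_mul_a, a_mul_xa,
        xa_mul_a, zero_add, zero_sub, ← hh, neg_add_cancel_left])

/-- A cyclic subgroup of index two, unless the group has order eight. -/
theorem quat_index_two :
    ∃ M : Subgroup G, M ≤ P ∧ M.relIndex P = 2 ∧ z ∈ M ∧ (∀ v ∈ M, ∀ w ∈ M, v * w = w * v) ∧
      ∀ t ∈ P, t ∉ M → (∀ v ∈ P, In2 z (v * t * v⁻¹ * t⁻¹)) → Nat.card P = 8 := by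
  obtain ⟨n, l, hnl, hl, e, hez⟩ := quat_model hP h1 hnc hzP hz
  haveI : NeZero n := ⟨by omega⟩
  haveI : NeZero (2 * n) := ⟨mul_ne_zero two_ne_zero (NeZero.ne n)⟩
  let M : Subgroup G :=
    { carrier := {v | ∃ hv : v ∈ P, ∃ i, e ⟨v, hv⟩ = a i}
      one_mem' := ⟨one_mem _, 0, map_one e⟩
      mul_mem' := by
        rintro v w ⟨hv, i, hi⟩ ⟨hw, j, hj⟩
        refine ⟨mul_mem hv hw, i + j, ?_⟩
        rw [← a_mul_a, ← hi, ← hj, ← map_mul]
        rfl
      inv_mem' := by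
        rintro v ⟨hv, i, hi⟩
        refine ⟨inv_mem hv, -i, ?_⟩
        rw [show (⟨v⁻¹, inv_mem hv⟩ : P) = ⟨v, hv⟩⁻¹ from rfl, map_inv, hi]
        rfl }
  refine ⟨M, fun v hv => hv.1, ?_, ⟨hzP, _, hez⟩, ?_, ?_⟩
  · refine index_eq_two_iff.mpr ⟨e.symm (xa 0), fun b => ?_⟩
    simp only [mem_subgroupOf]
    rcases hb : e b with i | i
    · refine Or.inr ⟨⟨b.2, i, hb⟩, ?_⟩
      rintro ⟨_, l, hl⟩
      rw [show (⟨((b * e.symm (xa 0) : P) : G), _⟩ : P) = b * e.symm (xa 0) from Subtype.ext rfl, map_mul, hb,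
        MulEquiv.apply_symm_apply, a_mul_xa] at hl
      cases hl
    · refine Or.inl ⟨⟨(b * e.symm (xa 0)).2, (n : ℕ) + 0 - i, ?_⟩, ?_⟩
      · rw [show (⟨((b * e.symm (xa 0) : P) : G), _⟩ : P) = b * e.symm (xa 0) from Subtype.ext rfl, map_mul, hb,
          MulEquiv.apply_symm_apply, xa_mul_xa]
      · rintro ⟨_, l, hl⟩
        rw [show (⟨((b : P) : G), _⟩ : P) = b from Subtype.ext rfl, hb] at hl
        cases hl
  · rintro v ⟨hv, i, hi⟩ w ⟨hw, j, hj⟩
    refine congrArg Subtype.val (e.injective (?_ : e (⟨v, hv⟩ * ⟨w, hw⟩) = e (⟨w, hw⟩ * ⟨v, hv⟩)))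
    rw [map_mul, map_mul, hi, hj, a_mul_a, a_mul_a, add_comm]
  · intro t ht htM hcen
    rcases het : e ⟨t, ht⟩ with i | i
    · exact absurd ⟨ht, i, het⟩ htM
    have h2 := hcen _ (e.symm (a 1)).2
    have hval : e (e.symm (a 1) * ⟨t, ht⟩ * (e.symm (a 1))⁻¹ * ⟨t, ht⟩⁻¹) = a 1 * xa i * (a 1)⁻¹ * (xa i)⁻¹ := by
      rw [map_mul, map_mul, map_mul, map_inv, map_inv, MulEquiv.apply_symm_apply, het]
    have hcalc : a 1 * xa i * (a (1 : ZMod (2 * n)))⁻¹ * (xa i)⁻¹ = a ((2 : ℕ) : ZMod (2 * n)) := by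
      show a 1 * xa i * a (-1) * xa ((n : ZMod (2 * n)) + i) = _
      rw [a_mul_xa, xa_mul_a, xa_mul_xa]
      refine congrArg a ?_
      push_cast
      have hnn : ((n : ℕ) : ZMod (2 * n)) + n = 0 := by rw [← Nat.cast_add, ← two_mul, ZMod.natCast_self]
      linear_combination hnn
    rw [hcalc] at hval
    have hle : 2 ≤ n := by omega
    have hcard : Nat.card P = 4 * n := by
      rw [Nat.card_congr e.toEquiv, Nat.card_eq_fintype_card, QuaternionGroup.card]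
    rcases h2 with h3 | h3
    · rw [show e.symm (a 1) * ⟨t, ht⟩ * (e.symm (a 1))⁻¹ * ⟨t, ht⟩⁻¹ = 1 from Subtype.ext h3, map_one,
        one_def] at hval
      have := Nat.le_of_dvd two_pos ((ZMod.natCast_eq_zero_iff 2 (2 * n)).mp (a.inj hval).symm)
      omega
    · rw [show e.symm (a 1) * ⟨t, ht⟩ * (e.symm (a 1))⁻¹ * ⟨t, ht⟩⁻¹ = ⟨z, hzP⟩ from Subtype.ext h3, hez] at hval
      have h4 := (ZMod.natCast_eq_natCast_iff' n 2 (2 * n)).mp (a.inj hval)
      rw [Nat.mod_eq_of_lt (by omega), Nat.mod_eq_of_lt (by omega)] at h4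
      rw [hcard, h4]

/-- An element of order four central modulo `z` has no other class in a subgroup of index two, unless the group has
order eight and then the class is that of the element. -/
theorem quat_class {t : G} (ht : t ∈ P) (ht2 : t * t = z) (htc : ∀ v ∈ P, In2 z (v * t * v⁻¹ * t⁻¹)) :
    ∃ A : Subgroup G, A ≤ P ∧ A.relIndex P = 2 ∧ t ∈ A ∧ (∀ v ∈ A, v * v = z → In2 z (t⁻¹ * v)) ∧
      ∀ s ∈ P, s * s = z → (∀ v ∈ P, In2 z (v * s * v⁻¹ * s⁻¹)) → ¬ In2 z (t⁻¹ * s) → Nat.card P = 8 := by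
  obtain ⟨M, hMP, hMi, hzM, hMc, h8⟩ := quat_index_two hP h1 hnc hzP hz
  have hsame : ∀ v ∈ P, v * v = z → t * v = v * t → In2 z (t⁻¹ * v) := fun v hv hv2 hc => by
    refine one_in2 hP h1 hnc hzP hz (mul_mem (inv_mem ht) hv) ?_
    rw [mul_assoc, ← mul_assoc v, ← (show Commute t v from hc).inv_left.eq, mul_assoc, hv2, ← mul_assoc,
      ← mul_inv_rev, ht2, inv_mul_cancel]
  by_cases htM : t ∈ M
  · refine ⟨M, hMP, hMi, htM, fun v hv hv2 => hsame v (hMP hv) hv2 (hMc t htM v hv), fun s hs hs2 hsc hne => ?_⟩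
    exact h8 s hs (fun hsM => hne (hsame s hs hs2 (hMc t htM s hsM))) hsc
  · refine ⟨zpowers t, zpowers_le.mpr ht, ?_, mem_zpowers t, fun v hv hv2 => ?_, fun s hs hs2 hsc hne => h8 t ht htM htc⟩
    · have hcard := h8 t ht htM htc
      have h4 : orderOf t = 2 ^ (1 + 1) := by
        refine orderOf_eq_prime_pow (p := 2) (by rw [pow_one, pow_two, ht2]; exact hz.1) ?_
        rw [show (2 : ℕ) ^ (1 + 1) = 2 * 2 by norm_num, pow_mul, pow_two, pow_two, ht2, hz.2]
      have h5 := relIndex_mul_relIndex ⊥ (zpowers t) P bot_le (zpowers_le.mpr ht)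
      rw [relIndex_bot_left, relIndex_bot_left, Nat.card_zpowers, h4, hcard] at h5
      omega
    · obtain ⟨l, rfl⟩ := mem_zpowers_iff.mp hv
      exact hsame _ (zpow_mem ht l) hv2 ((Commute.refl t).zpow_right l).eq

/-- In order eight all commutators are `1` or `z`. -/
theorem quat_eight (h8 : Nat.card P = 8) {v w : G} (hv : v ∈ P) (hw : w ∈ P) : In2 z (v * w * v⁻¹ * w⁻¹) := by
  obtain ⟨n, l, hnl, hl, e, hez⟩ := quat_model hP h1 hnc hzP hz
  haveI : NeZero n := ⟨by omega⟩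
  obtain rfl : n = 2 := by
    rw [Nat.card_congr e.toEquiv, Nat.card_eq_fintype_card, QuaternionGroup.card] at h8
    omega
  have key : ∀ p q : QuaternionGroup 2, p * q * p⁻¹ * q⁻¹ = 1 ∨ p * q * p⁻¹ * q⁻¹ = a 2 := by decide
  rcases key (e ⟨v, hv⟩) (e ⟨w, hw⟩) with h2 | h2
  · left
    rw [← map_inv, ← map_inv, ← map_mul, ← map_mul, ← map_mul, ← map_one e] at h2
    exact congrArg Subtype.val (e.injective h2)
  · right
    rw [← map_inv, ← map_inv, ← map_mul, ← map_mul, ← map_mul] at h2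
    exact congrArg Subtype.val (e.injective (h2.trans hez.symm))

end Facts

end CfsgLib.RankInt
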