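import Cfsg.Agent.Lib.RankInt.Setup
import Cfsg.Agent.Lib.RankInt.Quaternion
import Cfsg.Agent.Lib.CyclicInt.Main

/-!
A rich component with TI Sylow 2-subgroups modulo its centre, or with elementary abelian ones: case (a).

Blueprint: `blueprint/bender/S3310.md`.
-/

set_option autoImplicit false
set_option linter.unusedSectionVars false
set_option linter.style.haveILetI false

namespace CfsgLib.RankInt

open Subgroup Cfsg
open CfsgLib.CyclicInt (Inv2 Two TI Kind2)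
open scoped Pointwise

universe u

/-- Case (a) for a group without odd core, with what the lifting needs. -/
def CaseA (X : Type u) [Group X] : Prop :=
  (∃ k : ℕ, Nonempty (↥(pCore 2 X) ≃* QuaternionGroup (2 ^ (k + 1)))) ∧
    (∃ S : Sylow 2 X, CfsgLib.CyclicInt.Eight S) ∧
      ∃ G1 : Subgroup X, G1.Normal ∧ Odd G1.index ∧ pCore 2 X ≤ G1 ∧
        ∃ (L : Type u) (_ : Group L) (π : ↥G1 →* L), Function.Surjective π ∧
          (∀ g : ↥G1, π g = 1 ↔ (g : X) ∈ pCore 2 X) ∧ CfsgLib.SuzukiRankOne.IsTarget L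

theorem eq_one_of_ti {G : Type u} [Group G] [Finite G] (h : TI G) {U V : Sylow 2 G} (hne : U ≠ V) {x : G}
    (hU : x ∈ (U : Subgroup G)) (hV : x ∈ (V : Subgroup G)) : x = 1 := by
  haveI : Fact (Nat.Prime 2) := ⟨Nat.prime_two⟩
  by_contra hx
  have hD : IsPGroup 2 ↥((U : Subgroup G) ⊓ (V : Subgroup G)) := U.2.to_le inf_le_left
  obtain ⟨e, he, hei, -⟩ := exists_central_inv hD (fun e => hx (mem_bot.mp (e ▸ (⟨hU, hV⟩ :
    x ∈ (U : Subgroup G) ⊓ (V : Subgroup G)))))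
  exact hne (h U V e hei he.1 he.2)

theorem ci_of_ti {G : Type u} [Group G] [Finite G] (h : TI G) : CfsgLib.CyclicInt.CI G := fun U V hne => by
  rw [show (U : Subgroup G) ⊓ (V : Subgroup G) = ⊥ from (eq_bot_iff_forall _).mpr fun x hx =>
    eq_one_of_ti h hne hx.1 hx.2]
  infer_instance

theorem kind2_of_equiv {G H : Type u} [Group G] [Finite G] [Group H] [Finite H] (e : G ≃* H) (h : Kind2 H) :
    Kind2 G := by
  haveI : Fact (Nat.Prime 2) := ⟨Nat.prime_two⟩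
  refine ⟨fun hTI => h.1 (hTI.of_equiv e.symm), fun x y hx hy => ?_, fun S s hs => e.injective ?_⟩
  · have hm : ∀ {v : G}, Inv2 v → Inv2 (e v) := fun {v} hv =>
      ⟨fun e' => hv.1 (e.injective (e'.trans (map_one e).symm)), by rw [← map_mul, hv.2, map_one]⟩
    obtain ⟨g, hg⟩ := h.2.1 _ _ (hm hx) (hm hy)
    exact ⟨e.symm g, e.injective (by simp [hg])⟩
  · rw [map_mul, map_one]
    exact h.2.2 (S.mapSurjective (f := e.toMonoidHom) e.surjective) (e s) ⟨s, hs, rfl⟩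

/-- A group of order two or four with one involution, seen from an index two subgroup. -/
theorem cyclic_aux {G : Type u} [Group G] [Finite G] (N D : Subgroup G) (h1 : One D)
    (hNN : ∀ d ∈ D, ∀ d' ∈ D, d ∉ N → d' ∉ N → d⁻¹ * d' ∈ N) (hsq : ∀ v ∈ D, v ∈ N → v * v = 1)
    (hsqN : ∀ d ∈ D, d * d ∈ N) : IsCyclic ↥D := by
  have huniq : ∀ v ∈ D, ∀ w ∈ D, v ∈ N → w ∈ N → v ≠ 1 → w ≠ 1 → v = w := fun v hv w hw hvN hwN h h' =>
    h1 v hv w hw ⟨h, hsq v hv hvN⟩ ⟨h', hsq w hw hwN⟩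
  suffices hs : ∃ d ∈ D, D ≤ zpowers d by
    obtain ⟨d, hd, hle⟩ := hs
    refine ⟨⟨⟨d, hd⟩, fun v => ?_⟩⟩
    obtain ⟨i, hi⟩ := mem_zpowers_iff.mp (hle v.2)
    exact ⟨i, Subtype.ext (by simpa using hi)⟩
  by_cases hall : D ≤ N
  · by_cases hne : ∃ e ∈ D, e ≠ 1
    · obtain ⟨e, he, he1⟩ := hne
      refine ⟨e, he, fun v hv => ?_⟩
      by_cases hv1 : v = 1
      · exact hv1 ▸ one_mem _
      · exact huniq e he v hv (hall he) (hall hv) he1 hv1 ▸ mem_zpowers e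
    · push Not at hne
      exact ⟨1, one_mem _, fun v hv => by rw [hne v hv]; exact one_mem _⟩
  obtain ⟨d, hd, hdN⟩ := SetLike.not_le_iff_exists.mp hall
  refine ⟨d, hd, fun v hv => ?_⟩
  have key : ∀ w ∈ D, w ∈ N → w ∈ zpowers d := fun w hw hwN => by
    by_cases hw1 : w = 1
    · exact hw1 ▸ one_mem _
    by_cases hd2 : d * d = 1
    · exfalso
      have := h1 d hd w hw ⟨fun e => hdN (e ▸ one_mem N), hd2⟩ ⟨hw1, hsq w hw hwN⟩
      exact hdN (this ▸ hwN)
    · rw [← huniq (d * d) (mul_mem hd hd) w hw (hsqN d hd) hwN hd2 hw1]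
      exact mul_mem (mem_zpowers d) (mem_zpowers d)
  by_cases hvN : v ∈ N
  · exact key v hv hvN
  · have := mul_mem (mem_zpowers d) (key _ (mul_mem (inv_mem hd) hv) (hNN d hd v hv hdN hvN))
    rwa [mul_inv_cancel_left] at this

variable {X : Type u} [Group X] [Finite X] (h : RI X) (hO : oddCore X = ⊥) {S : Sylow 2 X} {L : Subgroup X}
  (hL : IsComponent L) (hr : Rich S L)
include h hO hL hr

/-- Sylow subgroups with the same intersection with the component are equal. -/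
theorem eq_of_inf {U V : Sylow 2 X} (e : (U : Subgroup X) ⊓ L = (V : Subgroup X) ⊓ L) : U = V := by
  haveI : Fact (Nat.Prime 2) := ⟨Nat.prime_two⟩
  haveI := normal_of_only hL (fun M hM => hr.only h hO hL hM)
  obtain ⟨g1, rfl⟩ := MulAction.exists_smul_eq X S U
  obtain ⟨g2, rfl⟩ := MulAction.exists_smul_eq X S V
  have hn : g1⁻¹ * g2 ∈ normalizer ((S : Subgroup X) : Set X) := hr.normalizes h fun t ht => by
    have h1 : g2 * t * g2⁻¹ ∈ ((g2 • S : Sylow 2 X) : Subgroup X) ⊓ L :=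
      ⟨CfsgLib.CyclicInt.conj_mem_smul_sylow ht.1, (inferInstance : L.Normal).conj_mem t ht.2 g2⟩
    rw [← e] at h1
    have h2 := CfsgLib.CyclicInt.mem_smul_sylow.mp h1.1
    rwa [show g1⁻¹ * (g2 * t * g2⁻¹) * g1 = g1⁻¹ * g2 * t * (g1⁻¹ * g2)⁻¹ by group] at h2
  have h3 := CfsgLib.CyclicInt.smul_eq_iff_normalizer.mpr hn
  rw [mul_smul, inv_smul_eq_iff] at h3
  exact h3.symm

/-- The Sylow subgroup is that of the component with the core. -/
theorem decomp (hkind : TI (↥L ⧸ center ↥L) ∨ (pCore 2 X = ⊥ ∧ Kind2 (↥L ⧸ center ↥L))) :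
    ∀ s ∈ (S : Subgroup X), ∃ t ∈ (S : Subgroup X) ⊓ L, ∃ r ∈ pCore 2 X, s = t * r := by
  classical
  haveI : Fact (Nat.Prime 2) := ⟨Nat.prime_two⟩
  haveI hLn := normal_of_only hL (fun M hM => hr.only h hO hL hM)
  haveI := CfsgLib.S3Simple.component_isSimple hL
  have hna := CfsgLib.S3Simple.component_not_comm hL
  have hnorm : ∀ x : X, x ∈ normalizer (L : Set X) := fun x => by rw [normalizer_eq_top]; exact mem_top x
  let φ : X →* MulAut (↥L ⧸ center ↥L) := (CfsgLib.S3Simple.actQ L).comp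
    { toFun := fun x => ⟨x, hnorm x⟩, map_one' := rfl, map_mul' := fun _ _ => rfl }
  let ψ : (↥L ⧸ center ↥L) →* MulAut (↥L ⧸ center ↥L) := MulAut.conj
  set mk := QuotientGroup.mk' (center ↥L)
  have hmk : Function.Surjective mk := QuotientGroup.mk'_surjective _
  have hφL : ∀ l : ↥L, φ l = ψ (mk l) := fun l => MulEquiv.ext fun y => by
    obtain ⟨e, rfl⟩ := hmk y
    show CfsgLib.S3Simple.actQ L ⟨(l : X), hnorm l⟩ (mk e) = mk l * mk e * (mk l)⁻¹
    rw [CfsgLib.S3Simple.actQ_apply, ← map_inv, ← map_mul, ← map_mul]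
    rfl
  have hψ : Function.Injective ψ := (injective_iff_map_eq_one ψ).mpr fun a ha => by
    rw [← mem_bot, ← CfsgLib.CentralInt.quot_center hL, mem_center_iff]
    intro y
    have := DFunLike.congr_fun ha y
    rw [MulAut.conj_apply, MulAut.one_apply, mul_inv_eq_iff_eq_mul] at this
    exact this.symm
  have hker : ∀ x : X, φ x = 1 → x ∈ centralizer (L : Set X) := fun x hx =>
    CfsgLib.S3Simple.centralizes_of_actQ hL (hnorm x) hx
  have hzL : ∀ (U : Sylow 2 X) (c : ↥L), c ∈ center ↥L → (c : X) ∈ (U : Subgroup X) := fun U c hc =>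
    CfsgLib.pCore_le_sylow U (center_le hO hL hc)
  let N : Subgroup (MulAut (↥L ⧸ center ↥L)) := ψ.range
  haveI hNn : N.Normal := ⟨fun v hv α => by
    obtain ⟨a, rfl⟩ := hv
    exact ⟨α a, MulEquiv.ext fun y => by simp [ψ, MulAut.conj_apply]⟩⟩
  suffices hall : ∀ s ∈ (S : Subgroup X), φ s ∈ N by
    intro s hs
    obtain ⟨P, hP⟩ := CfsgLib.CentralInt.exists_sylow_inf S hL
    obtain ⟨t, ht, htc⟩ := CfsgLib.CentralInt.split_inner S hL hP hs (hnorm s) (hall s hs)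
    exact ⟨t, ht, t⁻¹ * s, hr.cent_inf h hO hL ▸ ⟨htc, mul_mem ((S : Subgroup X).inv_mem ht.1) hs⟩, by rw [mul_inv_cancel_left]⟩
  by_contra hcon
  push Not at hcon
  obtain ⟨s, hs, hsN⟩ := hcon
  obtain ⟨k, hk1, hk2⟩ := CfsgLib.UniqueSubgroup.exists_pow_notMem S.2
    (A := (N.comap φ).subgroupOf (S : Subgroup X)) (g := ⟨s, hs⟩) hsN
  set y : X := s ^ 2 ^ k
  have hyS : y ∈ (S : Subgroup X) := pow_mem hs _
  set a := φ y
  have haN : a ∉ N := fun e => hk1 (by rw [mem_subgroupOf, mem_comap, Subgroup.coe_pow]; exact e)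
  have haa : a * a ∈ N := by
    rw [mem_subgroupOf, mem_comap, Subgroup.coe_pow, Subgroup.coe_pow, pow_two, map_mul] at hk2
    exact hk2
  have hai : a⁻¹ * a⁻¹ ∈ N := by rw [← mul_inv_rev]; exact inv_mem haa
  let H : Subgroup (MulAut (↥L ⧸ center ↥L)) :=
    { carrier := {q | q ∈ N ∨ q * a⁻¹ ∈ N}
      one_mem' := Or.inl (one_mem N)
      mul_mem' := by
        rintro p q (hp | hp) (hq | hq)
        · exact Or.inl (mul_mem hp hq)
        · exact Or.inr (by rw [mul_assoc]; exact mul_mem hp hq)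
        · refine Or.inr ?_
          rw [show p * q * a⁻¹ = p * a⁻¹ * (a * q * a⁻¹) by group]
          exact mul_mem hp (hNn.conj_mem q hq a)
        · refine Or.inl ?_
          rw [show p * q = p * a⁻¹ * (a * (q * a⁻¹) * a⁻¹) * (a * a) by group]
          exact mul_mem (mul_mem hp (hNn.conj_mem _ hq a)) haa
      inv_mem' := by
        rintro p (hp | hp)
        · exact Or.inl (inv_mem hp)
        · refine Or.inr ?_
          rw [show p⁻¹ * a⁻¹ = a⁻¹ * (p * a⁻¹)⁻¹ * a⁻¹⁻¹ * (a⁻¹ * a⁻¹) by group]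
          exact mul_mem (hNn.conj_mem _ (inv_mem hp) a⁻¹) hai }
  have hNH : N ≤ H := fun q hq => Or.inl hq
  have haH : a ∈ H := Or.inr (by rw [mul_inv_cancel]; exact one_mem N)
  -- traces of the Sylow subgroups
  have htrace : ∀ U : Sylow 2 X, ∃ T : Sylow 2 (↥L ⧸ center ↥L),
      (∀ x, ψ x ∈ (U : Subgroup X).map φ ↔ x ∈ (T : Subgroup (↥L ⧸ center ↥L))) ∧
      (∀ l : ↥L, mk l ∈ (T : Subgroup (↥L ⧸ center ↥L)) ↔ (l : X) ∈ (U : Subgroup X)) := by
    intro U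
    obtain ⟨P, hP⟩ := CfsgLib.CentralInt.exists_sylow_inf U hL
    have hsub : ∀ x, x ∈ ((P.mapSurjective hmk : Sylow 2 _) : Subgroup (↥L ⧸ center ↥L)) →
        ψ x ∈ (U : Subgroup X).map φ := by
      rintro _ ⟨l, hl, rfl⟩
      exact ⟨l, (hP l).mp hl, hφL l⟩
    refine ⟨P.mapSurjective hmk, fun x => ⟨fun hx => ?_, hsub x⟩, fun l => ⟨?_, fun hl => ⟨l, (hP l).mpr hl, rfl⟩⟩⟩
    · rw [← (P.mapSurjective hmk).is_maximal' ((U.2.map φ).comap_of_injective ψ hψ) hsub]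
      exact hx
    · rintro ⟨l', hl', e⟩
      obtain ⟨c, hc, rfl⟩ := (QuotientGroup.mk'_eq_mk' _).mp e
      rw [Subgroup.coe_mul]
      exact mul_mem ((hP l').mp hl') (hzL U c hc)
  have hsame : ∀ {U V : Sylow 2 X}, (∀ x, ψ x ∈ (U : Subgroup X).map φ ↔ ψ x ∈ (V : Subgroup X).map φ) → U = V := by
    intro U V hUV
    obtain ⟨T, hT1, hT2⟩ := htrace U
    obtain ⟨T', hT1', hT2'⟩ := htrace V
    refine eq_of_inf h hO hL hr (SetLike.ext fun v => ?_)
    constructor <;> rintro ⟨hv, hvL⟩ <;> refine ⟨?_, hvL⟩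
    · exact (hT2' ⟨v, hvL⟩).mp ((hT1' _).mp ((hUV _).mp ((hT1 _).mpr ((hT2 ⟨v, hvL⟩).mpr hv))))
    · exact (hT2 ⟨v, hvL⟩).mp ((hT1 _).mp ((hUV _).mpr ((hT1' _).mpr ((hT2' ⟨v, hvL⟩).mpr hv))))
  -- a Sylow subgroup of `H`
  obtain ⟨T₀, hT₀, -⟩ := htrace S
  have hW : IsPGroup 2 (((S : Subgroup X).map φ).subgroupOf H) :=
    (S.2.map φ).comap_of_injective H.subtype H.subtype_injective
  obtain ⟨P0, hP0⟩ := hW.exists_le_sylow
  have hP0N : ∀ x, (∃ hx : ψ x ∈ H, (⟨ψ x, hx⟩ : H) ∈ (P0 : Subgroup H)) → x ∈ (T₀ : Subgroup (↥L ⧸ center ↥L)) := by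
    rintro x ⟨hx, hxP⟩
    rw [← T₀.is_maximal' ((P0.2.map H.subtype).comap_of_injective ψ hψ) fun v hv =>
      (⟨⟨ψ v, hNH ⟨v, rfl⟩⟩, hP0 ((hT₀ v).mpr hv), rfl⟩ : ψ v ∈ (P0 : Subgroup H).map H.subtype)]
    exact ⟨⟨ψ x, hx⟩, hxP, rfl⟩
  have haP : (⟨a, haH⟩ : H) ∈ (P0 : Subgroup H) := hP0 ⟨y, hyS, rfl⟩
  have hP0eq : ∀ v : H, v ∈ (P0 : Subgroup H) ↔ (v : MulAut _) ∈ (S : Subgroup X).map φ := by
    refine fun v => ⟨fun hv => ?_, fun hv => hP0 hv⟩
    rcases v.2 with hvN | hvN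
    · obtain ⟨x, hx⟩ := hvN
      rw [← hx]
      exact (hT₀ x).mpr (hP0N x ⟨hNH ⟨x, rfl⟩, by convert hv⟩)
    · obtain ⟨x, hx⟩ := hvN
      have h1 : (⟨ψ x, hNH ⟨x, rfl⟩⟩ : H) = v * ⟨a, haH⟩⁻¹ := Subtype.ext hx
      have h2 := (hT₀ x).mpr (hP0N x ⟨hNH ⟨x, rfl⟩, h1 ▸ mul_mem hv (inv_mem haP)⟩)
      rw [show (v : MulAut (↥L ⧸ center ↥L)) = ψ x * a by rw [hx, inv_mul_cancel_right]]
      exact mul_mem h2 ⟨y, hyS, rfl⟩
  have hsyl : ∀ U : Sylow 2 H, ∃ W : Sylow 2 X, ∀ v : H, v ∈ (U : Subgroup H) ↔ (v : MulAut _) ∈ (W : Subgroup X).map φ := by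
    intro U
    obtain ⟨q, rfl⟩ := MulAction.exists_smul_eq H P0 U
    obtain ⟨g, hg⟩ : ∃ g : X, φ g = q := by
      rcases q.2 with hq | hq <;> obtain ⟨x, hx⟩ := hq <;> obtain ⟨l, rfl⟩ := hmk x
      · exact ⟨l, (hφL l).trans hx⟩
      · exact ⟨l * y, by rw [map_mul, hφL, hx, inv_mul_cancel_right]⟩
    refine ⟨g • S, fun v => ?_⟩
    rw [CfsgLib.CyclicInt.mem_smul_sylow, hP0eq]
    show (q : MulAut (↥L ⧸ center ↥L))⁻¹ * (v : MulAut (↥L ⧸ center ↥L)) * (q : MulAut (↥L ⧸ center ↥L)) ∈ _ ↔ _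
    rw [← hg]
    constructor
    · rintro ⟨w, hw, e⟩
      exact ⟨g * w * g⁻¹, CfsgLib.CyclicInt.conj_mem_smul_sylow hw, by rw [map_mul, map_mul, map_inv, e]; group⟩
    · rintro ⟨w, hw, e⟩
      exact ⟨g⁻¹ * w * g, CfsgLib.CyclicInt.mem_smul_sylow.mp hw, by rw [map_mul, map_mul, map_inv, e]⟩
  let N' : Subgroup H := N.subgroupOf H
  have hH2 : ∀ d d' : H, d ∉ N' → d' ∉ N' → d⁻¹ * d' ∈ N' := by
    intro d d' hd hd'
    simp only [N', mem_subgroupOf] at hd hd' ⊢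
    have h1 := d.2.resolve_left hd
    have h2 := d'.2.resolve_left hd'
    rw [Subgroup.coe_mul, Subgroup.coe_inv,
      show (d : MulAut (↥L ⧸ center ↥L))⁻¹ * d' = a⁻¹ * (((d : MulAut _) * a⁻¹)⁻¹ * (d' * a⁻¹)) * a⁻¹⁻¹ by group]
    exact hNn.conj_mem _ (mul_mem (inv_mem h1) h2) _
  have hci : CfsgLib.CyclicInt.CI H := by
    intro U U' hne
    obtain ⟨W, hW'⟩ := hsyl U
    obtain ⟨W', hW''⟩ := hsyl U'
    have hWne : W ≠ W' := fun e => hne (Sylow.ext (SetLike.ext fun v => by rw [hW', hW'', e]))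
    obtain ⟨T, hT, -⟩ := htrace W
    obtain ⟨T', hT', -⟩ := htrace W'
    have hTne : T ≠ T' := fun e => hWne (hsame fun x => by rw [hT, hT', e])
    set D := (U : Subgroup H) ⊓ (U' : Subgroup H)
    have hDN : ∀ v ∈ D, v ∈ N' → ∃ x, ψ x = v ∧ x ∈ (T : Subgroup _) ∧ x ∈ (T' : Subgroup _) := fun v hv hvN => by
      obtain ⟨x, hx⟩ := (mem_subgroupOf.mp hvN : (v : MulAut _) ∈ N)
      exact ⟨x, hx, (hT x).mp (hx ▸ (hW' v).mp hv.1), (hT' x).mp (hx ▸ (hW'' v).mp hv.2)⟩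
    rcases hkind with hTI | ⟨hR, hk⟩
    · have htriv : ∀ v ∈ D, v ∈ N' → v = 1 := fun v hv hvN => by
        obtain ⟨x, hx, h1, h2⟩ := hDN v hv hvN
        exact Subtype.ext (by rw [← hx, eq_one_of_ti hTI hTne h1 h2, map_one]; rfl)
      have hsqN : ∀ d ∈ D, d * d ∈ N' := fun d _ => by
        by_cases hd : d ∈ N'
        · exact mul_mem hd hd
        · simpa using hH2 d⁻¹ d (fun e => hd (by simpa using inv_mem e)) hd
      refine cyclic_aux N' D (fun v hv w hw hvi hwi => ?_) (fun d _ d' _ => hH2 d d') (fun v hv hvN => by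
        rw [htriv v hv hvN, one_mul]) hsqN
      have hvN : v ∉ N' := fun e => hvi.1 (htriv v hv e)
      have hwN : w ∉ N' := fun e => hwi.1 (htriv w hw e)
      exact inv_mul_eq_one.mp (htriv _ (mul_mem (inv_mem hv) hw) (hH2 v w hvN hwN))
    · have hCbot : ∀ c ∈ centralizer (L : Set X), c = 1 := by
        have h2 : ∀ (c : X), c ∈ centralizer (L : Set X) → Two c → c = 1 := fun c hc hc2 => by
          obtain ⟨V, hV⟩ := hc2.exists_sylow
          obtain ⟨g, rfl⟩ := MulAction.exists_smul_eq X S V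
          have h1 : g⁻¹ * c * g ∈ centralizer (L : Set X) ⊓ (S : Subgroup X) :=
            ⟨by simpa using (normal_centralizer (H := L)).conj_mem c hc g⁻¹, CfsgLib.CyclicInt.mem_smul_sylow.mp hV⟩
          rw [hr.cent_inf h hO hL, hR, mem_bot] at h1
          calc c = g * (g⁻¹ * c * g) * g⁻¹ := by group
            _ = 1 := by rw [h1]; group
        haveI := normal_centralizer (H := L)
        have hle : centralizer (L : Set X) ≤ oddCore X := CfsgLib.le_pPrimeCore (by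
          rw [Nat.coprime_two_right]
          refine Nat.not_even_iff_odd.mp fun he => ?_
          obtain ⟨c, hc⟩ := exists_prime_orderOf_dvd_card' (G := centralizer (L : Set X)) 2 he.two_dvd
          rw [← orderOf_coe] at hc
          have hc' := h2 c c.2 ⟨1, by rw [pow_one, ← hc]; exact pow_orderOf_eq_one _⟩
          rw [hc', orderOf_one] at hc
          omega)
        intro c hc
        have := hle hc
        rwa [hO, mem_bot] at this
      have hinj : Function.Injective φ := (injective_iff_map_eq_one φ).mpr fun x hx => hCbot x (hker x hx)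
      refine cyclic_aux N' D (fun v hv w hw hvi hwi => ?_) (fun d _ d' _ => hH2 d d') (fun v hv hvN => ?_) (fun d _ => ?_)
      · obtain ⟨v1, hv1, ev⟩ := (hW' v).mp hv.1
        obtain ⟨v2, hv2, ev'⟩ := (hW'' v).mp hv.2
        obtain ⟨w1, hw1, ew⟩ := (hW' w).mp hw.1
        obtain ⟨w2, hw2, ew'⟩ := (hW'' w).mp hw.2
        obtain rfl := hinj (ev.trans ev'.symm)
        obtain rfl := hinj (ew.trans ew'.symm)
        have hinv : ∀ {u : H} {u1 : X}, Inv2 u → φ u1 = u → Inv2 u1 := fun {u u1} hu e =>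
          ⟨fun e1 => hu.1 (Subtype.ext (by rw [← e, e1, map_one]; rfl)),
            hinj (by rw [map_mul, e, map_one]; exact congrArg Subtype.val hu.2)⟩
        exact Subtype.ext (by
          rw [← ev, ← ew, h.one_inf hWne v1 ⟨hv1, hv2⟩ w1 ⟨hw1, hw2⟩ (hinv hvi ev) (hinv hwi ew)])
      · obtain ⟨x, hx, h1, -⟩ := hDN v hv hvN
        exact Subtype.ext (by rw [Subgroup.coe_mul, ← hx, ← map_mul, hk.2.2 T x h1, map_one]; rfl)
      · by_cases hd : d ∈ N'
        · exact mul_mem hd hd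
        · simpa using hH2 d⁻¹ d (fun e => hd (by simpa using inv_mem e)) hd
  -- conclusion
  let eN : ↥N' ≃* (↥L ⧸ center ↥L) := (subgroupOfEquivOfLe hNH).trans (MonoidHom.ofInjective hψ).symm
  haveI : IsSimpleGroup ↥N' := eN.isSimpleGroup
  have hN : ¬ IsMulCommutative ↥N' := fun hc => hna ⟨⟨fun p q => eN.symm.injective (by
    rw [map_mul, map_mul]; exact hc.is_comm.comm _ _)⟩⟩
  have hC : ∀ q : H, (∀ n : N', q * n = n * q) → q = 1 := fun q hq => Subtype.ext (MulEquiv.ext fun x => by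
    have h1 := congrArg Subtype.val (hq ⟨⟨ψ x, hNH ⟨x, rfl⟩⟩, ⟨x, rfl⟩⟩)
    simp only [Subgroup.coe_mul] at h1
    refine hψ (MulEquiv.ext fun z => ?_)
    have h2 := DFunLike.congr_fun h1 ((q : MulAut _)⁻¹ z)
    simp only [MulAut.mul_apply, MulAut.apply_inv_self] at h2
    simp only [ψ, MulAut.conj_apply, Subgroup.coe_one, MulAut.one_apply] at h2 ⊢
    rw [← h2, map_mul, map_mul, map_inv, MulAut.apply_inv_self])
  have hle : (P0 : Subgroup H) ≤ N' := by
    rcases hkind with hTI | ⟨-, hk⟩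
    · exact CfsgLib.CyclicInt.le_of_ti hN hci CfsgLib.CyclicInt.partB hC (hTI.of_equiv eN) P0
    · exact CfsgLib.CyclicInt.le_of_kind2 hN hci hC (CfsgLib.CyclicInt.below_all CfsgLib.CyclicInt.partB _)
        (kind2_of_equiv eN hk) P0
  exact haN (mem_subgroupOf.mp (hle haP))

/-- A rich component gives case (a). -/
theorem caseA_of_rich (hkind : TI (↥L ⧸ center ↥L) ∨ (pCore 2 X = ⊥ ∧ Kind2 (↥L ⧸ center ↥L)))
    (hnC : ∃ T : Sylow 2 X, S ≠ T ∧ ¬ IsCyclic ↥((S : Subgroup X) ⊓ (T : Subgroup X))) : CaseA X := by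
  classical
  haveI : Fact (Nat.Prime 2) := ⟨Nat.prime_two⟩
  haveI hLn := normal_of_only hL (fun M hM => hr.only h hO hL hM)
  haveI := CfsgLib.S3Simple.component_isSimple hL
  have hna := CfsgLib.S3Simple.component_not_comm hL
  have hdec := decomp h hO hL hr hkind
  set mk := QuotientGroup.mk' (center ↥L)
  obtain ⟨S', hne, hnc⟩ := hnC
  obtain ⟨P, hP⟩ := CfsgLib.CentralInt.exists_sylow_inf S hL
  obtain ⟨P', hP'⟩ := CfsgLib.CentralInt.exists_sylow_inf S' hL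
  let T : Sylow 2 (↥L ⧸ center ↥L) := P.mapSurjective (f := mk) (QuotientGroup.mk'_surjective _)
  let T' : Sylow 2 (↥L ⧸ center ↥L) := P'.mapSurjective (f := mk) (QuotientGroup.mk'_surjective _)
  have hmem : ∀ (l : ↥L), mk l ∈ (T : Subgroup _) → (l : X) ∈ (S : Subgroup X) := by
    rintro l ⟨l', hl', e⟩
    obtain ⟨c, hc, rfl⟩ := (QuotientGroup.mk'_eq_mk' _).mp e
    exact mul_mem ((hP l').mp hl') (CfsgLib.pCore_le_sylow S (center_le hO hL hc))
  have hmem' : ∀ (l : ↥L), mk l ∈ (T' : Subgroup _) → (l : X) ∈ (S' : Subgroup X) := by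
    rintro l ⟨l', hl', e⟩
    obtain ⟨c, hc, rfl⟩ := (QuotientGroup.mk'_eq_mk' _).mp e
    exact mul_mem ((hP' l').mp hl') (CfsgLib.pCore_le_sylow S' (center_le hO hL hc))
  have hTT : T ≠ T' := fun e => hne (eq_of_inf h hO hL hr (SetLike.ext fun v => by
    constructor <;> rintro ⟨hv, hvL⟩ <;> refine ⟨?_, hvL⟩
    · refine hmem' ⟨v, hvL⟩ ?_
      rw [← e]; exact ⟨_, (hP ⟨v, hvL⟩).mpr hv, rfl⟩
    · refine hmem ⟨v, hvL⟩ ?_
      rw [e]; exact ⟨_, (hP' ⟨v, hvL⟩).mpr hv, rfl⟩))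
  rcases hkind with hTI | ⟨hR, hk⟩
  swap
  · exfalso
    refine hnc (cyclic_aux ⊤ _ (h.one_inf hne) (fun _ _ _ _ _ _ => mem_top _) (fun v hv _ => ?_) fun _ _ => mem_top _)
    obtain ⟨t, ht, r, hr', rfl⟩ := hdec v hv.1
    rw [hR, mem_bot] at hr'
    subst hr'
    rw [mul_one]
    have h1 := hk.2.2 T (mk ⟨t, ht.2⟩) ⟨_, (hP ⟨t, ht.2⟩).mpr ht.1, rfl⟩
    rw [← map_mul] at h1
    have h2 := center_le hO hL ((QuotientGroup.eq_one_iff _).mp h1)
    rwa [hR, mem_bot] at h2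
  -- the intersection is the core
  have hD : (S : Subgroup X) ⊓ (S' : Subgroup X) = pCore 2 X := by
    refine le_antisymm ?_ (le_inf (CfsgLib.pCore_le_sylow S) (CfsgLib.pCore_le_sylow S'))
    rintro v ⟨hv, hv'⟩
    obtain ⟨t, ht, r, hr', rfl⟩ := hdec v hv
    have ht' : t ∈ (S' : Subgroup X) := by
      have := mul_mem hv' ((S' : Subgroup X).inv_mem (CfsgLib.pCore_le_sylow S' hr'))
      rwa [mul_inv_cancel_right] at this
    have h1 := eq_one_of_ti hTI hTT (x := mk ⟨t, ht.2⟩) ⟨_, (hP ⟨t, ht.2⟩).mpr ht.1, rfl⟩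
      ⟨_, (hP' ⟨t, ht.2⟩).mpr ht', rfl⟩
    exact mul_mem (center_le hO hL ((QuotientGroup.eq_one_iff _).mp h1)) hr'
  rw [hD] at hnc
  have hRp : IsPGroup 2 (pCore 2 X) := CfsgLib.isPGroup_pCore 2
  have hRne : pCore 2 X ≠ ⊥ := fun e => hnc (by rw [e]; infer_instance)
  obtain ⟨z, hzR, hz, -⟩ := exists_central_inv hRp hRne
  have hone : One (pCore 2 X) := hD ▸ h.one_inf hne
  have hzR_c : ∀ v ∈ pCore 2 X, z * v = v * z := fun v hv =>
    (mul_inv_eq_iff_eq_mul.mp (hone _ (mul_mem (mul_mem hv hzR) (inv_mem hv)) z hzR (hz.conj v) hz)).symm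
  have hcomm := fun (l : X) (hl : l ∈ L) (r : X) (hr' : r ∈ pCore 2 X) => commute_core hO hL hl hr'
  -- the centre of the component
  have hZ : ∀ c : ↥L, c ∈ center ↥L → In2 z (c : X) := fun c hc =>
    quat_center hRp hone hnc hzR hz (center_le hO hL hc) fun v hv => hcomm c c.2 v hv
  -- three commuting involutions
  have hci := ci_of_ti hTI
  obtain ⟨t1, t2, ht1, ht2, hne12⟩ := CfsgLib.CyclicInt.exists_two_cen hna hci T
  have htc : t1 * t2 = t2 * t1 := (ht1.2.2 t2 ht2.2.1).symm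
  have hclass : ∀ (x : ↥L), mk x = t1 → ∀ u : ↥L, Inv2 (mk u) → mk u ∈ (T : Subgroup _) →
      (u : X) * u = (x : X) * x := by
    intro x hx u hu huT
    obtain ⟨n, -, -, hn⟩ := CfsgLib.CyclicInt.ti_inv_trans CfsgLib.CyclicInt.partB hna hci hTI T ht1.1 ht1.2.1 hu huT
    obtain ⟨g, rfl⟩ := QuotientGroup.mk'_surjective (center ↥L) n
    rw [← hx, ← map_inv, ← map_mul, ← map_mul] at hn
    obtain ⟨c, hc, hc'⟩ := (QuotientGroup.mk'_eq_mk' _).mp hn
    have hxx : x * x ∈ center ↥L := (QuotientGroup.eq_one_iff _).mp (by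
      show mk (x * x) = 1
      rw [map_mul, hx, ht1.1.2])
    have hcsq : c * c = 1 := by
      rcases hZ c hc with e | e <;> refine Subtype.ext ?_ <;> rw [Subgroup.coe_mul, e]
      exacts [one_mul 1, hz.2]
    rw [← hc', ← Subgroup.coe_mul, ← Subgroup.coe_mul]
    refine congrArg Subtype.val ?_
    calc g * x * g⁻¹ * c * (g * x * g⁻¹ * c) = g * x * g⁻¹ * (c * (g * x * g⁻¹)) * c := by group
      _ = g * x * g⁻¹ * (g * x * g⁻¹ * c) * c := by rw [← mem_center_iff.mp hc]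
      _ = g * (x * x) * g⁻¹ * (c * c) := by group
      _ = x * x := by rw [hcsq, mul_one, mem_center_iff.mp hxx g, mul_inv_cancel_right]
  obtain ⟨x1, hx1⟩ := QuotientGroup.mk'_surjective (center ↥L) t1
  obtain ⟨x2, hx2⟩ := QuotientGroup.mk'_surjective (center ↥L) t2
  have hx1S : (x1 : X) ∈ (S : Subgroup X) := hmem x1 (by rw [hx1]; exact ht1.2.1)
  have hx2S : (x2 : X) ∈ (S : Subgroup X) := hmem x2 (by rw [hx2]; exact ht2.2.1)
  have hne' : ∀ {u : ↥L}, mk u ≠ 1 → ∀ {r : X}, r ∈ pCore 2 X → (u : X) * r ∉ pCore 2 X := fun {u} hu r hr' hur => by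
    refine hu ((QuotientGroup.eq_one_iff u).mpr (mem_center_iff.mpr fun l => Subtype.ext ?_))
    have := hcomm l l.2 u (by simpa using mul_mem hur (inv_mem hr'))
    simpa using this
  have hEight : CfsgLib.CyclicInt.Eight S := by
    have h12 : mk (x1 * x2) = t1 * t2 := by rw [map_mul, hx1, hx2]
    have e2 := hclass x1 hx1 x2 (by rw [hx2]; exact ht2.1) (by rw [hx2]; exact ht2.2.1)
    have e12 := hclass x1 hx1 (x1 * x2) (by rw [h12]; exact ht1.1.mul ht2.1 hne12 htc)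
      (by rw [h12]; exact mul_mem ht1.2.1 ht2.2.1)
    have hzc : ∀ l : ↥L, (l : X) * z = z * l := fun l => hcomm l l.2 z hzR
    have hx11 : x1 * x1 ∈ center ↥L := (QuotientGroup.eq_one_iff _).mp (by
      show mk (x1 * x1) = 1
      rw [map_mul, hx1, ht1.1.2])
    have hn1 : mk x1 ≠ 1 := hx1.symm ▸ ht1.1.1
    have hn2 : mk x2 ≠ 1 := hx2.symm ▸ ht2.1.1
    have hn12 : mk (x1 * x2) ≠ 1 := h12.symm ▸ (ht1.1.mul ht2.1 hne12 htc).1
    -- two elements of `L R` squaring to one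
    obtain ⟨r1, hr1, r2, hr2, hsq1, hsq2, hsq12⟩ : ∃ r1 ∈ pCore 2 X, ∃ r2 ∈ pCore 2 X,
        (x1 : X) * r1 * (x1 * r1) = 1 ∧ (x2 : X) * r2 * (x2 * r2) = 1 ∧
          (x1 : X) * r1 * (x2 * r2) * (x1 * r1 * (x2 * r2)) = 1 := by
      rcases hZ _ hx11 with e | e <;> rw [Subgroup.coe_mul] at e
      · refine ⟨1, one_mem _, 1, one_mem _, ?_, ?_, ?_⟩ <;> simp only [mul_one]
        exacts [e, e2.trans e, by rw [← Subgroup.coe_mul]; exact e12.trans e]
      · obtain ⟨i, hi, j, hj, hii, hjj, hji⟩ := quat_pair hRp hone hnc hzR hz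
        have c : ∀ (u v : X), u ∈ L → v ∈ pCore 2 X → u * v * (u * v) = u * u * (v * v) := fun u v hu hv => by
          rw [mul_assoc u v, ← mul_assoc v u v, ← hcomm u hu v hv, mul_assoc u v v, ← mul_assoc]
        refine ⟨i, hi, j, hj, ?_, ?_, ?_⟩
        · rw [c _ _ x1.2 hi, e, hii, hz.2]
        · rw [c _ _ x2.2 hj, e2.trans e, hjj, hz.2]
        · rw [show (x1 : X) * i * (x2 * j) = (x1 : X) * x2 * (i * j) by
              rw [mul_assoc (x1 : X), ← mul_assoc i, ← hcomm _ x2.2 i hi]; group,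
            c _ _ (mul_mem x1.2 x2.2) (mul_mem hi hj)]
          rw [show i * j * (i * j) = i * (j * i) * j by group, hji,
            show i * (i * j * z) * j = (i * i) * j * (z * j) by group, hii]
          rw [show (x1 : X) * x2 * (x1 * x2) = z from e12.trans e]
          have hzj : z * j = j * z := hzR_c j hj
          rw [show z * j * (z * j) = z * j * (j * z) by rw [← hzj],
            show z * j * (j * z) = z * (j * j) * z by group, hjj, show z * z * z = z by rw [hz.2, one_mul], hz.2]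
    set a := (x1 : X) * r1
    set b := (x2 : X) * r2
    have hab : a * b = b * a := by
      calc a * b = a * b * ((a * b) * (a * b))⁻¹ := by rw [hsq12, inv_one, mul_one]
        _ = b⁻¹ * a⁻¹ := by group
        _ = b * a := by rw [inv_eq_of_mul_eq_one_right hsq1, inv_eq_of_mul_eq_one_right hsq2]
    have haR : a ∉ pCore 2 X := hne' hn1 hr1
    have hbR : b ∉ pCore 2 X := hne' hn2 hr2
    have hzc' : ∀ (u : ↥L) (r : X), r ∈ pCore 2 X → (u : X) * r * z = z * (u * r) := fun u r hr' => by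
      have hvz : Inv2 (r * z * r⁻¹) := hz.conj r
      have h1 := hone _ (mul_mem (mul_mem hr' hzR) (inv_mem hr')) z hzR hvz hz
      rw [mul_assoc, mul_inv_eq_iff_eq_mul.mp h1, ← mul_assoc, hzc u, mul_assoc]
    have hab' : a * b ∉ pCore 2 X := by
      rw [show a * b = ((x1 * x2 : ↥L) : X) * (r1 * r2) by
        show (x1 : X) * r1 * (x2 * r2) = _
        rw [mul_assoc (x1 : X), ← mul_assoc r1, ← hcomm _ x2.2 r1 hr1, Subgroup.coe_mul]; group]
      exact hne' hn12 (mul_mem hr1 hr2)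
    refine ⟨a, b, z, ⟨fun e => haR (e ▸ one_mem _), hsq1⟩, ⟨fun e => hbR (e ▸ one_mem _), hsq2⟩, hz,
      fun e => hab' (by rw [← e, hsq1]; exact one_mem _), fun e => haR (e ▸ hzR), fun e => hbR (e ▸ hzR),
      fun e => hab' (e ▸ hzR), mul_mem hx1S (CfsgLib.pCore_le_sylow S hr1),
      mul_mem hx2S (CfsgLib.pCore_le_sylow S hr2), CfsgLib.pCore_le_sylow S hzR, hab, hzc' x1 r1 hr1, hzc' x2 r2 hr2⟩
  -- the normal subgroup
  obtain ⟨t, -, -, -, -, L0, hL0, hodd, htarget⟩ :=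
    CfsgLib.CyclicInt.exists_setup_ti CfsgLib.CyclicInt.partB hna hci hTI T
  obtain rfl : L0 = ⊤ := (IsSimpleGroup.eq_bot_or_eq_top_of_normal L0 hL0).resolve_left fun e => by
    rw [e, index_bot] at hodd
    exact Nat.not_even_iff_odd.mpr hodd (CfsgLib.CyclicInt.even_card_of_simple hna)
  refine ⟨quat_equiv hRp hone hnc, ⟨S, hEight⟩, L ⊔ pCore 2 X, inferInstance, ?_, le_sup_right,
    ↥L ⧸ center ↥L, inferInstance, ?_⟩
  · have hle : (S : Subgroup X) ≤ L ⊔ pCore 2 X := fun s hs => by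
      obtain ⟨t, ht, r, hr', rfl⟩ := hdec s hs
      exact mul_mem (mem_sup_left ht.2) (mem_sup_right hr')
    exact Nat.not_even_iff_odd.mp fun he => S.not_dvd_index (he.two_dvd.trans (index_dvd_of_le hle))
  -- the projection
  have hsplit : ∀ g : ↥(L ⊔ pCore 2 X), ∃ l : ↥L, ∃ r ∈ pCore 2 X, (g : X) = l * r := fun g => by
    obtain ⟨l, hl, r, hr', e⟩ := mem_sup_of_normal_right.mp g.2
    exact ⟨⟨l, hl⟩, r, hr', e.symm⟩
  choose fl fr hfr hfe using hsplit
  have hwd : ∀ (g : ↥(L ⊔ pCore 2 X)) (l : ↥L) (r : X), r ∈ pCore 2 X → (g : X) = l * r → mk (fl g) = mk l := by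
    intro g l r hr' e
    refine inv_mul_eq_one.mp ?_
    rw [← map_inv, ← map_mul]
    by_contra hu
    refine hne' hu (one_mem _) ?_
    rw [mul_one, Subgroup.coe_mul, Subgroup.coe_inv]
    rw [hfe g] at e
    have : (fl g : X)⁻¹ * l = fr g * r⁻¹ := by
      rw [eq_mul_inv_iff_mul_eq, mul_assoc, ← e, inv_mul_cancel_left]
    rw [this]
    exact mul_mem (hfr g) (inv_mem hr')
  let π : ↥(L ⊔ pCore 2 X) →* ↥L ⧸ center ↥L :=
    MonoidHom.mk' (fun g => mk (fl g)) fun g g' => by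
      show mk (fl (g * g')) = mk (fl g) * mk (fl g')
      rw [← map_mul]
      refine hwd (g * g') (fl g * fl g') (fr g * fr g') (mul_mem (hfr g) (hfr g')) ?_
      rw [Subgroup.coe_mul, Subgroup.coe_mul, hfe g, hfe g', mul_assoc, ← mul_assoc (fr g),
        ← hcomm _ (fl g').2 _ (hfr g)]
      group
  refine ⟨π, fun q => ?_, fun g => ⟨fun e => ?_, fun e => ?_⟩, CfsgLib.CyclicInt.IsTarget.of_top htarget⟩
  · obtain ⟨l, rfl⟩ := QuotientGroup.mk'_surjective (center ↥L) q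
    exact ⟨⟨l, mem_sup_left l.2⟩, hwd _ l 1 (one_mem _) (mul_one _).symm⟩
  · rw [hfe g]
    exact mul_mem (center_le hO hL ((QuotientGroup.eq_one_iff _).mp e)) (hfr g)
  · show mk (fl g) = 1
    rw [hwd g 1 g e (by simp), map_one]

end CfsgLib.RankInt
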