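import Cfsg.Agent.Lib.RankInt.Inner
import Cfsg.Agent.Lib.RankInt.Cover
import Cfsg.Agent.S1169
import Cfsg.Agent.S0225

/-!
The kind of a component: large Sylow subgroup, or quaternion Sylow subgroup with a core of order at least four.

Blueprint: `blueprint/bender/S3310.md`.
-/

set_option autoImplicit false
set_option linter.unusedSectionVars false
set_option linter.style.haveILetI false

namespace CfsgLib.RankInt

open Subgroup Cfsg
open CfsgLib.CyclicInt (Inv2 Two TI Kind2)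
open scoped Pointwise

universe u

/-- A simple group with the intersection property is TI or has elementary abelian Sylow subgroups. -/
theorem simple_kind {G : Type u} [Group G] [Finite G] [IsSimpleGroup G] (hna : ¬ IsMulCommutative G) (h : RI G) :
    TI G ∨ Kind2 G := by
  classical
  haveI : Fact (Nat.Prime 2) := ⟨Nat.prime_two⟩
  obtain ⟨T⟩ : Nonempty (Sylow 2 G) := inferInstance
  obtain ⟨u, huI, huT, huc⟩ := CfsgLib.CyclicInt.exists_cen hna T
  let A : Subgroup G :=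
    { carrier := {x | x ∈ (T : Subgroup G) ∧ x * x = 1 ∧ ∀ t ∈ (T : Subgroup G), t * x = x * t}
      one_mem' := ⟨one_mem _, one_mul 1, fun t _ => by rw [one_mul, mul_one]⟩
      mul_mem' := fun {a b} ha hb => ⟨mul_mem ha.1 hb.1, by
        rw [show a * b * (a * b) = a * (b * a) * b by group, ha.2.2 b hb.1, ← mul_assoc, ha.2.1, one_mul, hb.2.1],
        fun t ht => by rw [← mul_assoc, ha.2.2 t ht, mul_assoc, hb.2.2 t ht, mul_assoc]⟩
      inv_mem' := fun {a} ha => by rw [show a⁻¹ = a from inv_eq_of_mul_eq_one_right ha.2.1]; exact ha }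
  have hAu : u ∈ A := ⟨huT, huI.2, huc⟩
  have hAc : IsMulCommutative A := ⟨⟨fun a b => Subtype.ext (b.2.2.2 a a.2.1)⟩⟩
  have hAN : ∀ n ∈ normalizer ((T : Subgroup G) : Set G), ∀ x ∈ A, n * x * n⁻¹ ∈ A := by
    intro n hn x hx
    refine ⟨(mem_normalizer_iff.mp hn x).mp hx.1, by rw [conj_mul, hx.2.1, mul_one, mul_inv_cancel], fun t ht => ?_⟩
    have ht' := (mem_normalizer_iff.mp (inv_mem hn) t).mp ht
    rw [inv_inv] at ht'
    calc t * (n * x * n⁻¹) = n * (n⁻¹ * t * n * x) * n⁻¹ := by group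
      _ = n * x * n⁻¹ * t := by rw [hx.2.2 _ ht']; group
  have hcl : IsStronglyClosed A (T : Subgroup G) := by
    refine ⟨fun x hx => hx.1, fun x hx g hg => ?_⟩
    by_contra hy
    set y := g * x * g⁻¹ with hy'
    have hx1 : x ≠ 1 := fun e => hy (by rw [hy', e, mul_one, mul_inv_cancel]; exact one_mem A)
    have hxI : Inv2 x := ⟨hx1, hx.2.1⟩
    have hxy : x * y = y * x := (hx.2.2 y hg).symm
    have hne : x ≠ y := fun e => hy (e ▸ hx)
    set C := centralizer ({y} : Set G)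
    have hgT : ((g • T : Sylow 2 G) : Subgroup G) ≤ C := fun v hv => by
      rw [CfsgLib.CyclicInt.mem_smul_sylow] at hv
      refine mem_centralizer_singleton_iff.mpr ?_
      have e := hx.2.2 _ hv
      calc v * y = g * (g⁻¹ * v * g * x) * g⁻¹ := by rw [hy']; group
        _ = y * v := by rw [e, hy']; group
    obtain ⟨hcom, -, hV⟩ := CfsgLib.CyclicInt.four_group hxI (hxI.conj g) hne hxy
    have hVC : closure ({x, y} : Set G) ≤ C := by
      refine (closure_le _).mpr ?_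
      rintro v (rfl | rfl)
      exacts [mem_centralizer_singleton_iff.mpr hxy, mem_centralizer_singleton_iff.mpr rfl]
    obtain ⟨P, hP⟩ := (hV.comap_subtype (K := C)).exists_le_sylow
    obtain ⟨c, hc⟩ := MulAction.exists_smul_eq C P ((g • T).subtype hgT)
    have hkey : ∀ v ∈ closure ({x, y} : Set G), (c : G) * v * (c : G)⁻¹ ∈ ((g • T : Sylow 2 G) : Subgroup G) := by
      intro v hv
      have h3 : c * (⟨v, hVC hv⟩ : C) * c⁻¹ ∈ (((g • T).subtype hgT : Sylow 2 C) : Subgroup C) := by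
        rw [← hc]
        exact CfsgLib.CyclicInt.conj_mem_smul_sylow (hP hv)
      exact h3
    have hn : g⁻¹ * (c : G) ∈ normalizer ((T : Subgroup G) : Set G) := by
      refine h.normalizes hxI (hxI.conj g) hne hxy hx.1 hg ?_ ?_
      · simpa [mul_assoc] using CfsgLib.CyclicInt.mem_smul_sylow.mp (hkey x (subset_closure (Or.inl rfl)))
      · simpa [hy', mul_assoc] using CfsgLib.CyclicInt.mem_smul_sylow.mp (hkey y (subset_closure (Or.inr rfl)))
    refine hy ?_
    have e : (g⁻¹ * (c : G))⁻¹ * x * (g⁻¹ * (c : G))⁻¹⁻¹ = y := by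
      have hcy : (c : G) * y = y * c := mem_centralizer_singleton_iff.mp c.2
      calc (g⁻¹ * (c : G))⁻¹ * x * (g⁻¹ * (c : G))⁻¹⁻¹ = (c : G)⁻¹ * (g * x * g⁻¹) * c := by group
        _ = y := by rw [← hy', mul_assoc, ← hcy, inv_mul_cancel_left]
    exact e ▸ hAN _ (inv_mem hn) x hx
  rcases Cfsg.Agent.S1169.result T A (fun e => huI.1 (mem_bot.mp (e ▸ hAu))) hAc hcl with hab | ⟨M, hM⟩
  · have hci : CfsgLib.CyclicInt.CI G := by
      intro U V hne
      set D := (U : Subgroup G) ⊓ (V : Subgroup G)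
      have hDp : IsPGroup 2 D := U.2.to_le inf_le_left
      by_cases hD : D = ⊥
      · rw [hD]; infer_instance
      obtain ⟨z, hz, hzi, -⟩ := exists_central_inv hDp hD
      obtain ⟨a, -, ha⟩ := CfsgLib.UniqueSubgroup.exists_generator hDp (z := (⟨z, hz⟩ : D))
        (by rw [← orderOf_coe]; exact CfsgLib.CyclicInt.inv2_iff.mp hzi) (fun v hv => by
          by_cases hv1 : v = 1
          · rw [hv1]; exact one_mem _
          · rw [show v = ⟨z, hz⟩ from Subtype.ext (h.one_inf hne v v.2 z hz ⟨fun e => hv1 (Subtype.ext e), by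
              rw [← pow_two]; exact congrArg Subtype.val hv⟩ hzi)]
            exact mem_zpowers _) ⊤ (fun a _ b _ => by
          haveI := hab
          refine Subtype.ext ?_
          have hUc : ∀ p ∈ (U : Subgroup G), ∀ q ∈ (U : Subgroup G), p * q = q * p := fun p hp q hq =>
            congrArg Subtype.val ((Sylow.equiv U T).injective (by
              rw [map_mul, map_mul]; exact hab.is_comm.comm _ _) :
              (⟨p, hp⟩ : (U : Subgroup G)) * ⟨q, hq⟩ = ⟨q, hq⟩ * ⟨p, hp⟩)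
          exact hUc a a.2.1 b b.2.1)
      exact ⟨⟨a, fun v => mem_zpowers_iff.mp (ha ▸ mem_top v)⟩⟩
    exact (CfsgLib.CyclicInt.simple_kind CfsgLib.CyclicInt.partB hna hci
      (CfsgLib.CyclicInt.below_all CfsgLib.CyclicInt.partB _)).imp_right And.left
  · exact Or.inl (CfsgLib.BinaryCoset.partA_of_goodAll CfsgLib.Bender.Assembly.goodAll G hna M hM)

variable {X : Type u} [Group X] [Finite X] (h : RI X) (hns : ¬ Group.IsSolvable X) (hO : oddCore X = ⊥)
  {S : Sylow 2 X} {L : Subgroup X} (hL : IsComponent L)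
include h hns hO hL

theorem perfect_comp : commutator ↥L = ⊤ := by
  have := hL.2.1
  rwa [Group.isPerfect_def] at this

/-- The quotient is TI when the lift of a common involution forces equal intersections with the component. -/
theorem ti_quot (hlift : ∀ (v : ↥L), Inv2 (QuotientGroup.mk' (center ↥L) v) → ∀ S1 S2 : Sylow 2 X,
    (v : X) ∈ (S1 : Subgroup X) → (v : X) ∈ (S2 : Subgroup X) → (S1 : Subgroup X) ⊓ L = (S2 : Subgroup X) ⊓ L) :
    TI (↥L ⧸ center ↥L) := by
  haveI : Fact (Nat.Prime 2) := ⟨Nat.prime_two⟩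
  intro U V q hq hU hV
  obtain ⟨P1, rfl⟩ := Sylow.mapSurjective_surjective (QuotientGroup.mk'_surjective (center ↥L)) 2 U
  obtain ⟨P2, rfl⟩ := Sylow.mapSurjective_surjective (QuotientGroup.mk'_surjective (center ↥L)) 2 V
  obtain ⟨v, hv, rfl⟩ := hU
  obtain ⟨v', hv', e⟩ := hV
  obtain ⟨c, hc, rfl⟩ := (QuotientGroup.mk'_eq_mk' _).mp e
  obtain ⟨S1, hS1⟩ := (P1.2.map L.subtype).exists_le_sylow
  obtain ⟨S2, hS2⟩ := (P2.2.map L.subtype).exists_le_sylow
  have h2 : ((v' * c : ↥L) : X) ∈ (S2 : Subgroup X) := by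
    rw [Subgroup.coe_mul]
    exact mul_mem (hS2 ⟨v', hv', rfl⟩) (CfsgLib.pCore_le_sylow S2 (center_le hO hL hc))
  have he := hlift _ hq S1 S2 (hS1 ⟨_, hv, rfl⟩) h2
  have key : ∀ (P : Sylow 2 ↥L) (W : Sylow 2 X), (P : Subgroup ↥L).map L.subtype ≤ (W : Subgroup X) →
      (P : Subgroup ↥L) = ((W : Subgroup X) ⊓ L).subgroupOf L := fun P W hPW => by
    refine (P.is_maximal' ((W.2.to_le inf_le_left).comap_of_injective L.subtype L.subtype_injective) ?_).symm
    exact fun p hp => ⟨hPW ⟨p, hp, rfl⟩, p.2⟩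
  rw [show P1 = P2 from Sylow.ext (by rw [key P1 S1 hS1, key P2 S2 hS2, he])]

/-- A component whose Sylow subgroup has two involutions. -/
theorem caseA_of_big (hT : ¬ One ((S : Subgroup X) ⊓ L))
    (hnC : ∃ T : Sylow 2 X, S ≠ T ∧ ¬ IsCyclic ↥((S : Subgroup X) ⊓ (T : Subgroup X))) : CaseA X := by
  classical
  haveI : Fact (Nat.Prime 2) := ⟨Nat.prime_two⟩
  haveI := CfsgLib.S3Simple.component_isSimple hL
  have hna := CfsgLib.S3Simple.component_not_comm hL
  have hTp : IsPGroup 2 ↥((S : Subgroup X) ⊓ L) := S.2.to_le inf_le_left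
  obtain ⟨x, hx, hxi, y, hy, hyi, hxy, hyc⟩ : ∃ x ∈ (S : Subgroup X) ⊓ L, Inv2 x ∧ ∃ y ∈ (S : Subgroup X) ⊓ L,
      Inv2 y ∧ x ≠ y ∧ x * y = y * x := by
    unfold One at hT
    push Not at hT
    obtain ⟨a, ha, b, hb, hai, hbi, hab⟩ := hT
    obtain ⟨u, hu, hui, huc⟩ := exists_central_inv hTp (fun e => hai.1 (mem_bot.mp (e ▸ ha)))
    by_cases hau : a = u
    · exact ⟨b, hb, hbi, u, hu, hui, fun e => hab (hau.trans e.symm), huc b hb⟩
    · exact ⟨a, ha, hai, u, hu, hui, hau, huc a ha⟩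
  have hr : Rich S L := ⟨x, y, hxi, hyi, hxy, hyc, ⟨x, hx, 1, one_mem _, (mul_one x).symm⟩,
    y, hy, 1, one_mem _, (mul_one y).symm⟩
  refine caseA_of_rich h hO hL hr ?_ hnC
  by_cases hZ : center ↥L = ⊥
  · by_cases hR : pCore 2 X = ⊥
    · let e : ↥L ⧸ center ↥L ≃* ↥L := (QuotientGroup.quotientMulEquivOfEq hZ).trans QuotientGroup.quotientBot
      haveI : IsSimpleGroup ↥L := e.symm.isSimpleGroup
      have hna' : ¬ IsMulCommutative ↥L := fun hc => hna ⟨⟨fun p q => e.injective (by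
        rw [map_mul, map_mul]; exact hc.is_comm.comm _ _)⟩⟩
      exact (simple_kind hna' (h.subgroup L)).imp (fun ht => ht.of_equiv e) fun hk => ⟨hR, kind2_of_equiv e hk⟩
    left
    obtain ⟨z, hzR, hz, -⟩ := exists_central_inv (CfsgLib.isPGroup_pCore 2) hR
    refine ti_quot h hns hO hL fun v hv S1 S2 h1 h2 => ?_
    have hvv : (v : X) * v = 1 := by
      have hmem : v * v ∈ center ↥L := (QuotientGroup.eq_one_iff _).mp (by
        show QuotientGroup.mk' (center ↥L) (v * v) = 1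
        rw [map_mul, hv.2])
      rw [hZ, mem_bot] at hmem
      exact congrArg Subtype.val hmem
    have hv1 : (v : X) ≠ 1 := fun e => hv.1 (by rw [show v = 1 from Subtype.ext e, map_one])
    have hvz : (v : X) ≠ z := fun e => by
      refine hv.1 ((QuotientGroup.eq_one_iff v).mpr (mem_center_iff.mpr fun l => Subtype.ext ?_))
      rw [Subgroup.coe_mul, Subgroup.coe_mul, e]
      exact commute_core hO hL l.2 hzR
    rw [h S1 S2 (v : X) z ⟨hv1, hvv⟩ hz hvz (commute_core hO hL v.2 hzR) h1 (CfsgLib.pCore_le_sylow S1 hzR) h2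
      (CfsgLib.pCore_le_sylow S2 hzR)]
  · left
    obtain ⟨P, hP⟩ := CfsgLib.CentralInt.exists_sylow_inf S hL
    refine quot_ti (perfect_comp h hns hO hL) hna (h.subgroup L) (fun c => ?_) hZ P fun hone => hxy ?_
    · obtain ⟨k, hk⟩ := CfsgLib.isPGroup_pCore (G := X) 2 ⟨_, center_le hO hL c.2⟩
      exact ⟨k, Subtype.ext (Subtype.ext (by simpa using congrArg Subtype.val hk))⟩
    · exact congrArg Subtype.val (hone ⟨x, hx.2⟩ ((hP _).mpr hx.1) ⟨y, hy.2⟩ ((hP _).mpr hy.1)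
        ⟨fun e => hxi.1 (congrArg Subtype.val e), Subtype.ext hxi.2⟩
        ⟨fun e => hyi.1 (congrArg Subtype.val e), Subtype.ext hyi.2⟩)

/-- A component with one involution in its Sylow subgroup. -/
theorem quat_comp (hT : One ((S : Subgroup X) ⊓ L)) :
    ∃ z, Inv2 z ∧ z ∈ (S : Subgroup X) ⊓ L ∧ z ∈ pCore 2 X ∧ (∀ l ∈ L, l * z = z * l) ∧
      ¬ IsCyclic ↥((S : Subgroup X) ⊓ L) ∧ ∀ c : ↥L, c ∈ center ↥L → In2 z (c : X) := by
  classical
  haveI : Fact (Nat.Prime 2) := ⟨Nat.prime_two⟩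
  haveI := CfsgLib.S3Simple.component_isSimple hL
  have hna := CfsgLib.S3Simple.component_not_comm hL
  obtain ⟨P, hP⟩ := CfsgLib.CentralInt.exists_sylow_inf S hL
  have heven : Even (Nat.card ↥L) := by
    obtain ⟨k, hk⟩ := CfsgLib.CyclicInt.even_card_of_simple hna
    exact even_iff_two_dvd.mpr ((show 2 ∣ Nat.card (↥L ⧸ center ↥L) from ⟨k, by omega⟩).trans
      (card_quotient_dvd_card _))
  have honeP : ∀ a b : ↥L, a ∈ (P : Subgroup ↥L) → b ∈ (P : Subgroup ↥L) → Inv2 a → Inv2 b → a = b :=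
    fun a b ha hb hai hbi => Subtype.ext (hT a ⟨(hP a).mp ha, a.2⟩ b ⟨(hP b).mp hb, b.2⟩
      ⟨fun e => hai.1 (Subtype.ext e), congrArg Subtype.val hai.2⟩
      ⟨fun e => hbi.1 (Subtype.ext e), congrArg Subtype.val hbi.2⟩)
  obtain ⟨w, hw, N, hN, hNodd, hNc⟩ := Cfsg.Agent.S0225.result heven fun E hE => by
    haveI := hE
    obtain ⟨Q, hQ⟩ := (IsPGroup.of_card (p := 2) (n := 2) (by rw [IsKleinFour.card_four]; norm_num) :
      IsPGroup 2 E).exists_le_sylow
    obtain ⟨g, hg⟩ := MulAction.exists_smul_eq ↥L Q P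
    haveI : Nontrivial E := Finite.one_lt_card_iff_nontrivial.mp (by rw [IsKleinFour.card_four]; omega)
    obtain ⟨a, ha⟩ := exists_ne (1 : E)
    obtain ⟨b, hb, hba⟩ : ∃ b : E, b ≠ 1 ∧ b ≠ a := by
      by_contra hcon
      push Not at hcon
      have hsub : (Set.univ : Set E) ⊆ {1, a} := fun v _ => (em (v = 1)).imp id (hcon v)
      have h4 := Set.ncard_le_ncard hsub (Set.toFinite _)
      rw [Set.ncard_univ, IsKleinFour.card_four] at h4
      have h2 : ({1, a} : Set E).ncard ≤ 2 := (Set.ncard_insert_le _ _).trans (by rw [Set.ncard_singleton])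
      omega
    have hmem : ∀ v : E, g * (v : ↥L) * g⁻¹ ∈ (P : Subgroup ↥L) := fun v => by
      rw [← hg]; exact CfsgLib.CyclicInt.conj_mem_smul_sylow (hQ v.2)
    have hinv : ∀ v : E, v ≠ 1 → Inv2 (g * (v : ↥L) * g⁻¹) := fun v hv =>
      (show Inv2 (v : ↥L) from ⟨fun e => hv (Subtype.ext e), congrArg Subtype.val (IsKleinFour.mul_self v)⟩).conj g
    exact hba (Subtype.ext (mul_left_cancel (mul_right_cancel (honeP _ _ (hmem b) (hmem a) (hinv b hb) (hinv a ha)))))
  have hcore : ∀ v ∈ N, v = 1 := fun v hv => by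
    haveI := hN
    have hNle : N ≤ center ↥L := (CfsgLib.quasisimple_normal_le_center_or_eq_top hL.2 N).resolve_right fun e => by
      rw [e, card_top] at hNodd
      exact Nat.not_even_iff_odd.mpr hNodd heven
    obtain ⟨k, hk⟩ := CfsgLib.isPGroup_pCore (G := X) 2 ⟨_, center_le hO hL (hNle hv)⟩
    refine CfsgLib.CyclicInt.eq_one_of_two_odd' ⟨k, Subtype.ext (by simpa using congrArg Subtype.val hk)⟩
      (hNodd.of_dvd_nat (orderOf_dvd_natCard N hv))
  have hwc : w ∈ center ↥L := mem_center_iff.mpr fun g => by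
    have := hcore _ (hNc g)
    calc g * w = 1 * (g * w) := (one_mul _).symm
      _ = w * g * w⁻¹ * g⁻¹ * (g * w) := by rw [this]
      _ = w * g := by group
  have hwI := CfsgLib.CyclicInt.inv2_iff.mpr hw
  have hzR : (w : X) ∈ pCore 2 X := center_le hO hL hwc
  have hzI : Inv2 (w : X) := ⟨fun e => hwI.1 (Subtype.ext e), congrArg Subtype.val hwI.2⟩
  have hzT : (w : X) ∈ (S : Subgroup X) ⊓ L := ⟨CfsgLib.pCore_le_sylow S hzR, w.2⟩
  have hcyc : ¬ IsCyclic ↥((S : Subgroup X) ⊓ L) := fun hc => by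
    have h1 := mem_commutator_of_center (perfect_comp h hns hO hL) P hwc ((hP w).mpr hzT.1)
    have h2 : commutator ↥(P : Subgroup ↥L) = ⊥ := by
      haveI := hc
      letI := IsCyclic.commGroup (α := ↥((S : Subgroup X) ⊓ L))
      rw [commutator_eq_bot_iff_center_eq_top, eq_top_iff]
      intro a _
      refine mem_center_iff.mpr fun b => Subtype.ext (Subtype.ext ?_)
      have e := congrArg Subtype.val (mul_comm (⟨(b : ↥L), (hP _).mp b.2, (b : ↥L).2⟩ : ↥((S : Subgroup X) ⊓ L))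
        ⟨(a : ↥L), (hP _).mp a.2, (a : ↥L).2⟩)
      simp only [Subgroup.coe_mul] at e ⊢
      exact e
    rw [h2, mem_bot] at h1
    exact hwI.1 (congrArg Subtype.val h1)
  refine ⟨w, hzI, hzT, hzR, fun l hl => congrArg Subtype.val (mem_center_iff.mp hwc ⟨l, hl⟩), hcyc, fun c hc => ?_⟩
  refine quat_center (S.2.to_le inf_le_left) hT hcyc hzT hzI ⟨CfsgLib.pCore_le_sylow S (center_le hO hL hc), c.2⟩
    fun v hv => congrArg Subtype.val (mem_center_iff.mp hc ⟨v, hv.2⟩).symm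

/-- A component with quaternion Sylow subgroup and an element of order four in the core. -/
theorem caseA_of_core (hT : One ((S : Subgroup X) ⊓ L)) {z : X} (hz : Inv2 z) (hzR : z ∈ pCore 2 X)
    (hR : ∃ r ∈ pCore 2 X, r * r = z)
    (hnC : ∃ T : Sylow 2 X, S ≠ T ∧ ¬ IsCyclic ↥((S : Subgroup X) ⊓ (T : Subgroup X))) : CaseA X := by
  classical
  haveI : Fact (Nat.Prime 2) := ⟨Nat.prime_two⟩
  obtain ⟨w, hw, hwT, hwR, hwc, hcyc, hZ⟩ := quat_comp h hns hO hL hT
  obtain rfl : z = w := one_pCore h hns z hzR w hwR hz hw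
  obtain ⟨r, hr', hrr⟩ := hR
  have hnot : ∀ {v : X}, v ∈ L → v * v = z → ¬ v ∈ pCore 2 X := fun {v} hv hv2 hvR => by
    have hc : (⟨v, hv⟩ : ↥L) ∈ center ↥L := mem_center_iff.mpr fun l => Subtype.ext (commute_core hO hL l.2 hvR)
    rcases hZ _ hc with e | e <;> rw [show v = _ from e] at hv2
    · exact hz.1 (by rw [← hv2, one_mul])
    · exact hz.1 (by rw [← hv2, hz.2])
  have hmul : ∀ {v : X}, v ∈ L → v * v = z → Inv2 (v * r) ∧ v * r ≠ z ∧ v * r * z = z * (v * r) := fun {v} hv hv2 => by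
    have hc := commute_core hO hL hv hr'
    have hrz : r * z = z * r := by rw [← hrr, mul_assoc]
    refine ⟨⟨fun e => hnot hv hv2 ?_, ?_⟩, fun e => hnot hv hv2 ?_, ?_⟩
    · rw [mul_eq_one_iff_eq_inv.mp e]; exact inv_mem hr'
    · rw [mul_assoc, ← mul_assoc r, ← hc, mul_assoc v r, hrr, ← mul_assoc, hv2, hz.2]
    · rw [eq_mul_inv_of_mul_eq e]; exact mul_mem hzR (inv_mem hr')
    · rw [mul_assoc, hrz, ← mul_assoc, hwc v hv, mul_assoc]
  obtain ⟨i, hi, -, -, hii, -, -⟩ := quat_pair (S.2.to_le inf_le_left) hT hcyc hwT hw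
  obtain ⟨hI, hne, hc⟩ := hmul hi.2 hii
  have hrich : Rich S L := ⟨i * r, z, hI, hz, hne, hc, ⟨i, hi, r, hr', rfl⟩, z, hwT, 1, one_mem _, (mul_one z).symm⟩
  refine caseA_of_rich h hO hL hrich (Or.inl (ti_quot h hns hO hL fun v hv S1 S2 h1 h2 => ?_)) hnC
  have hvv : (v : X) * v = z := by
    rcases hZ (v * v) ((QuotientGroup.eq_one_iff _).mp (by
      show QuotientGroup.mk' (center ↥L) (v * v) = 1
      rw [map_mul, hv.2])) with e | e
    · exfalso
      rw [Subgroup.coe_mul] at e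
      obtain ⟨g, hg⟩ : ∃ g : ↥L, ((g * v * g⁻¹ : ↥L) : X) ∈ (S : Subgroup X) := by
        obtain ⟨P, hP⟩ := CfsgLib.CentralInt.exists_sylow_inf S hL
        obtain ⟨Q, hQ⟩ := Two.exists_sylow (⟨1, Subtype.ext (by rw [pow_one, Subgroup.coe_pow, pow_two]; exact e)⟩ : Two v)
        obtain ⟨g, hg⟩ := MulAction.exists_smul_eq ↥L Q P
        exact ⟨g, (hP _).mp (hg ▸ CfsgLib.CyclicInt.conj_mem_smul_sylow hQ)⟩
      by_cases hv1 : (v : X) = 1
      · exact hv.1 (by rw [show v = 1 from Subtype.ext hv1, map_one])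
      have hvI : Inv2 (v : X) := ⟨hv1, e⟩
      have hgz : (g : X) * v * (g : X)⁻¹ = z := hT _ ⟨hg, (g * v * g⁻¹).2⟩ z hwT (hvI.conj _) hw
      refine hv.1 ((QuotientGroup.eq_one_iff v).mpr (mem_center_iff.mpr fun l => Subtype.ext ?_))
      have hvz : (v : X) = z := by
        calc (v : X) = (g : X)⁻¹ * ((g : X) * v * (g : X)⁻¹) * g := by group
          _ = z := by rw [hgz, mul_assoc, ← hwc g g.2, inv_mul_cancel_left]
      rw [Subgroup.coe_mul, Subgroup.coe_mul, hvz]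
      exact hwc l l.2
    · rw [← Subgroup.coe_mul]; exact e
  obtain ⟨hI', hne', hc'⟩ := hmul v.2 hvv
  have hm : ∀ W : Sylow 2 X, r ∈ (W : Subgroup X) ∧ z ∈ (W : Subgroup X) := fun W =>
    ⟨CfsgLib.pCore_le_sylow W hr', CfsgLib.pCore_le_sylow W hzR⟩
  rw [h S1 S2 _ z hI' hz hne' hc' (mul_mem h1 (hm S1).1) (hm S1).2 (mul_mem h2 (hm S2).1) (hm S2).2]

end CfsgLib.RankInt
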