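import Cfsg.Agent.Lib.RankInt.Pair

/-!
A non-solvable group without odd core whose Sylow 2-subgroups meet in groups of rank at most one.

Blueprint: `blueprint/bender/S3310.md`.
-/

set_option autoImplicit false
set_option linter.unusedSectionVars false
set_option linter.style.haveILetI false

namespace CfsgLib.RankInt

open Subgroup Cfsg
open CfsgLib.CyclicInt (Inv2 Two)
open scoped Pointwise

universe u

variable {X : Type u} [Group X] [Finite X]

theorem main (h : RI X) (hns : ¬ Group.IsSolvable X) (hO : oddCore X = ⊥)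
    (hnC : ∃ S T : Sylow 2 X, S ≠ T ∧ ¬ IsCyclic ↥((S : Subgroup X) ⊓ (T : Subgroup X)))
    (hnQ : ∀ S : Sylow 2 X, ∀ n : ℕ, IsEmpty (↥(S : Subgroup X) ≃* QuaternionGroup (2 ^ (n + 1)))) :
    CaseA X ∨ CaseB X := by
  classical
  haveI : Fact (Nat.Prime 2) := ⟨Nat.prime_two⟩
  obtain ⟨S, T, hne, hnc⟩ := hnC
  obtain ⟨L, hL⟩ := exists_component hO h hns
  by_cases hbig : ∃ K : Subgroup X, IsComponent K ∧ ¬ One ((S : Subgroup X) ⊓ K)
  · obtain ⟨K, hK, hKT⟩ := hbig
    exact Or.inl (caseA_of_big h hns hO hK hKT ⟨T, hne, hnc⟩)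
  push Not at hbig
  obtain ⟨z, hz, -, hzR, -, -, -⟩ := quat_comp h hns hO hL (hbig L hL)
  by_cases hsq : ∃ r ∈ pCore 2 X, r * r = z
  · exact Or.inl (caseA_of_core h hns hO hL (hbig L hL) hz hzR hsq ⟨T, hne, hnc⟩)
  have hpow : ∀ (k : ℕ) (r : X), r ∈ pCore 2 X → r ^ 2 ^ k = 1 → In2 z r := by
    intro k
    induction k with
    | zero => intro r _ e; left; simpa using e
    | succ k ih =>
      intro r hr e
      rcases ih (r * r) (mul_mem hr hr) (by rw [← pow_two, ← pow_mul, ← pow_succ']; exact e) with e' | e'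
      · by_cases hr1 : r = 1
        · exact Or.inl hr1
        · exact Or.inr (one_pCore h hns r hr z hzR ⟨hr1, e'⟩ hz)
      · exact absurd ⟨r, hr, e'⟩ hsq
  have hR : ∀ r ∈ pCore 2 X, In2 z r := fun r hr => by
    obtain ⟨k, hk⟩ := CfsgLib.CyclicInt.two_of_mem (CfsgLib.pCore_le_sylow S hr)
    exact hpow k r hr hk
  by_cases htwo : ∃ M : Subgroup X, IsComponent M ∧ L ≠ M
  · obtain ⟨M, hM, hLM⟩ := htwo
    exact Or.inr (caseB_of_two h hns hO hz hzR hbig hR hL hM hLM)
  push Not at htwo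
  exact (false_of_single h hns hO hL (fun M hM => (htwo M hM).symm) (hbig L hL) hz hzR hR (hnQ S)).elim

end CfsgLib.RankInt
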