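import Cfsg.Agent.Lib.RankInt.Single
import Cfsg.Agent.Lib.CentralInt.Cover
import Cfsg.Agent.Lib.CTwoAbelian.PSLTwo

/-!
Two components with quaternion Sylow subgroups: the central product of two copies of `SL₂(5)`.

Blueprint: `blueprint/bender/S3310.md`.
-/

set_option autoImplicit false
set_option linter.unusedSectionVars false
set_option linter.style.haveILetI false

namespace CfsgLib.RankInt

open Subgroup Cfsg
open CfsgLib.CyclicInt (Inv2 Two TI)
open scoped Pointwise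

universe u

/-- `SL₂(5)`. -/
abbrev SL25 : Type := Matrix.SpecialLinearGroup (Fin 2) (ZMod 5)

/-- Case (b) for a group without odd core. -/
def CaseB (X : Type u) [Group X] : Prop :=
  ∃ G1 : Subgroup X, G1.Normal ∧ (Odd G1.index ∨ ∃ k : ℕ, Odd k ∧ G1.index = 2 * k) ∧
    ∃ (Z : Subgroup (SL25 × SL25)) (_ : Z.Normal),
      Z = zpowers ((-1 : SL25), (-1 : SL25)) ∧ Nonempty (↥G1 ≃* (SL25 × SL25) ⧸ Z)

theorem neg_one_mem_center : (-1 : SL25) ∈ center SL25 := mem_center_iff.mpr fun g => by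
  rw [mul_neg, mul_one, neg_mul, one_mul]

theorem neg_one_sq : (-1 : SL25) * -1 = 1 := by rw [neg_mul_neg, one_mul]

theorem neg_one_ne : (-1 : SL25) ≠ 1 := by decide +kernel

variable {X : Type u} [Group X] [Finite X]

/-- An element of `T` of order four that is central modulo `z` in a 2-group normalising `T`. -/
theorem exists_central_mod {Q T : Subgroup X} (hQ : IsPGroup 2 Q) (hTQ : T ≤ Q) (hQT : ∀ q ∈ Q, ∀ v ∈ T, q * v * q⁻¹ ∈ T)
    {z : X} (hz : Inv2 z) (hc : ∀ g : X, g * z = z * g) (hT : One T) (hzT : z ∈ T) {i : X} (hi : i ∈ T)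
    (hi1 : ¬ In2 z i) : ∃ t ∈ T, t * t = z ∧ ∀ q ∈ Q, In2 z (q * t * q⁻¹ * t⁻¹) := by
  haveI : Fact (Nat.Prime 2) := ⟨Nat.prime_two⟩
  let Z : Subgroup X := zpowers z
  haveI hZn : Z.Normal := ⟨fun v hv g => by
    obtain ⟨i, rfl⟩ := mem_zpowers_iff.mp hv
    rw [((show Commute g z from hc g).zpow_right i).eq, mul_inv_cancel_right]
    exact zpow_mem (mem_zpowers z) i⟩
  set π := QuotientGroup.mk' Z
  have hπ : ∀ {v : X}, π v = 1 ↔ In2 z v := fun {v} => by
    refine ⟨fun e => ?_, fun e => (QuotientGroup.eq_one_iff v).mpr ?_⟩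
    · obtain ⟨i, hi⟩ := mem_zpowers_iff.mp ((QuotientGroup.eq_one_iff v).mp e)
      rw [← hi]
      rcases Int.even_or_odd' i with ⟨k, rfl | rfl⟩
      · left; rw [zpow_mul, zpow_two, hz.2, one_zpow]
      · right; rw [zpow_add, zpow_mul, zpow_two, hz.2, one_zpow, one_mul, zpow_one]
    · rcases e with e | e <;> rw [e]
      exacts [one_mem _, mem_zpowers _]
  obtain ⟨q, hq, hq2, hqc⟩ := CfsgLib.Comp.exists_central_in_normal (p := 2) (Q := Q.map π) (M := T.map π)
    (hQ.map π) (map_mono hTQ) (by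
      rintro _ ⟨s, hs, rfl⟩
      refine CfsgLib.Bender.TwoClosed.mem_normalizer_of_conj ?_
      rintro _ ⟨v, hv, rfl⟩
      exact ⟨s * v * s⁻¹, hQT s hs v hv, by rw [map_mul, map_mul, map_inv]⟩)
    (fun e => hi1 (hπ.mp (mem_bot.mp (e ▸ mem_map_of_mem π hi))))
  obtain ⟨t, ht, rfl⟩ := hq
  have ht1 : π t ≠ 1 := fun e => by rw [e, orderOf_one] at hq2; omega
  refine ⟨t, ht, ?_, fun s hs => hπ.mp ?_⟩
  · have h2 : In2 z (t * t) := hπ.mp (by rw [map_mul, CfsgLib.Involutions.mul_self_eq_one_of_orderOf hq2])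
    refine h2.resolve_left fun e => ht1 (hπ.mpr ?_)
    exact (em (t = 1)).imp id fun h1 => hT t ht z hzT ⟨h1, e⟩ hz
  · rw [map_mul, map_mul, map_mul, map_inv, map_inv, hqc _ ⟨s, hs, rfl⟩, mul_inv_cancel_right, mul_inv_cancel]

variable (h : RI X) (hns : ¬ Group.IsSolvable X) (hO : oddCore X = ⊥) {S : Sylow 2 X} {z : X} (hz : Inv2 z)
  (hzR : z ∈ pCore 2 X) (hall : ∀ K : Subgroup X, IsComponent K → One ((S : Subgroup X) ⊓ K))
include h hns hO hz hzR hall

theorem z_mem {K : Subgroup X} (hK : IsComponent K) :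
    z ∈ (S : Subgroup X) ⊓ K ∧ ¬ IsCyclic ↥((S : Subgroup X) ⊓ K) ∧
      ∀ c : ↥K, c ∈ center ↥K → In2 z (c : X) := by
  obtain ⟨w, hw, hwT, hwR, -, hcyc, hZ⟩ := quat_comp h hns hO hK (hall K hK)
  obtain rfl : z = w := one_pCore h hns z hzR w hwR hz hw
  exact ⟨hwT, hcyc, hZ⟩

theorem z_central (g : X) : g * z = z * g :=
  mul_inv_eq_iff_eq_mul.mp (one_pCore h hns _ ((inferInstance : (pCore 2 X).Normal).conj_mem z hzR g) z hzR
    (hz.conj g) hz)

theorem quarter_core {K : Subgroup X} (hK : IsComponent K) {v : X} (hv : v ∈ K) (hv2 : v * v = z) (w : X)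
    (hw : ∀ l ∈ K, l * w = w * l) : v ≠ w := by
  intro e
  subst e
  rcases (z_mem h hns hO hz hzR hall hK).2.2 ⟨v, hv⟩ (mem_center_iff.mpr fun l => Subtype.ext (hw l l.2)) with
    e | e <;> rw [show v = _ from e] at hv2
  · exact hz.1 (by rw [← hv2, one_mul])
  · exact hz.1 (by rw [← hv2, hz.2])

theorem mul_quarters {K K' : Subgroup X} (hK : IsComponent K) (hK' : IsComponent K') (hne : K ≠ K') {v w : X}
    (hv : v ∈ K) (hv2 : v * v = z) (hw : w ∈ K') (hw2 : w * w = z) :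
    Inv2 (v * w) ∧ v * w ≠ z ∧ v * w * z = z * (v * w) := by
  have hc := z_central h hns hO hz hzR hall
  have hcomm : ∀ l ∈ K, ∀ l' ∈ K', l * l' = l' * l := fun l hl l' hl' => by
    have e := (CfsgLib.components_eq_or_commute hK hK').resolve_left hne
    rw [commutator_eq_bot_iff_le_centralizer] at e
    exact (e hl l' hl').symm
  refine ⟨⟨fun e => ?_, ?_⟩, fun e => ?_, hc _⟩
  · refine quarter_core h hns hO hz hzR hall hK hv hv2 v (fun l hl => ?_) rfl
    rw [mul_eq_one_iff_eq_inv.mp e]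
    exact hcomm l hl _ (inv_mem hw)
  · rw [mul_assoc, ← mul_assoc w, ← hcomm v hv w hw, mul_assoc v w, hw2, ← mul_assoc, hv2, hz.2]
  · refine quarter_core h hns hO hz hzR hall hK hv hv2 v (fun l hl => ?_) rfl
    rw [eq_mul_inv_of_mul_eq e]
    exact ((show Commute l z from hc l).mul_right (hcomm l hl _ (inv_mem hw))).eq

theorem exists_quarter {K : Subgroup X} (hK : IsComponent K) : ∃ v ∈ (S : Subgroup X) ⊓ K, v * v = z := by
  obtain ⟨hzT, hcyc, -⟩ := z_mem h hns hO hz hzR hall hK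
  obtain ⟨i, hi, -, -, hii, -, -⟩ := quat_pair (S.2.to_le inf_le_left) (hall K hK) hcyc hzT hz
  exact ⟨i, hi, hii⟩

/-- An element normalising the intersection with one of two components and centralising the other normalises `S`. -/
theorem normalizes_of_two {K K' : Subgroup X} (hK : IsComponent K) (hK' : IsComponent K') (hne : K ≠ K') {g : X}
    (hg : ∀ v ∈ (S : Subgroup X) ⊓ K, g * v * g⁻¹ ∈ (S : Subgroup X))
    (hg' : ∀ v ∈ (S : Subgroup X) ⊓ K', g * v * g⁻¹ ∈ (S : Subgroup X)) :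
    g ∈ normalizer ((S : Subgroup X) : Set X) := by
  obtain ⟨v, hv, hv2⟩ := exists_quarter h hns hO hz hzR hall hK
  obtain ⟨w, hw, hw2⟩ := exists_quarter h hns hO hz hzR hall hK'
  obtain ⟨hI, hvw, hcz⟩ := mul_quarters h hns hO hz hzR hall hK hK' hne hv.2 hv2 hw.2 hw2
  have hzS := (z_mem h hns hO hz hzR hall hK).1.1
  refine h.normalizes hI hz hvw hcz (mul_mem hv.1 hw.1) hzS ?_ ?_
  · rw [← conj_mul]; exact mul_mem (hg v hv) (hg' w hw)
  · rw [z_central h hns hO hz hzR hall g, mul_inv_cancel_right]; exact hzS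

theorem two_only {L M : Subgroup X} (hL : IsComponent L) (hM : IsComponent M) (hne : L ≠ M) {K : Subgroup X}
    (hK : IsComponent K) : K = L ∨ K = M := by
  by_contra hcon
  push Not at hcon
  refine component_not_le_normalizer hK S fun k hk => normalizes_of_two h hns hO hz hzR hall hL hM hne ?_ ?_
  · intro v hv
    have e := (CfsgLib.components_eq_or_commute hK hL).resolve_left hcon.1
    rw [commutator_eq_bot_iff_le_centralizer] at e
    rw [← e hk v hv.2, mul_inv_cancel_right]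
    exact hv.1
  · intro v hv
    have e := (CfsgLib.components_eq_or_commute hK hM).resolve_left hcon.2
    rw [commutator_eq_bot_iff_le_centralizer] at e
    rw [← e hk v hv.2, mul_inv_cancel_right]
    exact hv.1

/-- The structure of either of two components. -/
theorem comp_pair {K K' : Subgroup X} (hK : IsComponent K) (hK' : IsComponent K') (hne : K ≠ K') :
    Nonempty (↥K ≃* SL25) ∧
      ∀ s ∈ (S : Subgroup X), s ∈ normalizer (K : Set X) →
        ∃ t ∈ (S : Subgroup X) ⊓ K, t⁻¹ * s ∈ centralizer (K : Set X) := by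
  classical
  haveI : Fact (Nat.Prime 2) := ⟨Nat.prime_two⟩
  haveI := CfsgLib.S3Simple.component_isSimple hK
  have hna := CfsgLib.S3Simple.component_not_comm hK
  obtain ⟨hzT, hcyc, hZ⟩ := z_mem h hns hO hz hzR hall hK
  have hc := z_central h hns hO hz hzR hall
  have hTp : IsPGroup 2 ↥((S : Subgroup X) ⊓ K) := S.2.to_le inf_le_left
  have hT := hall K hK
  obtain ⟨P, hP⟩ := CfsgLib.CentralInt.exists_sylow_inf S hK
  have hcen : ∀ c : ↥K, In2 z (c : X) → c ∈ center ↥K := fun c hc' => mem_center_iff.mpr fun l => Subtype.ext (by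
    rw [Subgroup.coe_mul, Subgroup.coe_mul]
    rcases hc' with e1 | e1 <;> rw [e1]
    exacts [by rw [one_mul, mul_one], hc _])
  have hcomm : ∀ l ∈ K, ∀ l' ∈ K', l * l' = l' * l := fun l hl l' hl' => by
    have e := (CfsgLib.components_eq_or_commute hK hK').resolve_left hne
    rw [commutator_eq_bot_iff_le_centralizer] at e
    exact (e hl l' hl').symm
  have hallz : ∀ l ∈ K, l * l = 1 → In2 z l := by
    intro l hl hl2
    by_cases hl1 : l = 1
    · exact Or.inl hl1
    obtain ⟨Q, hQ⟩ := Two.exists_sylow (⟨1, Subtype.ext (by rw [pow_one, Subgroup.coe_pow, pow_two]; exact hl2)⟩ :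
      Two (⟨l, hl⟩ : ↥K))
    obtain ⟨g', hg'⟩ := MulAction.exists_smul_eq ↥K Q P
    have hmem : ((g' * ⟨l, hl⟩ * g'⁻¹ : ↥K) : X) ∈ (S : Subgroup X) :=
      (hP _).mp (hg' ▸ CfsgLib.CyclicInt.conj_mem_smul_sylow hQ)
    have h1 : (g' : X) * l * (g' : X)⁻¹ = z :=
      hT _ ⟨hmem, (g' * ⟨l, hl⟩ * g'⁻¹).2⟩ z hzT ((show Inv2 l from ⟨hl1, hl2⟩).conj _) hz
    right
    calc l = (g' : X)⁻¹ * ((g' : X) * l * (g' : X)⁻¹) * g' := by group
      _ = z := by rw [h1, mul_assoc, ← hc (g' : X), inv_mul_cancel_left]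
  set mk := QuotientGroup.mk' (center ↥K)
  have hmk : Function.Surjective mk := QuotientGroup.mk'_surjective _
  obtain ⟨b, hb, hb2⟩ := exists_quarter h hns hO hz hzR hall hK'
  -- the quotient is TI
  have hTI : TI (↥K ⧸ center ↥K) := ti_quot h hns hO hK fun v hv S1 S2 h1 h2 => by
    have hv2 : (v : X) * v = z := by
      rcases hZ (v * v) ((QuotientGroup.eq_one_iff _).mp (by
        show mk (v * v) = 1
        rw [map_mul, hv.2])) with e | e
      · exfalso
        exact hv.1 ((QuotientGroup.eq_one_iff v).mpr (hcen v (hallz _ v.2 (by rw [← Subgroup.coe_mul]; exact e))))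
      · rw [← Subgroup.coe_mul]; exact e
    obtain ⟨hI, hvb, hcz⟩ := mul_quarters h hns hO hz hzR hall hK hK' hne v.2 hv2 hb.2 hb2
    have hbp : IsPGroup 2 (zpowers b) := (CfsgLib.CyclicInt.two_of_mem hb.1).isPGroup
    have hlift : ∀ W : Sylow 2 X, (v : X) ∈ (W : Subgroup X) → ∃ U : Sylow 2 X, (v : X) * b ∈ (U : Subgroup X) ∧
        (W : Subgroup X) ⊓ K = (U : Subgroup X) ⊓ K := by
      intro W hW
      have hn : (W : Subgroup X) ⊓ K ≤ normalizer (zpowers b : Set X) := fun w hw =>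
        CfsgLib.Bender.TwoClosed.mem_normalizer_of_conj fun u hu => by
          obtain ⟨l, rfl⟩ := mem_zpowers_iff.mp hu
          rw [((show Commute w b from hcomm w hw.2 b hb.2).zpow_right l).eq, mul_inv_cancel_right]
          exact zpow_mem (mem_zpowers b) l
      obtain ⟨U, hU⟩ := ((W.2.to_le inf_le_left : IsPGroup 2 ↥((W : Subgroup X) ⊓ K)).to_sup_of_normal_right' hbp hn).exists_le_sylow
      refine ⟨U, mul_mem (hU (mem_sup_left ⟨hW, v.2⟩)) (hU (mem_sup_right (mem_zpowers b))), ?_⟩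
      obtain ⟨PW, hPW⟩ := CfsgLib.CentralInt.exists_sylow_inf W hK
      refine le_antisymm (le_inf (le_sup_left.trans hU) inf_le_right) fun w hw => ⟨(hPW ⟨w, hw.2⟩).mp ?_, hw.2⟩
      rw [← PW.is_maximal' ((U.2.comap_of_injective K.subtype K.subtype_injective)) (fun u hu =>
        (le_sup_left.trans hU) ⟨(hPW u).mp hu, u.2⟩)]
      exact hw.1
    obtain ⟨U1, hU1, e1⟩ := hlift S1 h1
    obtain ⟨U2, hU2, e2⟩ := hlift S2 h2
    rw [e1, e2, h U1 U2 _ z hI hz hvb hcz hU1 (CfsgLib.pCore_le_sylow U1 hzR) hU2 (CfsgLib.pCore_le_sylow U2 hzR)]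
  have hci := ci_of_ti hTI
  let T : Sylow 2 (↥K ⧸ center ↥K) := P.mapSurjective (f := mk) hmk
  -- order eight
  obtain ⟨i, hi, j, hj, hii, hjj, hji⟩ := quat_pair hTp hT hcyc hzT hz
  have hi1 : ¬ In2 z i := fun e => by
    rcases e with e | e <;> rw [e] at hii
    · exact hz.1 (by rw [← hii, one_mul])
    · exact hz.1 (by rw [← hii, hz.2])
  have hquarter : ∀ v ∈ (S : Subgroup X) ⊓ K, v * v = z → ∀ w ∈ (S : Subgroup X) ⊓ K, In2 z (w * v * w⁻¹ * v⁻¹) := by
    intro v hv hv2 w hw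
    have hI : Inv2 (mk ⟨v, hv.2⟩) := by
      refine ⟨fun e => ?_, ?_⟩
      · rcases hZ _ ((QuotientGroup.eq_one_iff _).mp e) with e1 | e1 <;> rw [show v = _ from e1] at hv2
        · exact hz.1 (by rw [← hv2, one_mul])
        · exact hz.1 (by rw [← hv2, hz.2])
      · rw [← map_mul]
        exact (QuotientGroup.eq_one_iff _).mpr (hcen _ (Or.inr hv2))
    have hcv := (CfsgLib.CyclicInt.ti_inv_central CfsgLib.CyclicInt.partB hna hci hTI T hI
      ⟨_, (hP ⟨v, hv.2⟩).mpr hv.1, rfl⟩).2.2 _ ⟨_, (hP ⟨w, hw.2⟩).mpr hw.1, rfl⟩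
    have h2 : mk (⟨w, hw.2⟩ * ⟨v, hv.2⟩ * ⟨w, hw.2⟩⁻¹ * ⟨v, hv.2⟩⁻¹) = 1 := by
      rw [map_mul, map_mul, map_mul, map_inv, map_inv, hcv, mul_inv_cancel_right, mul_inv_cancel]
    exact hZ _ ((QuotientGroup.eq_one_iff _).mp h2)
  obtain ⟨A, -, -, -, hAc, hA8⟩ := quat_index_two hTp hT hcyc hzT hz
  have h8 : Nat.card ↥((S : Subgroup X) ⊓ K) = 8 := by
    by_cases hiA : i ∈ A
    · refine hA8 j hj (fun hjA => ?_) (hquarter j hj hjj)
      rw [hAc j hjA i hiA] at hji
      exact hz.1 (mul_eq_left.mp hji.symm)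
    · exact hA8 i hi hiA (hquarter i hi hii)
  have hTab : ∀ a b : ↥K, (a : X) ∈ (S : Subgroup X) → (b : X) ∈ (S : Subgroup X) →
      a * b * a⁻¹ * b⁻¹ ∈ center ↥K := fun a b ha hb => hcen _ (by
    simp only [Subgroup.coe_mul, Subgroup.coe_inv]
    exact quat_eight hTp hT hcyc hzT hz h8 ⟨ha, a.2⟩ ⟨hb, b.2⟩)
  have hTc : ∀ x ∈ (T : Subgroup (↥K ⧸ center ↥K)), ∀ y ∈ (T : Subgroup (↥K ⧸ center ↥K)), x * y = y * x := by
    rintro _ ⟨a, ha, rfl⟩ _ ⟨c, hc', rfl⟩
    rw [← mul_inv_eq_iff_eq_mul, ← mul_inv_eq_one, ← map_mul, ← map_inv, ← map_mul, ← map_inv, ← map_mul]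
    exact (QuotientGroup.eq_one_iff _).mpr (hTab a c ((hP a).mp ha) ((hP c).mp hc'))
  haveI hTcom : IsMulCommutative (T : Subgroup (↥K ⧸ center ↥K)) := ⟨⟨fun a c => Subtype.ext (hTc a a.2 c c.2)⟩⟩
  have hsq := fun x hx => CfsgLib.CyclicInt.ti_abelian CfsgLib.CyclicInt.partB hna hci hTI T hTc (x := x) hx
  -- the isomorphism
  have hT4 : Nat.card (T : Subgroup (↥K ⧸ center ↥K)) = 4 := by
    have hcard := CfsgLib.CentralInt.card_ext (mk.subgroupMap (P : Subgroup ↥K)) (mk.subgroupMap_surjective _)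
    have hP8 : Nat.card (P : Subgroup ↥K) = 8 := by
      rw [← h8]
      exact Nat.card_congr
        { toFun := fun x => ⟨(x : ↥K), (hP _).mp x.2, (x : ↥K).2⟩
          invFun := fun x => ⟨⟨x, x.2.2⟩, (hP _).mpr x.2.1⟩
          left_inv := fun x => rfl
          right_inv := fun x => rfl }
    have hker : Nat.card (mk.subgroupMap (P : Subgroup ↥K)).ker = 2 := by
      rw [show (mk.subgroupMap (P : Subgroup ↥K)).ker = (center ↥K).subgroupOf (P : Subgroup ↥K) from
        SetLike.ext fun v => ⟨fun e => mem_subgroupOf.mpr ((QuotientGroup.eq_one_iff _).mp (congrArg Subtype.val e)),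
          fun e => Subtype.ext ((QuotientGroup.eq_one_iff _).mpr (mem_subgroupOf.mp e))⟩,
        Nat.card_congr (subgroupOfEquivOfLe (fun c hc' => (hP c).mpr
          (CfsgLib.pCore_le_sylow S (center_le hO hK hc')))).toEquiv]
      have : center ↥K = zpowers (⟨z, hzT.2⟩ : ↥K) := le_antisymm (fun c hc' => by
        rcases hZ c hc' with e | e
        · rw [show c = 1 from Subtype.ext e]; exact one_mem _
        · rw [show c = ⟨z, hzT.2⟩ from Subtype.ext e]; exact mem_zpowers _)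
        (zpowers_le.mpr (hcen _ (Or.inr rfl)))
      rw [this, Nat.card_zpowers]
      exact orderOf_eq_prime (Subtype.ext (by rw [Subgroup.coe_pow, pow_two]; exact hz.2))
        (fun e => hz.1 (congrArg Subtype.val e))
    rw [hP8, hker, show Nat.card ((P : Subgroup ↥K).map mk) = Nat.card (T : Subgroup (↥K ⧸ center ↥K)) from rfl] at hcard
    omega
  have hiso : Nonempty (↥K ≃* SL25) := by
    obtain ⟨F, i1, i2, hF, ⟨e⟩⟩ := CfsgLib.CentralInt.four_iso hna T hT4 hTcom (fun x hx hx1 c hc' => by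
      refine CfsgLib.CyclicInt.smul_eq_iff_normalizer.mp (hTI (c • T) T x ⟨hx1, hsq x hx⟩ ?_ hx)
      rw [CfsgLib.CyclicInt.mem_smul_sylow, mul_assoc, ← mem_centralizer_singleton_iff.mp hc', inv_mul_cancel_left]
      exact hx)
    haveI : Fact (Nat.Prime 5) := ⟨by norm_num⟩
    obtain ⟨e'⟩ := CfsgLib.CTwoAbelian.psl_four_five hF
    have hne0 : center ↥K ≠ ⊥ := fun e0 => by
      have hb := hcen ⟨z, hzT.2⟩ (Or.inr rfl)
      rw [e0, mem_bot] at hb
      exact hz.1 (congrArg Subtype.val hb)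
    exact CfsgLib.CTwoAbelian.sl_two_five (K := ↥K) (perfect_comp h hns hO hK) hne0 (F := ZMod 5) (ZMod.card 5) (e.trans e')
  refine ⟨hiso, fun s hs hn => ?_⟩
  -- `s` acts trivially
  obtain ⟨k, hk, htr⟩ :=
    ((CfsgLib.CentralInt.listed_of_abelian inferInstance hna T hTcom).good T).trans
  obtain ⟨w, rfl⟩ := hmk k
  have hwT : ∀ v ∈ (S : Subgroup X) ⊓ K, (w : X) * v * (w : X)⁻¹ ∈ (S : Subgroup X) := by
    intro v hv
    obtain ⟨v', hv', e⟩ : mk (w * ⟨v, hv.2⟩ * w⁻¹) ∈ (T : Subgroup (↥K ⧸ center ↥K)) := by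
      rw [map_mul, map_mul, map_inv]
      exact (mem_normalizer_iff.mp hk _).mp ⟨_, (hP ⟨v, hv.2⟩).mpr hv.1, rfl⟩
    obtain ⟨c, hc', e'⟩ := (QuotientGroup.mk'_eq_mk' _).mp e
    have := congrArg Subtype.val e'
    simp only [Subgroup.coe_mul, Subgroup.coe_inv] at this
    rw [← this]
    exact mul_mem ((hP v').mp hv') (CfsgLib.pCore_le_sylow S (center_le hO hK hc'))
  have hwS := normalizes_of_two h hns hO hz hzR hall hK hK' hne hwT (fun v hv => by
    rw [hcomm w w.2 v hv.2, mul_inv_cancel_right]; exact hv.1)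
  set φ := CfsgLib.S3Simple.actQ K ⟨s, hn⟩
  have hsT : ∀ v : ↥K, (v : X) ∈ (S : Subgroup X) → φ (mk v) ∈ (T : Subgroup (↥K ⧸ center ↥K)) := fun v hv => by
    rw [CfsgLib.S3Simple.actQ_apply]
    exact ⟨_, (hP ⟨s * v * s⁻¹, (mem_normalizer_iff.mp hn v).mp v.2⟩).mpr
      (mul_mem (mul_mem hs hv) ((S : Subgroup X).inv_mem hs)), rfl⟩
  obtain ⟨τ, hτ, hφw⟩ : ∃ τ ∈ (T : Subgroup (↥K ⧸ center ↥K)), φ (mk w) = τ * mk w := by
    refine ⟨φ (mk w) * (mk w)⁻¹, ?_, by rw [inv_mul_cancel_right]⟩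
    rw [CfsgLib.S3Simple.actQ_apply, ← map_inv, ← map_mul]
    refine ⟨_, (hP _).mpr ?_, rfl⟩
    simp only [Subgroup.coe_mul, Subgroup.coe_inv]
    rw [show s * (w : X) * s⁻¹ * (w : X)⁻¹ = s * ((w : X) * s⁻¹ * (w : X)⁻¹) by group]
    exact mul_mem hs ((mem_normalizer_iff.mp hwS _).mp ((S : Subgroup X).inv_mem hs))
  have hφc : ∀ (n : ℕ), ∀ x ∈ (T : Subgroup (↥K ⧸ center ↥K)),
      φ (mk w ^ n * x * (mk w ^ n)⁻¹) = mk w ^ n * φ x * (mk w ^ n)⁻¹ := by
    intro n
    induction n with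
    | zero => intro x _; simp
    | succ n ih =>
      intro x hx
      have hy : mk w ^ n * x * (mk w ^ n)⁻¹ ∈ (T : Subgroup (↥K ⧸ center ↥K)) :=
        (mem_normalizer_iff.mp (pow_mem hk n) x).mp hx
      obtain ⟨v, hv, hve⟩ := hy
      have hmem : mk w * φ (mk v) * (mk w)⁻¹ ∈ (T : Subgroup (↥K ⧸ center ↥K)) :=
        (mem_normalizer_iff.mp hk _).mp (hsT v ((hP v).mp hv))
      rw [pow_succ', show mk w * mk w ^ n * x * (mk w * mk w ^ n)⁻¹ = mk w * (mk w ^ n * x * (mk w ^ n)⁻¹) * (mk w)⁻¹ by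
        group, map_mul, map_mul, map_inv, hφw, ih x hx]
      have h2 := hTc τ hτ _ hmem
      rw [show φ (mk v) = mk w ^ n * φ x * (mk w ^ n)⁻¹ by rw [hve, ih x hx]] at h2
      calc τ * mk w * (mk w ^ n * φ x * (mk w ^ n)⁻¹) * (τ * mk w)⁻¹
          = τ * (mk w * (mk w ^ n * φ x * (mk w ^ n)⁻¹) * (mk w)⁻¹) * τ⁻¹ := by group
        _ = _ := by rw [h2, mul_inv_cancel_right]; group
  obtain ⟨t, ht, htz, htc⟩ := exists_central_mod (Q := (S : Subgroup X) ⊓ normalizer (K : Set X))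
    (T := (S : Subgroup X) ⊓ K) (S.2.to_le inf_le_left) (fun v hv => ⟨hv.1, le_normalizer hv.2⟩)
    (fun q hq v hv => ⟨mul_mem (mul_mem hq.1 hv.1) ((S : Subgroup X).inv_mem hq.1), (mem_normalizer_iff.mp hq.2 v).mp hv.2⟩)
    hz hc hT hzT hi hi1
  have hx0 : mk ⟨t, ht.2⟩ ∈ (T : Subgroup (↥K ⧸ center ↥K)) := ⟨_, (hP ⟨t, ht.2⟩).mpr ht.1, rfl⟩
  have hx1 : mk ⟨t, ht.2⟩ ≠ 1 := fun e => by
    rcases hZ _ ((QuotientGroup.eq_one_iff _).mp e) with e1 | e1 <;> rw [show t = _ from e1] at htz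
    · exact hz.1 (by rw [← htz, one_mul])
    · exact hz.1 (by rw [← htz, hz.2])
  have hφt : φ (mk ⟨t, ht.2⟩) = mk ⟨t, ht.2⟩ := by
    rw [CfsgLib.S3Simple.actQ_apply]
    refine mul_inv_eq_one.mp ?_
    rw [← map_inv, ← map_mul]
    exact (QuotientGroup.eq_one_iff _).mpr (hcen _ (htc s ⟨hs, hn⟩))
  have htriv : ∀ x ∈ (T : Subgroup (↥K ⧸ center ↥K)), φ x = x := fun x hx => by
    by_cases hx' : x = 1
    · rw [hx', map_one]
    · obtain ⟨n, rfl⟩ := htr _ hx0 hx1 x hx hx'
      rw [hφc n _ hx0, hφt]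
  exact inner_of_trivial hK hs hn hTab fun a ha => by
    have := htriv (mk a) ⟨a, (hP a).mpr ha, rfl⟩
    rw [CfsgLib.S3Simple.actQ_apply, ← mul_inv_eq_one, ← map_inv, ← map_mul] at this
    exact (QuotientGroup.eq_one_iff _).mp this

/-- Two components give case (b). -/
theorem caseB_of_two (hR : ∀ r ∈ pCore 2 X, In2 z r) {L M : Subgroup X} (hL : IsComponent L) (hM : IsComponent M)
    (hne : L ≠ M) : CaseB X := by
  classical
  haveI : Fact (Nat.Prime 2) := ⟨Nat.prime_two⟩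
  have honly := fun K (hK : IsComponent K) => two_only h hns hO hz hzR hall hL hM hne hK
  obtain ⟨⟨eL⟩, hLs⟩ := comp_pair h hns hO hz hzR hall hL hM hne
  obtain ⟨⟨eM⟩, hMs⟩ := comp_pair h hns hO hz hzR hall hM hL hne.symm
  obtain ⟨hzL, -, hZL⟩ := z_mem h hns hO hz hzR hall hL
  obtain ⟨hzM, -, hZM⟩ := z_mem h hns hO hz hzR hall hM
  have hcomm : ∀ l ∈ L, ∀ m ∈ M, l * m = m * l := fun l hl m hm => by
    have e := (CfsgLib.components_eq_or_commute hL hM).resolve_left hne
    rw [commutator_eq_bot_iff_le_centralizer] at e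
    exact (e hl m hm).symm
  have himg : ∀ (g : X) (K : Subgroup X), IsComponent K →
      K.map (MulAut.conj g).toMonoidHom = L ∨ K.map (MulAut.conj g).toMonoidHom = M := fun g K hK =>
    honly _ (CfsgLib.isComponent_map_equiv (MulAut.conj g) hK)
  have hinjmap : ∀ g : X, L.map (MulAut.conj g).toMonoidHom ≠ M.map (MulAut.conj g).toMonoidHom := fun g e =>
    hne (map_injective (MulAut.conj g).injective e)
  have hnorm : ∀ (g : X) (K : Subgroup X), K.map (MulAut.conj g).toMonoidHom = K ↔ g ∈ normalizer (K : Set X) := by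
    intro g K
    refine ⟨fun e => mem_normalizer_iff.mpr fun v => ?_, fun e => CfsgLib.Local.map_conj_eq_of_mem_normalizer e⟩
    conv_rhs => rw [← e]
    rw [mem_map_equiv, MulAut.conj_symm_apply]
    simp [mul_assoc]
  set N := normalizer (L : Set X)
  have hNM : ∀ g ∈ N, g ∈ normalizer (M : Set X) := fun g hg => by
    refine (hnorm g M).mp ((himg g M hM).resolve_left fun e => hinjmap g ?_)
    rw [(hnorm g L).mpr hg, e]
  have hswap : ∀ g, g ∉ N → L.map (MulAut.conj g).toMonoidHom = M ∧ M.map (MulAut.conj g).toMonoidHom = L := by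
    intro g hg
    have h1 := (himg g L hL).resolve_left fun e => hg ((hnorm g L).mp e)
    refine ⟨h1, (himg g M hM).resolve_right fun e => hinjmap g (h1.trans e.symm)⟩
  set E := L ⊔ M
  haveI hEn : E.Normal := normalizer_eq_top_iff.mp (top_le_iff.mp fun g _ => (hnorm g E).mp (by
    rw [Subgroup.map_sup]
    by_cases hg : g ∈ N
    · rw [(hnorm g L).mpr hg, (hnorm g M).mpr (hNM g hg)]
    · rw [(hswap g hg).1, (hswap g hg).2, sup_comm]))
  have hEN : E ≤ N := sup_le le_normalizer fun m hm => mem_normalizer_iff.mpr fun v => by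
    constructor <;> intro hv
    · rw [← hcomm v hv m hm, mul_inv_cancel_right]; exact hv
    · have := hcomm _ hv m hm
      have e : m * v * m⁻¹ = v := by
        calc m * v * m⁻¹ = m⁻¹ * (m * (m * v * m⁻¹)) := by group
          _ = m⁻¹ * (m * v * m⁻¹ * m) := by rw [this]
          _ = v := by group
      rwa [e] at hv
  have hFE : generalizedFittingSubgroup X ≤ E := by
    refine sup_le (sSup_le fun K hK => ?_) ?_
    · rcases honly K hK with e | e <;> rw [e]
      exacts [le_sup_left, le_sup_right]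
    · rw [fitting_eq hO]
      intro r hr
      rcases hR r hr with e | e <;> rw [e]
      exacts [one_mem _, mem_sup_left hzL.2]
  -- the Sylow subgroup inside the normaliser
  have hSN : (S : Subgroup X) ⊓ N ≤ E := by
    rintro s ⟨hs, hsN⟩
    obtain ⟨t, ht, htC⟩ := hLs s hs hsN
    have hs' : t⁻¹ * s ∈ (S : Subgroup X) := mul_mem ((S : Subgroup X).inv_mem ht.1) hs
    have hs'N : t⁻¹ * s ∈ N := mul_mem (inv_mem (hEN (mem_sup_left ht.2))) hsN
    obtain ⟨t', ht', htC'⟩ := hMs _ hs' (hNM _ hs'N)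
    have hc : t'⁻¹ * (t⁻¹ * s) ∈ centralizer (generalizedFittingSubgroup X : Set X) := by
      have hL' : ∀ l ∈ L, l * (t'⁻¹ * (t⁻¹ * s)) = t'⁻¹ * (t⁻¹ * s) * l := fun l hl =>
        ((show Commute l t'⁻¹ from hcomm l hl _ (inv_mem ht'.2)).mul_right (htC l hl)).eq
      intro v hv
      refine mem_centralizer_singleton_iff.mp ?_
      · exact (show generalizedFittingSubgroup X ≤ centralizer {t'⁻¹ * (t⁻¹ * s)} from sup_le
          (sSup_le fun K hK u hu => by
            rw [mem_centralizer_singleton_iff]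
            rcases honly K hK with e | e
            · exact hL' u (e ▸ hu)
            · exact htC' u (e ▸ hu))
          (by
            rw [fitting_eq hO]
            intro r hr
            rw [mem_centralizer_singleton_iff]
            rcases hR r hr with e | e <;> rw [e]
            · rw [one_mul, mul_one]
            · exact hL' z hzL.2)) hv
    have := mul_mem (mem_sup_left ht.2) (mul_mem (mem_sup_right (S := L) ht'.2)
      (hFE (CfsgLib.centralizer_generalizedFitting_le hc)))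
    rwa [mul_inv_cancel_left, mul_inv_cancel_left] at this
  have hNidx : N.index = 1 ∨ N.index = 2 := by
    by_cases htop : ∀ g : X, g ∈ N
    · exact Or.inl (index_eq_one.mpr (eq_top_iff.mpr fun g _ => htop g))
    obtain ⟨a, ha⟩ := not_forall.mp htop
    refine Or.inr (index_eq_two_iff.mpr ⟨a, fun b => ?_⟩)
    by_cases hb : b ∈ N
    · exact Or.inr ⟨hb, fun e => ha (by simpa using mul_mem (inv_mem hb) e)⟩
    · refine Or.inl ⟨(hnorm _ L).mp ?_, hb⟩
      rw [show (MulAut.conj (b * a)).toMonoidHom = (MulAut.conj b).toMonoidHom.comp (MulAut.conj a).toMonoidHom from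
        MonoidHom.ext fun v => by simp [mul_assoc], ← Subgroup.map_map, (hswap a ha).1, (hswap b hb).2]
  have hNn : N.Normal := by
    rcases hNidx with e | e
    · rw [index_eq_one.mp e]; infer_instance
    · exact normal_of_index_eq_two e
  have hodd : Odd (E.relIndex N) := by
    obtain ⟨-, -, hidx⟩ := Cfsg.FusionSystem.isSylowIn_inf_of_isSubnormal S hNn.isSubnormal
    exact Nat.not_even_iff_odd.mp fun he => hidx (he.two_dvd.trans (relIndex_dvd_of_le_left N hSN))
  refine ⟨E, hEn, ?_, ?_⟩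
  · rcases hNidx with e | e <;> rw [← relIndex_mul_index hEN, e]
    · exact Or.inl (by rwa [mul_one])
    · exact Or.inr ⟨_, hodd, mul_comm _ _⟩
  -- the isomorphism
  let f : SL25 →* X := L.subtype.comp eL.symm.toMonoidHom
  let g : SL25 →* X := M.subtype.comp eM.symm.toMonoidHom
  let Φ : SL25 × SL25 →* X := MonoidHom.noncommCoprod f g fun a b => hcomm _ (eL.symm a).2 _ (eM.symm b).2
  have hΦ : ∀ a b, Φ (a, b) = (eL.symm a : X) * (eM.symm b : X) := fun a b => rfl
  have hneg : ∀ {K : Subgroup X} (e : ↥K ≃* SL25), (∀ c : ↥K, c ∈ center ↥K → In2 z (c : X)) →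
      (e.symm (-1) : X) = z := fun {K} e hZ => by
    have hc : e.symm (-1) ∈ center ↥K := mem_center_iff.mpr fun v => e.injective (by
      rw [map_mul, map_mul, e.apply_symm_apply]
      exact mem_center_iff.mp neg_one_mem_center _)
    refine (hZ _ hc).resolve_left fun e1 => neg_one_ne ?_
    have := congrArg e (show e.symm (-1) = 1 from Subtype.ext e1)
    rwa [e.apply_symm_apply, map_one] at this
  have hzL' := hneg eL hZL
  have hzM' := hneg eM hZM
  let Z : Subgroup (SL25 × SL25) := zpowers ((-1 : SL25), (-1 : SL25))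
  have hcen : ((-1 : SL25), (-1 : SL25)) ∈ center (SL25 × SL25) := mem_center_iff.mpr fun v =>
    Prod.ext (mem_center_iff.mp neg_one_mem_center v.1) (mem_center_iff.mp neg_one_mem_center v.2)
  haveI hZn : Z.Normal := ⟨fun v hv w => by
    rw [mem_center_iff.mp (zpowers_le.mpr hcen hv) w, mul_inv_cancel_right]; exact hv⟩
  have hker : Φ.ker = Z := by
    refine le_antisymm (fun v hv => ?_) (zpowers_le.mpr ?_)
    · obtain ⟨a, b⟩ := v
      rw [MonoidHom.mem_ker, hΦ] at hv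
      have hc : eL.symm a ∈ center ↥L := mem_center_iff.mpr fun l => Subtype.ext (by
        rw [Subgroup.coe_mul, Subgroup.coe_mul, mul_eq_one_iff_eq_inv.mp hv]
        exact hcomm l l.2 _ (inv_mem (eM.symm b).2))
      rcases hZL _ hc with e | e
      · rw [e, one_mul] at hv
        have ha : a = 1 := eL.symm.injective (by rw [map_one]; exact Subtype.ext e)
        have hb : b = 1 := eM.symm.injective (by rw [map_one]; exact Subtype.ext hv)
        rw [ha, hb]; exact one_mem _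
      · rw [e] at hv
        have ha : a = -1 := eL.symm.injective (Subtype.ext (e.trans hzL'.symm))
        have hb : b = -1 := eM.symm.injective (Subtype.ext (by
          rw [eq_inv_of_mul_eq_one_right hv, hz.inv, hzM']))
        rw [ha, hb]; exact mem_zpowers _
    · rw [MonoidHom.mem_ker, hΦ, hzL', hzM', hz.2]
  have hrange : Φ.range = E := by
    refine (MonoidHom.noncommCoprod_range f g _).trans ?_
    congr 1
    · refine le_antisymm ?_ fun v hv => MonoidHom.mem_range.mpr ⟨eL ⟨v, hv⟩, ?_⟩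
      · rintro v ⟨x, rfl⟩; exact (eL.symm x).2
      show ((eL.symm (eL ⟨v, hv⟩) : ↥L) : X) = v
      rw [eL.symm_apply_apply]
    · refine le_antisymm ?_ fun v hv => MonoidHom.mem_range.mpr ⟨eM ⟨v, hv⟩, ?_⟩
      · rintro v ⟨x, rfl⟩; exact (eM.symm x).2
      show ((eM.symm (eM ⟨v, hv⟩) : ↥M) : X) = v
      rw [eM.symm_apply_apply]
  exact ⟨Z, hZn, rfl, ⟨(MulEquiv.subgroupCongr hrange).symm.trans ((QuotientGroup.quotientKerEquivRange Φ).symm.trans
    (QuotientGroup.quotientMulEquivOfEq hker))⟩⟩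

end CfsgLib.RankInt
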