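import Cfsg.Agent.Lib.RankInt.Defs
import Cfsg.Agent.Lib.Components
import Cfsg.Agent.Lib.PSolvable
import Cfsg.Agent.Lib.CentralInt.Core
import Cfsg.Agent.Lib.AfterFT.FixInvolutions

/-!
The components of a non-solvable group without odd core whose Sylow 2-subgroups meet in groups of rank at most one.

Blueprint: `blueprint/bender/S3310.md`.
-/

set_option autoImplicit false
set_option linter.unusedSectionVars false
set_option linter.style.haveILetI false

namespace CfsgLib.RankInt

open Subgroup Cfsg
open CfsgLib.CyclicInt (Inv2 Two)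
open scoped Pointwise

universe u

variable {X : Type u} [Group X] [Finite X]

theorem not_normal_of_ns (hns : ¬ Group.IsSolvable X) (S : Sylow 2 X) : ¬ (S : Subgroup X).Normal := fun hn => hns <| by
  haveI : Fact (Nat.Prime 2) := ⟨Nat.prime_two⟩
  haveI := hn
  haveI : Group.IsNilpotent (S : Subgroup X) := S.2.isNilpotent
  haveI : Group.IsSolvable (X ⧸ (S : Subgroup X)) := Cfsg.Agent.S0205.result (by
    rw [← index_eq_card]
    exact Nat.not_even_iff_odd.mp fun he => S.not_dvd_index he.two_dvd)
  exact solvable_of_ker_le_range (S : Subgroup X).subtype (QuotientGroup.mk' (S : Subgroup X)) (by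
    rw [QuotientGroup.ker_mk', range_subtype])

theorem one_pCore (h : RI X) (hns : ¬ Group.IsSolvable X) : One (pCore 2 X) := by
  haveI : Fact (Nat.Prime 2) := ⟨Nat.prime_two⟩
  intro x hx y hy hxi hyi
  have hne : pCore 2 X ≠ ⊥ := fun e => hxi.1 (mem_bot.mp (e ▸ hx))
  obtain ⟨z, hz, hzi, hzc⟩ := exists_central_inv (CfsgLib.isPGroup_pCore 2) hne
  obtain ⟨S⟩ : Nonempty (Sylow 2 X) := inferInstance
  have key : ∀ v ∈ pCore 2 X, Inv2 v → v = z := fun v hv hvi => by_contra fun e => by
    refine not_normal_of_ns hns S ⟨fun s hs g => ?_⟩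
    have hg : g ∈ normalizer ((S : Subgroup X) : Set X) :=
      h.normalizes hvi hzi e (hzc v hv) (CfsgLib.pCore_le_sylow S hv) (CfsgLib.pCore_le_sylow S hz)
        (CfsgLib.pCore_le_sylow S ((inferInstance : (pCore 2 X).Normal).conj_mem v hv g))
        (CfsgLib.pCore_le_sylow S ((inferInstance : (pCore 2 X).Normal).conj_mem z hz g))
    exact (mem_normalizer_iff.mp hg s).mp hs
  exact (key x hx hxi).trans (key y hy hyi).symm

variable (hO : oddCore X = ⊥)
include hO

theorem fitting_eq : fittingSubgroup X = pCore 2 X := CfsgLib.fitting_eq_pCore Nat.prime_two hO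

/-- An element of the core centralises every component. -/
theorem commute_core {K : Subgroup X} (hK : IsComponent K) {k r : X} (hk : k ∈ K) (hr : r ∈ pCore 2 X) :
    k * r = r * k := by
  have h := CfsgLib.component_commutator_fitting hK
  rw [fitting_eq hO, commutator_eq_bot_iff_le_centralizer] at h
  exact (h hk r hr).symm

open scoped IsMulCommutative in
theorem center_le {K : Subgroup X} (hK : IsComponent K) {v : ↥K} (hv : v ∈ center ↥K) : (v : X) ∈ pCore 2 X := by
  rw [← fitting_eq hO]
  haveI : Group.IsNilpotent ((center ↥K).map K.subtype) :=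
    Group.nilpotent_of_mulEquiv (equivMapOfInjective (center ↥K) _ K.subtype_injective)
  exact CfsgLib.isSubnormal_nilpotent_le_fitting
    ((normal_of_characteristic (center ↥K)).isSubnormal.trans' hK.1) inferInstance ⟨v, hv, rfl⟩

theorem exists_component (h : RI X) (hns : ¬ Group.IsSolvable X) : ∃ L : Subgroup X, IsComponent L := by
  by_contra hcon
  push Not at hcon
  have hlay : layer X = ⊥ := sSup_eq_bot.mpr fun K hK => absurd hK (hcon K)
  have hC : centralizer (pCore 2 X : Set X) ≤ pCore 2 X := by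
    have h1 := CfsgLib.centralizer_generalizedFitting_le (G := X)
    rwa [generalizedFittingSubgroup, hlay, bot_sup_eq, fitting_eq hO] at h1
  set P := derivedSeries X (Nat.card (Subgroup X)) with hP
  obtain ⟨n, hn⟩ : ∃ n, derivedSeries X n = derivedSeries X (n + 1) := by
    obtain ⟨a, b, hab, he⟩ := Finite.exists_ne_map_eq_of_infinite (fun n => derivedSeries X n)
    rcases Nat.lt_or_gt_of_ne hab with hlt | hlt
    · exact ⟨a, le_antisymm (he ▸ derivedSeries_antitone X (by omega)) (derivedSeries_antitone X (by omega))⟩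
    · exact ⟨b, le_antisymm (he.symm ▸ derivedSeries_antitone X (by omega)) (derivedSeries_antitone X (by omega))⟩
  set D := derivedSeries X n with hD
  haveI : D.Normal := derivedSeries_normal X n
  have hDD : commutator D = ⊤ := map_injective D.subtype_injective (by
    rw [_root_.commutator_def, map_commutator, ← MonoidHom.range_eq_map, range_subtype, hD, ← derivedSeries_succ, ← hn])
  have hRp : IsPGroup 2 (pCore 2 X) := CfsgLib.isPGroup_pCore 2
  have htriv := CfsgLib.AfterFT.FixInvolutions.apply_eq_self (fun H _ _ hH => Cfsg.Agent.S0205.result hH) hRp hDD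
    ((MulAut.conjNormal : X →* MulAut (pCore 2 X)).comp D.subtype) (fun d v hv => by
      by_cases hv1 : v = 1
      · rw [hv1, map_one]
      refine Subtype.ext ?_
      show (d : X) * v * (d : X)⁻¹ = v
      have hvi : Inv2 (v : X) := ⟨fun e => hv1 (Subtype.ext e), congrArg Subtype.val hv⟩
      exact one_pCore h hns _ ((inferInstance : (pCore 2 X).Normal).conj_mem _ v.2 _) _ v.2 (hvi.conj _) hvi)
  have hDC : D ≤ pCore 2 X := fun d hd => hC fun r hr => by
    have := congrArg Subtype.val (htriv ⟨d, hd⟩ ⟨r, hr⟩)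
    exact (mul_inv_eq_iff_eq_mul.mp this).symm
  haveI : Group.IsNilpotent (pCore 2 X) := hRp.isNilpotent
  haveI : Group.IsSolvable D := Group.isSolvable_of_isSolvable_injective (inclusion_injective hDC)
  refine hns ⟨n, ?_⟩
  by_contra hne
  haveI : Nontrivial D := (nontrivial_iff_ne_bot _).mpr hne
  exact (Group.IsSolvable.commutator_lt_top_of_nontrivial D).ne hDD

omit hO

/-- The intersection of a component with a Sylow subgroup and the core contain two commuting involutions. -/
def Rich (S : Sylow 2 X) (L : Subgroup X) : Prop :=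
  ∃ x y : X, Inv2 x ∧ Inv2 y ∧ x ≠ y ∧ x * y = y * x ∧
    (∃ t ∈ (S : Subgroup X) ⊓ L, ∃ r ∈ pCore 2 X, x = t * r) ∧
      ∃ t ∈ (S : Subgroup X) ⊓ L, ∃ r ∈ pCore 2 X, y = t * r

theorem Rich.normalizes (h : RI X) {S : Sylow 2 X} {L : Subgroup X} (hr : Rich S L) {g : X}
    (hg : ∀ t ∈ (S : Subgroup X) ⊓ L, g * t * g⁻¹ ∈ (S : Subgroup X)) :
    g ∈ normalizer ((S : Subgroup X) : Set X) := by
  haveI : Fact (Nat.Prime 2) := ⟨Nat.prime_two⟩
  obtain ⟨x, y, hx, hy, hne, hc, ⟨t, ht, r, hr', rfl⟩, ⟨t', ht', r', hr'', rfl⟩⟩ := hr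
  have key : ∀ {t r : X}, t ∈ (S : Subgroup X) ⊓ L → r ∈ pCore 2 X → g * (t * r) * g⁻¹ ∈ (S : Subgroup X) :=
    fun {t r} ht hr => by
      rw [← conj_mul]
      exact mul_mem (hg t ht) (CfsgLib.pCore_le_sylow S ((inferInstance : (pCore 2 X).Normal).conj_mem r hr g))
  exact h.normalizes hx hy hne hc (mul_mem ht.1 (CfsgLib.pCore_le_sylow S hr'))
    (mul_mem ht'.1 (CfsgLib.pCore_le_sylow S hr'')) (key ht hr') (key ht' hr'')

/-- A component does not normalise a Sylow subgroup. -/
theorem component_not_le_normalizer {K : Subgroup X} (hK : IsComponent K) (S : Sylow 2 X) :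
    ¬ K ≤ normalizer ((S : Subgroup X) : Set X) := fun hle => by
  haveI : Fact (Nat.Prime 2) := ⟨Nat.prime_two⟩
  obtain ⟨P, hP⟩ := CfsgLib.CentralInt.exists_sylow_inf S hK
  refine not_normal_of_ns (CfsgLib.isQuasisimple_not_isSolvable hK.2) P ⟨fun p hp g => ?_⟩
  rw [hP] at hp ⊢
  exact (mem_normalizer_iff.mp (hle g.2) _).mp hp

theorem Rich.only (h : RI X) (hO : oddCore X = ⊥) {S : Sylow 2 X} {L : Subgroup X} (hL : IsComponent L)
    (hr : Rich S L) {M : Subgroup X} (hM : IsComponent M) : M = L := by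
  rcases CfsgLib.components_eq_or_commute hM hL with e | e
  · exact e
  refine absurd (fun m hm => hr.normalizes h fun t ht => ?_) (component_not_le_normalizer hM S)
  rw [commutator_eq_bot_iff_le_centralizer] at e
  rw [← e hm t ht.2, mul_inv_cancel_right]
  exact ht.1

theorem normal_of_only {L : Subgroup X} (hL : IsComponent L) (honly : ∀ M : Subgroup X, IsComponent M → M = L) :
    L.Normal := ⟨fun v hv g => by
  have := honly _ (CfsgLib.isComponent_map_equiv (MulAut.conj g) hL)
  exact this ▸ ⟨v, hv, rfl⟩⟩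

/-- The centraliser of a rich component meets `S` in the core. -/
theorem Rich.cent_inf (h : RI X) (hO : oddCore X = ⊥) {S : Sylow 2 X} {L : Subgroup X} (hL : IsComponent L)
    (hr : Rich S L) : centralizer (L : Set X) ⊓ (S : Subgroup X) = pCore 2 X := by
  haveI : Fact (Nat.Prime 2) := ⟨Nat.prime_two⟩
  haveI := normal_of_only hL (fun M hM => hr.only h hO hL hM)
  refine le_antisymm ?_ (le_inf (fun r hr' v hv => commute_core hO hL hv hr') (CfsgLib.pCore_le_sylow S))
  set C := centralizer (L : Set X)
  have hCN : ∀ c ∈ C, c ∈ normalizer ((S : Subgroup X) : Set X) := fun c hc => hr.normalizes h fun t ht => by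
    rw [← hc t ht.2, mul_inv_cancel_right]
    exact ht.1
  haveI : (C ⊓ (S : Subgroup X)).Normal := ⟨fun q hq g => by
    have hC' : g * q * g⁻¹ ∈ C := (normal_centralizer (H := L)).conj_mem q hq.1 g
    exact ⟨hC', ((CfsgLib.CyclicInt.two_of_mem hq.2).conj g).mem_of_normalizer S (hCN _ hC')⟩⟩
  exact CfsgLib.le_pCore (S.2.to_le inf_le_right)

end CfsgLib.RankInt
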