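import Cfsg.Agent.Lib.RankInt.Kinds
import Cfsg.Agent.Lib.CentralInt.Engine

/-!
One component with quaternion Sylow subgroup and core of order two: impossible.

Blueprint: `blueprint/bender/S3310.md`.
-/

set_option autoImplicit false
set_option linter.unusedSectionVars false
set_option linter.style.haveILetI false

namespace CfsgLib.RankInt

open Subgroup Cfsg
open CfsgLib.CyclicInt (Inv2 Two)
open scoped Pointwise commutatorElement

universe u

variable {X : Type u} [Group X] [Finite X]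

/-- An element of `S` acting trivially on the abelian Sylow subgroup of the quotient of a component is inner. -/
theorem inner_of_trivial {S : Sylow 2 X} {L : Subgroup X} (hL : IsComponent L) {y : X} (hy : y ∈ (S : Subgroup X))
    (hn : y ∈ normalizer (L : Set X))
    (hab : ∀ a b : ↥L, (a : X) ∈ (S : Subgroup X) → (b : X) ∈ (S : Subgroup X) →
      a * b * a⁻¹ * b⁻¹ ∈ center ↥L)
    (htriv : ∀ a : ↥L, (a : X) ∈ (S : Subgroup X) →
      (⟨y * a * y⁻¹, (mem_normalizer_iff.mp hn a).mp a.2⟩ : ↥L) * a⁻¹ ∈ center ↥L) :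
    ∃ t ∈ (S : Subgroup X) ⊓ L, t⁻¹ * y ∈ centralizer (L : Set X) := by
  haveI : Fact (Nat.Prime 2) := ⟨Nat.prime_two⟩
  haveI := CfsgLib.S3Simple.component_isSimple hL
  obtain ⟨P, hP⟩ := CfsgLib.CentralInt.exists_sylow_inf S hL
  set mk := QuotientGroup.mk' (center ↥L)
  let T : Sylow 2 (↥L ⧸ center ↥L) := P.mapSurjective (f := mk) (QuotientGroup.mk'_surjective _)
  have hTc : IsMulCommutative (T : Subgroup (↥L ⧸ center ↥L)) := ⟨⟨by
    rintro ⟨_, a, ha, rfl⟩ ⟨_, b, hb, rfl⟩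
    refine Subtype.ext ?_
    show mk a * mk b = mk b * mk a
    have := (QuotientGroup.eq_one_iff _).mpr (hab a b ((hP a).mp ha) ((hP b).mp hb))
    rw [← mul_inv_eq_iff_eq_mul, ← mul_inv_eq_one, ← map_mul, ← map_inv, ← map_mul, ← map_inv, ← map_mul]
    exact this⟩⟩
  have hg := (CfsgLib.CentralInt.listed_of_abelian inferInstance (CfsgLib.S3Simple.component_not_comm hL) T hTc).good T
  obtain ⟨j, hj⟩ := CfsgLib.CentralInt.actQ_pow hy hn
  obtain ⟨q, -, hq⟩ := hg.inner _ j hj (by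
    rintro _ ⟨a, ha, rfl⟩
    rw [CfsgLib.S3Simple.actQ_apply]
    refine mul_inv_eq_one.mp ?_
    rw [← map_inv, ← map_mul]
    exact (QuotientGroup.eq_one_iff _).mpr (htriv a ((hP a).mp ha)))
  exact CfsgLib.CentralInt.split_inner S hL hP hy hn ⟨q, hq.symm⟩

theorem false_of_single (h : RI X) (hns : ¬ Group.IsSolvable X) (hO : oddCore X = ⊥) {S : Sylow 2 X} {L : Subgroup X}
    (hL : IsComponent L) (honly : ∀ M : Subgroup X, IsComponent M → M = L) (hT : One ((S : Subgroup X) ⊓ L))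
    {z : X} (hz : Inv2 z) (hzR : z ∈ pCore 2 X) (hR : ∀ r ∈ pCore 2 X, In2 z r)
    (hnQ : ∀ n : ℕ, IsEmpty (↥(S : Subgroup X) ≃* QuaternionGroup (2 ^ (n + 1)))) : False := by
  classical
  haveI : Fact (Nat.Prime 2) := ⟨Nat.prime_two⟩
  obtain ⟨w, hw, hzT, hwR, hwc, hcyc, hZ⟩ := quat_comp h hns hO hL hT
  obtain rfl : z = w := one_pCore h hns z hzR w hwR hz hw
  haveI hLn := normal_of_only hL honly
  haveI := CfsgLib.S3Simple.component_isSimple hL
  have hna := CfsgLib.S3Simple.component_not_comm hL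
  obtain ⟨P, hP⟩ := CfsgLib.CentralInt.exists_sylow_inf S hL
  have hz2 := hz.2
  have hzi : z⁻¹ = z := inv_eq_of_mul_eq_one_right hz2
  have hTp : IsPGroup 2 ↥((S : Subgroup X) ⊓ L) := S.2.to_le inf_le_left
  have hzS : z ∈ (S : Subgroup X) := hzT.1
  have hc : ∀ g : X, g * z = z * g := fun g =>
    mul_inv_eq_iff_eq_mul.mp (one_pCore h hns _ ((inferInstance : (pCore 2 X).Normal).conj_mem z hzR g) z hzR
      (hz.conj g) hz)
  have hconjIn : ∀ {n v : X}, In2 z v → In2 z (n * v * n⁻¹) := fun {n v} hv => by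
    rcases hv with e | e <;> rw [e]
    · exact Or.inl (by group)
    · exact Or.inr (by rw [hc n, mul_inv_cancel_right])
  have hIn2S : ∀ {v : X}, In2 z v → v ∈ (S : Subgroup X) := fun {v} hv => by
    rcases hv with e | e <;> rw [e]
    exacts [one_mem _, hzS]
  have hIn2L : ∀ {v : X}, In2 z v → v ∈ L := fun {v} hv => by
    rcases hv with e | e <;> rw [e]
    exacts [one_mem _, hzT.2]
  -- the centraliser of the component
  have hC : ∀ c ∈ centralizer (L : Set X), In2 z c := by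
    intro c hc'
    have hlay : layer X ≤ L := sSup_le fun M hM => (honly M hM).le
    have hF : generalizedFittingSubgroup X ≤ L := sup_le hlay (by
      rw [fitting_eq hO]
      exact fun r hr => hIn2L (hR r hr))
    have hcL : c ∈ L := hF (CfsgLib.centralizer_generalizedFitting_le fun v hv => hc' v (hF hv))
    exact hZ ⟨c, hcL⟩ (mem_center_iff.mpr fun l => Subtype.ext (hc' l l.2))
  -- an involution outside the component
  obtain ⟨y, hyS, hy, hyz⟩ : ∃ y ∈ (S : Subgroup X), Inv2 y ∧ y ≠ z := by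
    by_contra hcon
    push Not at hcon
    have hScyc : ¬ IsCyclic ↥(S : Subgroup X) := fun hcy => hcyc
      (isCyclic_of_injective (inclusion (inf_le_left : (S : Subgroup X) ⊓ L ≤ S)) (inclusion_injective _))
    obtain ⟨k, ⟨e⟩⟩ := quat_equiv S.2 (fun a ha b hb hai hbi => (hcon a ha hai).trans (hcon b hb hbi).symm) hScyc
    exact (hnQ k).false e
  have hyL : y ∉ L := fun e => hyz (hT y ⟨hyS, e⟩ z hzT hy hz)
  have hnorm : ∀ c : X, In2 z (c * y * c⁻¹ * y⁻¹) → c ∈ normalizer ((S : Subgroup X) : Set X) := fun c hc' =>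
    h.normalizes hy hz hyz (hc y) hyS hzS (by
      have := mul_mem (hIn2S hc') hyS
      rwa [inv_mul_cancel_right] at this) (by rw [hc c, mul_inv_cancel_right]; exact hzS)
  -- an element central modulo `z`
  let Z : Subgroup X := zpowers z
  haveI hZn : Z.Normal := ⟨fun v hv g => by
    obtain ⟨i, rfl⟩ := mem_zpowers_iff.mp hv
    rw [((show Commute g z from hc g).zpow_right i).eq, mul_inv_cancel_right]
    exact zpow_mem (mem_zpowers z) i⟩
  set π := QuotientGroup.mk' Z
  have hπ : ∀ {v : X}, π v = 1 ↔ In2 z v := fun {v} => by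
    refine ⟨fun e => ?_, fun e => (QuotientGroup.eq_one_iff v).mpr ?_⟩
    · obtain ⟨i, hi⟩ := mem_zpowers_iff.mp ((QuotientGroup.eq_one_iff v).mp e)
      rw [← hi]
      rcases Int.even_or_odd' i with ⟨k, rfl | rfl⟩
      · left; rw [zpow_mul, zpow_two, hz2, one_zpow]
      · right; rw [zpow_add, zpow_mul, zpow_two, hz2, one_zpow, one_mul, zpow_one]
    · rcases e with e | e <;> rw [e]
      exacts [one_mem _, mem_zpowers _]
  obtain ⟨i, hi, j, hj, hii, hjj, hji⟩ := quat_pair hTp hT hcyc hzT hz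
  have hi1 : ¬ In2 z i := fun e => by
    rcases e with e | e <;> rw [e] at hii
    · exact hz.1 (by rw [← hii, one_mul])
    · exact hz.1 (by rw [← hii, hz2])
  obtain ⟨t, htT, htz, htc⟩ : ∃ t ∈ (S : Subgroup X) ⊓ L, t * t = z ∧
      ∀ s ∈ (S : Subgroup X), In2 z (s * t * s⁻¹ * t⁻¹) := by
    obtain ⟨q, hq, hq2, hqc⟩ := CfsgLib.Comp.exists_central_in_normal (p := 2)
      (Q := (S : Subgroup X).map π) (M := ((S : Subgroup X) ⊓ L).map π) (S.2.map π) (map_mono inf_le_left)
      (by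
        rintro _ ⟨s, hs, rfl⟩
        refine CfsgLib.Bender.TwoClosed.mem_normalizer_of_conj ?_
        rintro _ ⟨v, hv, rfl⟩
        exact ⟨s * v * s⁻¹, ⟨mul_mem (mul_mem hs hv.1) ((S : Subgroup X).inv_mem hs), hLn.conj_mem v hv.2 s⟩,
          by rw [map_mul, map_mul, map_inv]⟩)
      (fun e => hi1 (hπ.mp (mem_bot.mp (e ▸ mem_map_of_mem π hi))))
    obtain ⟨t, ht, rfl⟩ := hq
    have ht1 : π t ≠ 1 := fun e => by rw [e, orderOf_one] at hq2; omega
    refine ⟨t, ht, ?_, fun s hs => hπ.mp ?_⟩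
    · have h2 : In2 z (t * t) := hπ.mp (by rw [map_mul, CfsgLib.Involutions.mul_self_eq_one_of_orderOf hq2])
      refine h2.resolve_left fun e => ht1 (hπ.mpr ?_)
      exact (em (t = 1)).imp id fun h1 => hT t ht z hzT ⟨h1, e⟩ hz
    · rw [map_mul, map_mul, map_mul, map_inv, map_inv, hqc _ ⟨s, hs, rfl⟩, mul_inv_cancel_right, mul_inv_cancel]
  have htT' : ∀ v ∈ (S : Subgroup X) ⊓ L, In2 z (v * t * v⁻¹ * t⁻¹) := fun v hv => htc v hv.1
  obtain ⟨A, hAT, hA2, htA, hAclass, hA8⟩ := quat_class hTp hT hcyc hzT hz htT htz htT'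
  have hzA : z ∈ A := htz ▸ mul_mem htA htA
  -- every element of order four is conjugate to `t`
  set mk := QuotientGroup.mk' (center ↥L)
  have hmk : Function.Surjective mk := QuotientGroup.mk'_surjective _
  have hperf : commutator (↥L ⧸ center ↥L) = ⊤ := CfsgLib.CyclicInt.isPerfect hna
  have htrans : ∀ v ∈ (S : Subgroup X) ⊓ L, v * v = z → ∃ g ∈ L, In2 z (t⁻¹ * (g * v * g⁻¹)) := by
    intro v hv hv2
    let T' : Sylow 2 (↥L ⧸ center ↥L) := P.mapSurjective hmk
    have hPeq : (P : Subgroup ↥L) = ((S : Subgroup X) ⊓ L).subgroupOf L :=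
      SetLike.ext fun x => ⟨fun hx => mem_subgroupOf.mpr ⟨(hP x).mp hx, x.2⟩, fun hx => (hP x).mpr (mem_subgroupOf.mp hx).1⟩
    have hcle : center ↥L ≤ A.subgroupOf L := fun c hc' => by
      rw [mem_subgroupOf]
      rcases hZ c hc' with e | e <;> rw [e]
      exacts [one_mem _, hzA]
    have hAP : A.subgroupOf L ≤ (P : Subgroup ↥L) := fun x hx => (hP x).mpr (hAT hx).1
    have hrel : ((A.subgroupOf L).map mk).relIndex (T' : Subgroup (↥L ⧸ center ↥L)) = 2 := by
      rw [show (T' : Subgroup (↥L ⧸ center ↥L)) = (P : Subgroup ↥L).map mk from rfl, relIndex_map_map,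
        QuotientGroup.ker_mk', sup_eq_left.mpr hcle, sup_eq_left.mpr (hcle.trans hAP), hPeq,
        relIndex_subgroupOf inf_le_right, hA2]
    obtain ⟨g, hg⟩ := exists_conj_of_perfect hperf T' (map_mono hAP) hrel (u := mk ⟨v, hv.2⟩) (by
      rw [← map_mul]
      exact (QuotientGroup.eq_one_iff _).mpr (mem_center_iff.mpr fun l => Subtype.ext (by
        show (l : X) * (v * v) = v * v * l
        rw [hv2]; exact hc _)))
    obtain ⟨g, rfl⟩ := hmk g
    obtain ⟨a, ha, e⟩ := hg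
    rw [← map_inv, ← map_mul, ← map_mul] at e
    obtain ⟨c, hc', e'⟩ := (QuotientGroup.mk'_eq_mk' _).mp e
    have hmem : (g : X) * v * (g : X)⁻¹ ∈ A := by
      have h1 : g * ⟨v, hv.2⟩ * g⁻¹ ∈ A.subgroupOf L := by
        rw [← e']; exact mul_mem ha (hcle hc')
      exact h1
    refine ⟨g, g.2, hAclass _ hmem ?_⟩
    rw [conj_mul, hv2, hc, mul_inv_cancel_right]
  -- elements of order four fixed by `y`
  have hfix : ∀ v ∈ (S : Subgroup X) ⊓ L, v * v = z → In2 z (y * v * y⁻¹ * v⁻¹) → In2 z (t⁻¹ * v) := by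
    intro v hv hv2 hyv
    by_contra hne
    obtain ⟨g, hgL, hg⟩ := htrans v hv hv2
    -- the conjugate of `v`
    obtain ⟨e, he, hge⟩ : ∃ e, In2 z e ∧ g * v * g⁻¹ = t * e := ⟨_, hg, by rw [mul_inv_cancel_left]⟩
    have hcent : ∀ s ∈ (S : Subgroup X), In2 z (s * (g * v * g⁻¹) * s⁻¹ * (g * v * g⁻¹)⁻¹) := fun s hs => by
      have he' : Commute s e := by
        rcases he with e1 | e1 <;> rw [e1]
        exacts [Commute.one_right s, hc s]
      rw [hge, show s * (t * e) * s⁻¹ * (t * e)⁻¹ = s * t * (e * s⁻¹) * e⁻¹ * t⁻¹ by group,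
        ← (he'.inv_left).eq, show s * t * (s⁻¹ * e) * e⁻¹ * t⁻¹ = s * t * s⁻¹ * t⁻¹ by group]
      exact htc s hs
    set K := nearTo hz2 hc v
    have hgK : ∀ w : X, g * w * g⁻¹ ∈ (S : Subgroup X) → w ∈ K := fun w hw' => by
      show In2 z (w * v * w⁻¹ * v⁻¹)
      have := hconjIn (n := g⁻¹) (hcent _ hw')
      rwa [show g⁻¹ * (g * w * g⁻¹ * (g * v * g⁻¹) * (g * w * g⁻¹)⁻¹ * (g * v * g⁻¹)⁻¹) * g⁻¹⁻¹ =
        w * v * w⁻¹ * v⁻¹ by group] at this
    have hWK : ((g⁻¹ • S : Sylow 2 X) : Subgroup X) ≤ K := fun w hw' => hgK w (by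
      have := CfsgLib.CyclicInt.mem_smul_sylow.mp hw'
      rwa [inv_inv] at this)
    have hzK : z ∈ K := Or.inl (by rw [← hc v, mul_inv_cancel_right, mul_inv_cancel])
    obtain ⟨-, -, hV⟩ := CfsgLib.CyclicInt.four_group hy hz hyz (hc y)
    have hVK : closure ({y, z} : Set X) ≤ K := by
      refine (closure_le _).mpr ?_
      rintro u (rfl | rfl)
      exacts [hyv, hzK]
    obtain ⟨Q, hQ⟩ := (hV.comap_subtype (K := K)).exists_le_sylow
    obtain ⟨c, hc'⟩ := MulAction.exists_smul_eq K Q ((g⁻¹ • S).subtype hWK)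
    have hkey : g * ((c : X) * y * (c : X)⁻¹) * g⁻¹ ∈ (S : Subgroup X) := by
      have h3 : c * (⟨y, hyv⟩ : K) * c⁻¹ ∈ (((g⁻¹ • S).subtype hWK : Sylow 2 K) : Subgroup K) := by
        rw [← hc']
        exact CfsgLib.CyclicInt.conj_mem_smul_sylow (hQ (subset_closure (Or.inl rfl) : y ∈ closure ({y, z} : Set X)))
      have := CfsgLib.CyclicInt.mem_smul_sylow.mp (show (c : X) * y * (c : X)⁻¹ ∈ ((g⁻¹ • S : Sylow 2 X) : Subgroup X) from h3)
      rwa [inv_inv] at this
    have hn : g * (c : X) ∈ normalizer ((S : Subgroup X) : Set X) :=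
      h.normalizes hy hz hyz (hc y) hyS hzS (by
        rwa [show g * (c : X) * y * (g * (c : X))⁻¹ = g * ((c : X) * y * (c : X)⁻¹) * g⁻¹ by group])
        (by rw [hc _, mul_inv_cancel_right]; exact hzS)
    have hvc : ∀ s ∈ (S : Subgroup X), In2 z (s * v * s⁻¹ * v⁻¹) := fun s hs => by
      have hs' : g * c * s * (g * c)⁻¹ ∈ (S : Subgroup X) := (mem_normalizer_iff.mp hn s).mp hs
      have h1 : (c : X) * s * (c : X)⁻¹ ∈ K := hgK _ (by
        rwa [show g * ((c : X) * s * (c : X)⁻¹) * g⁻¹ = g * c * s * (g * c)⁻¹ by group])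
      have h2 : s ∈ K := by
        have := mul_mem (mul_mem (inv_mem c.2) h1) c.2
        rwa [show (c : X)⁻¹ * ((c : X) * s * (c : X)⁻¹) * c = s by group] at this
      exact h2
    have h8 := hA8 v hv hv2 (fun u hu => hvc u hu.1) hne
    -- `y` acts trivially
    set D := nearTo hz2 hc y
    have hDy : ∀ a, In2 z (y * a * y⁻¹ * a⁻¹) → a ∈ D := fun a ha => by
      show In2 z (a * y * a⁻¹ * y⁻¹)
      rw [show a * y * a⁻¹ * y⁻¹ = (y * a * y⁻¹ * a⁻¹)⁻¹ by group]
      exact ha.inv hz2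
    have hle : (S : Subgroup X) ⊓ L ≤ D := by
      set E := D ⊓ ((S : Subgroup X) ⊓ L)
      have htE : t ∈ E := ⟨hDy t (htc y hyS), htT⟩
      have hvE : v ∈ E := ⟨hDy v hyv, hv⟩
      have h4 : Nat.card (zpowers t) = 4 := by
        rw [Nat.card_zpowers]
        refine orderOf_eq_prime_pow (p := 2) (n := 1) (by rw [pow_one, pow_two, htz]; exact hz.1) ?_
        rw [show (2 : ℕ) ^ (1 + 1) = 2 * 2 by norm_num, pow_mul, pow_two, pow_two, htz, hz2]
      have hlt : zpowers t < E := by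
        refine lt_of_le_of_ne (zpowers_le.mpr htE) fun e => hne ?_
        obtain ⟨l, hl⟩ := mem_zpowers_iff.mp (e ▸ hvE)
        refine one_in2 hTp hT hcyc hzT hz (mul_mem (inv_mem htT) hv) ?_
        have hcm : Commute t v := by rw [← hl]; exact (Commute.refl t).zpow_right l
        rw [mul_assoc, ← mul_assoc v, ← hcm.inv_left.eq, mul_assoc, hv2, ← mul_assoc, ← mul_inv_rev, htz, inv_mul_cancel]
      have h5 : Nat.card E ∣ 8 := h8 ▸ card_dvd_of_le inf_le_right
      have h6 : 4 < Nat.card E := by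
        rw [← h4]
        by_contra hcon
        exact hlt.ne (eq_of_le_of_card_ge hlt.le (not_lt.mp hcon))
      have h7 : Nat.card E = 8 := by
        obtain ⟨q, hq⟩ := h5
        rcases Nat.lt_or_ge q 2 with hq2 | hq2
        · interval_cases q <;> omega
        · have := Nat.mul_le_mul_left (Nat.card E) hq2
          omega
      exact (eq_of_le_of_card_ge inf_le_right (by rw [h7, h8]) ).ge.trans inf_le_left
    have hcen : ∀ c : ↥L, In2 z (c : X) → c ∈ center ↥L := fun c hc' => mem_center_iff.mpr fun l => Subtype.ext (by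
      rw [Subgroup.coe_mul, Subgroup.coe_mul]
      rcases hc' with e1 | e1 <;> rw [e1]
      exacts [by rw [one_mul, mul_one], hc _])
    obtain ⟨t', ht', htC⟩ := inner_of_trivial hL hyS (by rw [normalizer_eq_top]; exact mem_top y)
      (fun a b ha hb => hcen _ (by
        simp only [Subgroup.coe_mul, Subgroup.coe_inv]
        exact quat_eight hTp hT hcyc hzT hz h8 ⟨ha, a.2⟩ ⟨hb, b.2⟩))
      (fun a ha => hcen _ (by
        simp only [Subgroup.coe_mul, Subgroup.coe_inv]
        have := (hle ⟨ha, a.2⟩ : In2 z ((a : X) * y * (a : X)⁻¹ * y⁻¹)).inv hz2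
        rwa [show ((a : X) * y * (a : X)⁻¹ * y⁻¹)⁻¹ = y * a * y⁻¹ * (a : X)⁻¹ by group] at this))
    refine hyL ?_
    have := mul_mem ht'.2 (hIn2L (hC _ htC))
    rwa [mul_inv_cancel_left] at this
  -- an element moving `y` to `y t`
  obtain ⟨g, hgT, hgy⟩ : ∃ g ∈ (S : Subgroup X) ⊓ L, π (g * y * g⁻¹) = π t * π y := by
    set D := nearTo hz2 hc y
    obtain ⟨a0, ha0, ha0D⟩ : ∃ a ∈ (S : Subgroup X) ⊓ L, a ∉ D := by
      by_contra hcon
      push Not at hcon
      have hfixD : ∀ {v : X}, v ∈ (S : Subgroup X) ⊓ L → v * v = z → In2 z (t⁻¹ * v) := fun {v} hv hv2 =>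
        hfix v hv hv2 (by
          rw [show y * v * y⁻¹ * v⁻¹ = (v * y * v⁻¹ * y⁻¹)⁻¹ by group]
          exact (hcon v hv).inv hz2)
      have key : j * i = i * j := by
        have e1 := hfixD hi hii
        have e2 := hfixD hj hjj
        have hci : ∀ {e : X}, In2 z e → ∀ u : X, Commute u e := fun {e} he u => by
          rcases he with e3 | e3 <;> rw [e3]
          exacts [Commute.one_right u, hc u]
        have hi' : i = t * (t⁻¹ * i) := (mul_inv_cancel_left t i).symm
        have hj' : j = t * (t⁻¹ * j) := (mul_inv_cancel_left t j).symm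
        rw [hi', hj']
        exact (((Commute.refl t).mul_left (hci e2 t).symm).mul_right ((hci e1 t).mul_left ((hci e2 _).symm))).eq
      rw [key] at hji
      exact hz.1 (mul_eq_left.mp hji.symm)
    obtain ⟨n, hn⟩ := (Subgroup.isNilpotent_iff_lowerCentralSeries (S := (S : Subgroup X))).mp S.2.isNilpotent
    let f : X → X := fun a => a * y * a⁻¹ * y⁻¹
    have hf : ∀ k, f^[k] a0 ∈ (S : Subgroup X).lowerCentralSeries k ∧ f^[k] a0 ∈ (S : Subgroup X) ⊓ L := by
      intro k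
      induction k with
      | zero => exact ⟨ha0.1, ha0⟩
      | succ k ih =>
        rw [Function.iterate_succ_apply']
        refine ⟨?_, mul_mem (mul_mem (mul_mem ih.2.1 hyS) ((S : Subgroup X).inv_mem ih.2.1)) ((S : Subgroup X).inv_mem hyS), ?_⟩
        · rw [Subgroup.lowerCentralSeries_succ]
          exact commutator_mem_commutator ih.1 hyS
        · show f^[k] a0 * y * (f^[k] a0)⁻¹ * y⁻¹ ∈ L
          rw [show f^[k] a0 * y * (f^[k] a0)⁻¹ * y⁻¹ = f^[k] a0 * (y * (f^[k] a0)⁻¹ * y⁻¹) by group]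
          exact mul_mem ih.2.2 (hLn.conj_mem _ (inv_mem ih.2.2) y)
    have hex : ∃ k, f^[k] a0 ∈ D := ⟨n, by
      have e := (hf n).1
      rw [hn, mem_bot] at e
      rw [e]; exact one_mem D⟩
    obtain ⟨k, hk⟩ : ∃ k, Nat.find hex = k + 1 := ⟨Nat.find hex - 1, by
      have : Nat.find hex ≠ 0 := fun e => ha0D (by simpa [e] using Nat.find_spec hex)
      omega⟩
    set a := f^[k] a0
    have haD : a ∉ D := Nat.find_min hex (by omega)
    have hbD : f a ∈ D := by
      have := Nat.find_spec hex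
      rwa [hk, Function.iterate_succ_apply'] at this
    set b := f a with hb
    have hbT : b ∈ (S : Subgroup X) ⊓ L := by
      have := (hf (k + 1)).2
      rwa [Function.iterate_succ_apply'] at this
    have hby : b * y * (b * y) = 1 := by
      rw [show b * y = a * y * a⁻¹ by rw [hb]; simp [f]]
      rw [conj_mul, hy.2, mul_one, mul_inv_cancel]
    have hyb : In2 z (y * b * y⁻¹ * b⁻¹) := by
      rw [show y * b * y⁻¹ * b⁻¹ = (b * y * b⁻¹ * y⁻¹)⁻¹ by group]
      exact (hbD : In2 z (b * y * b⁻¹ * y⁻¹)).inv hz2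
    have hbb : In2 z (b * b) := by
      have h1 : y * b * y⁻¹ = b⁻¹ := by
        rw [hy.inv]
        exact eq_inv_of_mul_eq_one_right (by rw [← hby]; group)
      have h2 := hyb.inv hz2
      rwa [h1, mul_inv_rev, inv_inv] at h2
    have hb2 : b * b = z := hbb.resolve_left fun e => haD <| by
      have : In2 z b := one_in2 hTp hT hcyc hzT hz hbT e
      exact this
    refine ⟨a, (hf k).2, ?_⟩
    have hbt := hπ.mpr (hfix b hbT hb2 hyb)
    rw [map_mul, map_inv, inv_mul_eq_one] at hbt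
    rw [hbt, ← map_mul, hb]
    exact congrArg π (by simp [f])
  -- fixed involutions of the quotient
  have hallz : ∀ l ∈ L, l * l = 1 → In2 z l := by
    intro l hl hl2
    by_cases hl1 : l = 1
    · exact Or.inl hl1
    obtain ⟨Q, hQ⟩ := Two.exists_sylow (⟨1, Subtype.ext (by rw [pow_one, Subgroup.coe_pow, pow_two]; exact hl2)⟩ :
      Two (⟨l, hl⟩ : ↥L))
    obtain ⟨g', hg'⟩ := MulAction.exists_smul_eq ↥L Q P
    have hmem : ((g' * ⟨l, hl⟩ * g'⁻¹ : ↥L) : X) ∈ (S : Subgroup X) :=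
      (hP _).mp (hg' ▸ CfsgLib.CyclicInt.conj_mem_smul_sylow hQ)
    have h1 : (g' : X) * l * (g' : X)⁻¹ = z :=
      hT _ ⟨hmem, (g' * ⟨l, hl⟩ * g'⁻¹).2⟩ z hzT ((show Inv2 l from ⟨hl1, hl2⟩).conj _) hz
    right
    calc l = (g' : X)⁻¹ * ((g' : X) * l * (g' : X)⁻¹) * g' := by group
      _ = z := by rw [h1, mul_assoc, ← hc (g' : X), inv_mul_cancel_left]
  set N := L.map π
  haveI hNn : N.Normal := hLn.map π (QuotientGroup.mk'_surjective Z)
  set τ := π t
  set a := π y
  have haI : Inv2 a := ⟨fun e => hyL (hIn2L (hπ.mp e)), by rw [← map_mul, hy.2, map_one]⟩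
  have haN : a ∉ N := by
    rintro ⟨l, hl, e⟩
    have h1 : In2 z (l⁻¹ * y) := hπ.mp (by rw [map_mul, map_inv, e, inv_mul_cancel])
    refine hyL ?_
    have := mul_mem hl (hIn2L h1)
    rwa [mul_inv_cancel_left] at this
  have hτ2 : τ * τ = 1 := by rw [← map_mul, htz]; exact hπ.mpr (Or.inr rfl)
  have hkey : ∀ n ∈ N, n * n = 1 → n * a = a * n → n = 1 ∨ n = τ := by
    rintro _ ⟨l, hl, rfl⟩ hn2 hna'
    rcases hπ.mp (show π (l * l) = 1 by rw [map_mul, hn2]) with e | e
    · exact Or.inl (hπ.mpr (hallz l hl e))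
    · right
      have hly : In2 z (l * y * l⁻¹ * y⁻¹) := hπ.mp (by
        rw [map_mul, map_mul, map_mul, map_inv, map_inv, hna', mul_inv_cancel_right, mul_inv_cancel])
      have hlS : l ∈ (S : Subgroup X) := Two.mem_of_normalizer ⟨2, by
        rw [show (2 : ℕ) ^ 2 = 2 * 2 by norm_num, pow_mul, pow_two, pow_two, e, hz2]⟩ S (hnorm l hly)
      have h2 := hπ.mpr (hfix l ⟨hlS, hl⟩ e (by
        rw [show y * l * y⁻¹ * l⁻¹ = (l * y * l⁻¹ * y⁻¹)⁻¹ by group]
        exact hly.inv hz2))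
      rw [map_mul, map_inv, inv_mul_eq_one] at h2
      exact h2.symm
  have hτc : ∀ s ∈ (S : Subgroup X), π s * τ * (π s)⁻¹ = τ := fun s hs => by
    have := hπ.mpr (htc s hs)
    rwa [map_mul, map_mul, map_mul, map_inv, map_inv, mul_inv_eq_one] at this
  have haτ : a * τ = τ * a := mul_inv_eq_iff_eq_mul.mp (hτc y hyS)
  have hga : π g * a * (π g)⁻¹ = τ * a := by rw [← hgy, map_mul, map_mul, map_inv]
  have hkey' : ∀ n ∈ N, n * n = 1 → n * (τ * a) = τ * a * n → n = 1 ∨ n = τ := fun n hn hn2 hc' => by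
    have h1 := hkey ((π g)⁻¹ * n * π g) (by simpa using hNn.conj_mem n hn (π g)⁻¹) (by
      rw [show (π g)⁻¹ * n * π g * ((π g)⁻¹ * n * π g) = (π g)⁻¹ * (n * n) * π g by group, hn2, mul_one, inv_mul_cancel])
      (by
        calc (π g)⁻¹ * n * π g * a = (π g)⁻¹ * (n * (π g * a * (π g)⁻¹)) * π g := by group
          _ = (π g)⁻¹ * (π g * a * (π g)⁻¹ * n) * π g := by rw [hga, hc']
          _ = a * ((π g)⁻¹ * n * π g) := by group)
    rcases h1 with e | e
    · exact Or.inl (by rw [show n = π g * ((π g)⁻¹ * n * π g) * (π g)⁻¹ by group, e, mul_one, mul_inv_cancel])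
    · exact Or.inr (by rw [show n = π g * ((π g)⁻¹ * n * π g) * (π g)⁻¹ by group, e, hτc g hgT.1])
  have hall : ∀ b ∈ N, b ≠ 1 → b * b = 1 → b * τ = τ * b := by
    intro b hb hb1 hb2
    have heven : Even (orderOf (a * b)) := Nat.not_odd_iff_even.mp fun hodd => by
      obtain ⟨d, -, hd⟩ := CfsgLib.Involutions.exists_conj_eq_of_odd haI.2 hb2 hodd
      refine haN ?_
      rw [show a = d⁻¹ * b * d⁻¹⁻¹ by rw [← hd]; group]
      exact hNn.conj_mem b hb _
    obtain ⟨m, hmI, hma, hmb⟩ := haI.central ⟨hb1, hb2⟩ heven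
    have hcos : ∀ k : ℕ, (a * b) ^ k ∈ N ∨ (a * b) ^ k * a ∈ N := by
      intro k
      induction k with
      | zero => exact Or.inl (by rw [pow_zero]; exact one_mem N)
      | succ k ih =>
        rcases ih with h1 | h1
        · refine Or.inr ?_
          rw [pow_succ, show (a * b) ^ k * (a * b) * a = (a * b) ^ k * (a * b * a⁻¹) by rw [haI.inv]; group]
          exact mul_mem h1 (hNn.conj_mem b hb a)
        · refine Or.inl ?_
          rw [pow_succ, ← mul_assoc]
          exact mul_mem h1 hb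
    rcases hcos m with h1 | h1
    · rw [← (hkey _ h1 hmI.2 hma.symm).resolve_left hmI.1]
      exact hmb
    · set jj := (a * b) ^ m
      have hn2 : jj * a * (jj * a) = 1 := by
        rw [show jj * a * (jj * a) = jj * (a * jj) * a by group, hma, ← mul_assoc, hmI.2, one_mul, haI.2]
      rcases hkey _ h1 hn2 (by rw [← mul_assoc a, hma]) with e | e
      · have : jj = a := by rw [mul_eq_one_iff_eq_inv.mp e, haI.inv]
        rw [this] at hmb
        rw [(hkey b hb hb2 hmb).resolve_left hb1]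
      · have : jj = τ * a := by rw [← e, mul_assoc, haI.2, mul_one]
        rw [this] at hmb
        rw [(hkey' b hb hb2 hmb).resolve_left hb1]
  -- the conjugates of `t` commute
  set tb := mk ⟨t, htT.2⟩
  have htb1 : tb ≠ 1 := fun e => by
    rcases hZ _ ((QuotientGroup.eq_one_iff _).mp e) with e1 | e1 <;> rw [show t = _ from e1] at htz
    · exact hz.1 (by rw [← htz, one_mul])
    · exact hz.1 (by rw [← htz, hz2])
  have hcomm : ∀ q : ↥L ⧸ center ↥L, q * tb * q⁻¹ * tb = tb * (q * tb * q⁻¹) := by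
    intro q
    obtain ⟨l, rfl⟩ := hmk q
    have h1 : π (l : X) * τ * (π (l : X))⁻¹ * τ = τ * (π (l : X) * τ * (π (l : X))⁻¹) := by
      refine hall _ ⟨(l : X) * t * (l : X)⁻¹, mul_mem (mul_mem l.2 htT.2) (inv_mem l.2), by rw [map_mul, map_mul, map_inv]⟩
        (fun e => htb1 ?_) (by rw [conj_mul, hτ2, mul_one, mul_inv_cancel])
      refine (QuotientGroup.eq_one_iff _).mpr (mem_center_iff.mpr fun u => Subtype.ext ?_)
      rw [conj_eq_one_iff] at e
      show (u : X) * t = t * u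
      rcases hπ.mp e with e1 | e1 <;> rw [e1]
      exacts [by rw [one_mul, mul_one], hc _]
    rw [← map_mul, ← map_inv, ← map_mul, ← map_mul, ← map_mul, ← mul_inv_eq_one, ← map_inv, ← map_mul] at h1
    rw [← map_inv, ← map_mul, ← map_mul, ← map_mul, ← map_mul, ← mul_inv_eq_one, ← map_inv, ← map_mul]
    refine (QuotientGroup.eq_one_iff _).mpr (mem_center_iff.mpr fun u => Subtype.ext ?_)
    simp only [Subgroup.coe_mul, Subgroup.coe_inv]
    rcases hπ.mp h1 with e1 | e1 <;> rw [e1]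
    exacts [by rw [one_mul, mul_one], hc _]
  refine hna ⟨⟨fun p q => ?_⟩⟩
  have htop : normalClosure ({tb} : Set (↥L ⧸ center ↥L)) = ⊤ :=
    (IsSimpleGroup.eq_bot_or_eq_top_of_normal _ inferInstance).resolve_left fun e =>
      htb1 (mem_bot.mp (e ▸ subset_normalClosure rfl))
  haveI : IsMulCommutative ↥(normalClosure ({tb} : Set (↥L ⧸ center ↥L))) :=
    Subgroup.isMulCommutative_closure fun c hc1 d hd1 => by
      rw [Group.mem_conjugatesOfSet_iff] at hc1 hd1
      obtain ⟨_, rfl, hc1⟩ := hc1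
      obtain ⟨_, rfl, hd1⟩ := hd1
      obtain ⟨q1, rfl⟩ := isConj_iff.mp hc1
      obtain ⟨q2, rfl⟩ := isConj_iff.mp hd1
      have h1 := hcomm (q1⁻¹ * q2)
      calc q1 * tb * q1⁻¹ * (q2 * tb * q2⁻¹)
          = q1 * (tb * (q1⁻¹ * q2 * tb * (q1⁻¹ * q2)⁻¹)) * q1⁻¹ := by group
        _ = q1 * (q1⁻¹ * q2 * tb * (q1⁻¹ * q2)⁻¹ * tb) * q1⁻¹ := by rw [h1]
        _ = q2 * tb * q2⁻¹ * (q1 * tb * q1⁻¹) := by group
  exact congrArg Subtype.val (mul_comm' (⟨p, htop ▸ mem_top p⟩ : normalClosure ({tb} : Set (↥L ⧸ center ↥L)))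
    ⟨q, htop ▸ mem_top q⟩)

end CfsgLib.RankInt
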